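import Mathlib.GroupTheory.Transfer
import Mathlib.GroupTheory.Sylow
import Mathlib.Tactic.Group
import Mathlib.Tactic.NormNum
import Mathlib.Algebra.Field.ZMod
import Mathlib.FieldTheory.Finite.Basic

/-!
# Groups of order `105` or `315` contain an element of order seven with a centralizer of order divisible by `5`
-/

set_option autoImplicit false
set_option linter.style.haveILetI false

namespace CfsgLib.SuzTwoB

open Subgroup

universe u

variable {J : Type u} [Group J]

/-- An element inverting or fixing a generator: an automorphism of a cyclic group of prime order has order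
dividing `p - 1`. -/
theorem commute_of_conj_zpowers [Finite J] {b g : J} {p m : ℕ} [hp : Fact p.Prime] (hb : orderOf b = p)
    (hg : g * b * g⁻¹ ∈ zpowers b) (hgm : g ^ m = 1) (hcop : Nat.Coprime m (p - 1)) : Commute g b := by
  rw [← mem_powers_iff_mem_zpowers] at hg
  obtain ⟨k, hk : b ^ k = g * b * g⁻¹⟩ := hg
  have hpow : ∀ n : ℕ, g ^ n * b * (g ^ n)⁻¹ = b ^ k ^ n := by
    intro n
    induction n with
    | zero => simp
    | succ n ih =>
      rw [pow_succ', show g * g ^ n * b * (g * g ^ n)⁻¹ = g * (g ^ n * b * (g ^ n)⁻¹) * g⁻¹ by group, ih,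
        ← conj_pow, ← hk, ← pow_mul, pow_succ']
  have h1 := hpow m
  rw [hgm, one_mul, inv_one, mul_one] at h1
  have hkm : (k : ZMod p) ^ m = 1 := by
    have := (pow_eq_pow_iff_modEq (x := b) (n := k ^ m) (m := 1)).1 (by rw [pow_one]; exact h1.symm)
    rw [hb, ← ZMod.natCast_eq_natCast_iff] at this
    simpa using this
  have hk0 : (k : ZMod p) ≠ 0 := by
    intro e
    rw [e] at hkm
    rcases Nat.eq_zero_or_pos m with rfl | hm
    · rw [Nat.coprime_zero_left] at hcop
      have hp2 : p = 2 := by omega
      have hbk : b ^ k = 1 := by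
        rw [← orderOf_dvd_iff_pow_eq_one, hb]; exact (ZMod.natCast_eq_zero_iff k p).1 e
      rw [hbk, eq_comm, conj_eq_one_iff] at hk
      rw [hk, orderOf_one] at hb
      omega
    · rw [zero_pow hm.ne'] at hkm
      exact zero_ne_one hkm
  have h2 : orderOf (Units.mk0 (k : ZMod p) hk0) = 1 := by
    refine Nat.eq_one_of_dvd_coprimes hcop ?_ ?_
    · exact orderOf_dvd_of_pow_eq_one (Units.ext (by simpa using hkm))
    · have := orderOf_dvd_card (x := Units.mk0 (k : ZMod p) hk0)
      rwa [ZMod.card_units_eq_totient, Nat.totient_prime hp.1] at this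
  rw [orderOf_eq_one_iff] at h2
  have hk1 : b ^ k = b := by
    conv_rhs => rw [← pow_one b]
    rw [pow_eq_pow_iff_modEq, hb, ← ZMod.natCast_eq_natCast_iff]
    simpa using congrArg Units.val h2
  show g * b = b * g
  rw [hk1] at hk
  calc g * b = g * b * g⁻¹ * g := by group
    _ = b * g := by rw [← hk]

/-- No group of order `105` or `315` has all elements of order five moving all elements of order seven. -/
theorem exists_commute_five_seven [Finite J] (hJ : Nat.card J = 105 ∨ Nat.card J = 315) :
    ∃ b g : J, orderOf b = 7 ∧ orderOf g = 5 ∧ Commute g b := by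
  classical
  haveI : Fact (Nat.Prime 5) := ⟨by decide⟩
  haveI : Fact (Nat.Prime 7) := ⟨by decide⟩
  have h5 : 5 ∣ Nat.card J := by rcases hJ with h | h <;> rw [h] <;> norm_num
  obtain ⟨f, hf⟩ := exists_prime_orderOf_dvd_card' 5 h5
  obtain ⟨P, hP⟩ := (IsPGroup.of_card (p := 5) (n := 1)
    (show Nat.card (zpowers f) = 5 ^ 1 by rw [Nat.card_zpowers, hf]; norm_num)).exists_le_sylow
  obtain ⟨k, hk⟩ := P.isPGroup'.exists_card_eq
  have hkd : 5 ^ k ∣ Nat.card J := hk ▸ card_subgroup_dvd_card (P : Subgroup J)
  have hk1 : k ≤ 1 := by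
    by_contra hc
    have h25 : 25 ∣ Nat.card J := (pow_dvd_pow 5 (show 2 ≤ k by omega)).trans hkd
    rcases hJ with h | h <;> rw [h] at h25 <;> norm_num at h25
  have hPz : (P : Subgroup J) = zpowers f := (eq_of_le_of_card_ge hP (by
    rw [hk, Nat.card_zpowers, hf]
    calc 5 ^ k ≤ 5 ^ 1 := Nat.pow_le_pow_right (by norm_num) hk1
      _ = 5 := by norm_num)).symm
  -- the normalizer centralizes
  have hN : normalizer ((P : Subgroup J) : Set J) ≤ centralizer ((P : Subgroup J) : Set J) := by
    intro g hg
    rw [hPz] at hg ⊢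
    refine mem_centralizer_iff.2 fun x hx => ?_
    obtain ⟨i, rfl⟩ := mem_zpowers_iff.1 hx
    refine (Commute.zpow_left ?_ i).eq
    refine (commute_of_conj_zpowers hf ((mem_normalizer_iff.1 hg f).1 (mem_zpowers f))
      (pow_card_eq_one' (x := g)) ?_).symm
    rcases hJ with h | h <;> rw [h] <;> decide
  haveI : (P : Subgroup J).FiniteIndex := ⟨index_ne_zero_of_finite⟩
  set K := (MonoidHom.transferSylow P hN).ker with hKdef
  have hidx : K.index = 5 := by
    rw [(MonoidHom.ker_transferSylow_isComplement' P hN).symm.index_eq_card, hPz, Nat.card_zpowers, hf]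
  have hKcard : Nat.card K = 21 ∨ Nat.card K = 63 := by
    have := K.card_mul_index
    rw [hidx] at this
    omega
  obtain ⟨b, hb⟩ := exists_prime_orderOf_dvd_card' (G := K) 7 (by rcases hKcard with h | h <;> rw [h] <;> norm_num)
  obtain ⟨Q, hQ⟩ := (IsPGroup.of_card (p := 7) (n := 1)
    (show Nat.card (zpowers b) = 7 ^ 1 by rw [Nat.card_zpowers, hb]; norm_num)).exists_le_sylow
  have hQc : Nat.card Q = 7 := by
    obtain ⟨k, hk⟩ := Q.isPGroup'.exists_card_eq
    have h1 := card_le_of_le hQ
    rw [Nat.card_zpowers, hb, hk] at h1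
    have h2 : 7 ^ k ∣ Nat.card K := hk ▸ card_subgroup_dvd_card (Q : Subgroup K)
    have h3 : k < 2 := by
      by_contra hc
      have h49 : 49 ∣ Nat.card K := (pow_dvd_pow 7 (show 2 ≤ k by omega)).trans h2
      rcases hKcard with h | h <;> rw [h] at h49 <;> norm_num at h49
    interval_cases k
    · norm_num at h1
    · rw [hk]; norm_num
  have huniq : Subsingleton (Sylow 7 K) := by
    refine (Nat.card_eq_one_iff_unique.1 ?_).1
    have h1 := Q.card_dvd_index
    have h2 := card_sylow_modEq_one 7 K
    have h3 := (Q : Subgroup K).card_mul_index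
    rw [hQc] at h3
    have h9 : (Q : Subgroup K).index = 3 ∨ (Q : Subgroup K).index = 9 := by omega
    unfold Nat.ModEq at h2
    have hle : Nat.card (Sylow 7 K) ≤ 9 := (Nat.le_of_dvd (by omega) h1).trans (by omega)
    interval_cases h : Nat.card (Sylow 7 K) <;> first | omega | (exfalso; rcases h9 with e | e <;> rw [e] at h1 <;> norm_num at h1)
  have hQz : (Q : Subgroup K) = zpowers b := (eq_of_le_of_card_ge hQ (by rw [hQc, Nat.card_zpowers, hb])).symm
  haveI : (Q : Subgroup K).Normal := Sylow.normal_of_subsingleton Q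
  haveI : (Q : Subgroup K).Characteristic := Q.characteristic_of_subsingleton
  have hnorm : ((Q : Subgroup K).map K.subtype).Normal := inferInstance
  rw [hQz, MonoidHom.map_zpowers] at hnorm
  refine ⟨b, f, by rw [Subgroup.orderOf_coe, hb], hf, ?_⟩
  exact commute_of_conj_zpowers (p := 7) (by rw [Subgroup.orderOf_coe, hb]) (hnorm.conj_mem _ (mem_zpowers _) f)
    (by rw [← hf, pow_orderOf_eq_one]) (by decide : Nat.Coprime 5 (7 - 1))

end CfsgLib.SuzTwoB
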