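import Cfsg.Agent.Lib.SuzTwoB.HOrder
import Cfsg.Agent.Lib.SuzTwoB.Odd35

/-!
# The centralizer of an involution of the second class has order `161280`
-/

set_option autoImplicit false
set_option linter.style.haveILetI false
set_option synthInstance.maxSize 20000
set_option maxRecDepth 10000

namespace CfsgLib.SuzTwoB

open CfsgLib.Classical.Quad CfsgLib.SuzType Subgroup

universe u

variable {G : Type u} [Group G]

namespace Conf

variable {S : Sys G} {s u y : G} {π π' : G → V6} (K : Conf S s u y π π')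

/-- The normalizer of `H` in the centralizer of the representative. -/
def N (K : Conf S s u y π π') (t0 : G) : Subgroup G :=
  centralizer ({t0} : Set G) ⊓ normalizer (K.H : Set G)

include K

theorem mem_N {t0 x : G} : x ∈ K.N t0 ↔ Commute x t0 ∧ ∀ h, h ∈ K.H ↔ x * h * x⁻¹ ∈ K.H := by
  rw [N, Subgroup.mem_inf, mem_centralizer_singleton_iff, mem_normalizer_iff]
  rfl

theorem H_comm_W {h t : G} (hh : h ∈ K.H) (ht : t ∈ K.W) : Commute t h := (K.mem_H.1 hh).1 t ht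

theorem H_le_N {t0 : G} (ht : t0 ∈ K.W) : K.H ≤ K.N t0 := fun x hx =>
  K.mem_N.2 ⟨(K.H_comm_W hx ht).symm, fun h => ⟨fun hh => mul_mem (mul_mem hx hh) (inv_mem hx),
    fun hh => by
      have := mul_mem (mul_mem (inv_mem hx) hh) hx
      rwa [show x⁻¹ * (x * h * x⁻¹) * x = h by group] at this⟩⟩

theorem W_le_N {t0 : G} (ht : t0 ∈ K.W) : K.W ≤ K.N t0 := fun x hx => by
  refine K.mem_N.2 ⟨K.W_comm hx ht, fun h => ?_⟩
  have key : ∀ a ∈ K.H, x * a * x⁻¹ = a := fun a ha => conj_eq_iff_commute.2 (K.H_comm_W ha hx)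
  refine ⟨fun hh => by rwa [key h hh], fun hh => ?_⟩
  have e := key _ hh
  have h2 : x * h * x⁻¹ = h := mul_left_cancel (mul_right_cancel e)
  rwa [h2] at hh

theorem sup_Z0 [Finite G] {x : G} (hx : x ∈ K.Z0) : ∃ t ∈ K.W, ∃ k ∈ K.Sg, x = t * k := by
  classical
  have hmem : ∀ p : K.W × K.Sg, (p.1 : G) * p.2 ∈ K.Z0 := by
    rintro ⟨⟨t, ht⟩, ⟨k, hk⟩⟩
    obtain ⟨w, hw, hP⟩ := K.W_coord ht
    obtain ⟨w', v', hP', hw', hv'⟩ := hk
    exact ⟨_, _, K.pair.P_mul hP hP', L0_add _ _ _ _ (InA_comm w0 w (by decide) hw |> fun h => by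
      rwa [show rho w0 = vd by decide] at h) (LP_sub w' v' hw' hv')⟩
  have hinj : Function.Injective fun p : K.W × K.Sg => (⟨_, hmem p⟩ : K.Z0) := by
    rintro ⟨⟨t, ht⟩, ⟨k, hk⟩⟩ ⟨⟨t', ht'⟩, ⟨k', hk'⟩⟩ h
    have h' : t * k = t' * k' := congrArg (fun z : K.Z0 => (z : G)) h
    have e : t'⁻¹ * t = k' * k⁻¹ := by
      calc t'⁻¹ * t = t'⁻¹ * (t * k) * k⁻¹ := by group
        _ = k' * k⁻¹ := by rw [h']; group
    have e1 := K.W_fpf (K.W.mul_mem (K.W.inv_mem ht') ht)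
      (e ▸ ((K.mem_H.1 (K.Sg_le (K.Sg.mul_mem hk' (K.Sg.inv_mem hk)))).2).symm)
    obtain rfl : t' = t := inv_mul_eq_one.1 e1
    obtain rfl : k = k' := mul_left_cancel h'
    rfl
  have hb : Function.Bijective fun p : K.W × K.Sg => (⟨_, hmem p⟩ : K.Z0) :=
    (Nat.bijective_iff_injective_and_card _).2 ⟨hinj, by
      rw [Nat.card_prod, K.card_W, K.card_Sg]
      exact ((K.pair.card_grp L0 _ _).trans (by decide +kernel)).symm⟩
  obtain ⟨⟨t, k⟩, hp⟩ := hb.2 ⟨x, hx⟩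
  exact ⟨t, t.2, k, k.2, (congrArg (fun z : K.Z0 => (z : G)) hp).symm⟩

theorem inv_H {c : G} (hc : Inv K c) {h : G} (hh : h ∈ K.H) : c * h * c⁻¹ ∈ K.H ∧ c⁻¹ * h * c ∈ K.H := by
  obtain ⟨h1, h2⟩ := K.mem_H.1 hh
  have hy1 : Commute (c * h * c⁻¹) y := by
    have := (h2.inv_right).map (MulAut.conj c).toMonoidHom
    simp only [MulEquiv.toMonoidHom_eq_coe, MonoidHom.coe_coe, MulAut.conj_apply] at this
    rwa [show c * y⁻¹ * c⁻¹ = (c * y * c⁻¹)⁻¹ by group, hc.inv, inv_inv] at this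
  have hy2 : Commute (c⁻¹ * h * c) y := by
    have := (h2.inv_right).map (MulAut.conj c⁻¹).toMonoidHom
    simp only [MulEquiv.toMonoidHom_eq_coe, MonoidHom.coe_coe, MulAut.conj_apply, inv_inv] at this
    rwa [show c⁻¹ * y⁻¹ * c = y by rw [← hc.inv]; group] at this
  refine ⟨K.mem_H.2 ⟨fun t ht => ?_, hy1⟩, K.mem_H.2 ⟨fun t ht => ?_, hy2⟩⟩
  · have hsurj : Function.Surjective fun w : K.W => (⟨_, K.inv_W hc w.2⟩ : K.W) := by
      haveI : Finite K.W := Nat.finite_of_card_ne_zero (by rw [K.card_W]; norm_num)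
      exact (Finite.injective_iff_surjective).1 fun a b e => Subtype.ext
        (mul_left_cancel (mul_right_cancel (congrArg (fun z : K.W => (z : G)) e)))
    obtain ⟨w, hw⟩ := hsurj ⟨t, ht⟩
    have hw' : c * (w : G) * c⁻¹ = t := congrArg (fun z : K.W => (z : G)) hw
    have := (h1 w w.2).map (MulAut.conj c).toMonoidHom
    simpa [hw'] using this
  · have := (h1 _ (K.inv_W hc ht)).map (MulAut.conj c⁻¹).toMonoidHom
    simpa [mul_assoc] using this

theorem cent_le_N [Finite G] {t0 : G} (ht : t0 ∈ K.W) (h0 : P S s u π t0 w0 vd) {x : G} (hxs : Commute x s)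
    (hx : Commute x t0) : x ∈ K.N t0 := by
  obtain ⟨c, hc⟩ := K.exists_inv
  have hZ : ∀ z ∈ K.Z0, z ∈ K.N t0 := fun z hz => by
    obtain ⟨t, htW, k, hk, rfl⟩ := K.sup_Z0 hz
    exact mul_mem (K.W_le_N ht htW) (K.H_le_N ht (K.Sg_le hk))
  have hcN : c ∈ K.N t0 := K.mem_N.2 ⟨conj_eq_iff_commute.1 (K.inv_t0 hc ht h0), fun h =>
    ⟨fun hh => (K.inv_H hc hh).1, fun hh => by
      have := (K.inv_H hc hh).2
      rwa [show c⁻¹ * (c * h * c⁻¹) * c = h by group] at this⟩⟩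
  rcases K.cent_cases hc hxs ht h0 hx with h | h
  · exact hZ x h
  · have := mul_mem hcN (hZ _ h)
    rwa [mul_inv_cancel_left] at this

theorem pair_conj [Finite G] {t0 : G} (ht : t0 ∈ K.W) (h0 : P S s u π t0 w0 vd) {k : G} (hk : S.K k)
    (hkt : Commute k t0) : ∃ d, Commute d t0 ∧ d * s * d⁻¹ = k := by
  obtain ⟨r, hr⟩ := K.pair.exists_rep
  obtain ⟨g, hg⟩ := isConj_iff.1 (S.K_isConj k s hk K.pair.Ks)
  have ht1 : t0 ≠ 1 := fun e => by
    rw [e] at h0
    exact absurd (K.pair.P_unique h0 (Pair.dd_zero (s := s) (u := u) ▸ K.pair.dd_P 0 0)).1 (by decide)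
  have key : ∀ x, Commute x s → x * x = 1 → x ≠ 1 → ¬ S.K x → ∃ c, Commute c s ∧ c * x * c⁻¹ = r := by
    intro x hxs hxx hx1 hxK
    rcases K.pair.classify hr hxs hxx with h | ⟨c, -, h⟩ | h
    · exact absurd (S.K_of_mem K.pair.Ks h hxx hx1) hxK
    · exfalso
      have := S.K_conj c⁻¹ _ (S.K_of_mem K.pair.Ku h (sq_conj hxx) (fun e => hx1 (conj_eq_one_iff.1 e)))
      rw [show c⁻¹ * (c * x * c⁻¹) * c⁻¹⁻¹ = x by group] at this
      exact hxK this
    · exact h
  obtain ⟨c, hc, hcx⟩ := key (g * t0 * g⁻¹) (by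
      have := hkt.symm.map (MulAut.conj g).toMonoidHom
      simpa [hg] using this) (sq_conj (K.W_sq ht)) (fun e => ht1 (conj_eq_one_iff.1 e)) (fun h => by
      refine K.W_not_K ht ht1 ?_
      have := S.K_conj g⁻¹ _ h
      rwa [show g⁻¹ * (g * t0 * g⁻¹) * g⁻¹⁻¹ = t0 by group] at this)
  obtain ⟨c', hc', hcx'⟩ := key t0 (K.pair.P_comm_su h0).1 (K.W_sq ht) ht1 (K.W_not_K ht ht1)
  refine ⟨g⁻¹ * (c⁻¹ * c'), conj_eq_iff_commute.1 ?_, ?_⟩
  · rw [show g⁻¹ * (c⁻¹ * c') * t0 * (g⁻¹ * (c⁻¹ * c'))⁻¹ = g⁻¹ * (c⁻¹ * (c' * t0 * c'⁻¹) * c) * g by group,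
      hcx', ← hcx]
    group
  · rw [show g⁻¹ * (c⁻¹ * c') * s * (g⁻¹ * (c⁻¹ * c'))⁻¹ = g⁻¹ * (c⁻¹ * (c' * s * c'⁻¹) * c) * g by group,
      conj_eq_iff_commute.2 hc', show c⁻¹ * s * c = s by rw [hc.inv_left.eq]; group, ← hg]
    group

theorem K_in_H [Finite G] (L : Loc K) {h : G} (hh : h ∈ K.H) (hh2 : h * h = 1) (h1 : h ≠ 1) : S.K h := by
  obtain ⟨g, -, rfl⟩ := K.H_conj L hh hh2 h1
  exact S.K_conj g s K.pair.Ks

theorem s_mem_H : s ∈ K.H :=
  K.Sg_le (K.Eg_le true (K.Eg_inf' (by simpa [dd, pw_zero, pw_one] using K.pair.dd_P 0 1) true))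

theorem cent_K_mem [Finite G] (L : Loc K) {t0 : G} (ht : t0 ∈ K.W) (h0 : P S s u π t0 w0 vd) {h k : G}
    (hh : h ∈ K.H) (hh2 : h * h = 1) (h1 : h ≠ 1) (hk : S.K k) (hkt : Commute k t0) (hkh : Commute k h) :
    k ∈ K.H := by
  obtain ⟨g, hg, rfl⟩ := K.H_conj L hh hh2 h1
  have hgt := K.H_comm_W hg ht
  have hk2 : g⁻¹ * k * g ∈ K.Sg := K.K_cent (by
      have := S.K_conj g⁻¹ k hk
      rwa [inv_inv] at this) (by
      have := hkh.map (MulAut.conj g⁻¹).toMonoidHom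
      simpa [mul_assoc] using this) ht h0 ((hgt.inv_right.mul_right hkt.symm).mul_right hgt).symm
  have := mul_mem (mul_mem hg (K.Sg_le hk2)) (inv_mem hg)
  rwa [show g * (g⁻¹ * k * g) * g⁻¹ = k by group] at this

theorem card_orbit_H [Finite G] (L : Loc K) :
    Nat.card {x : G // ∃ n ∈ K.H, n * s * n⁻¹ = x} = 315 := by
  have h := card_orbit_conj K.H s
  have e : K.H ⊓ centralizer ({s} : Set G) = K.Sg := by
    ext x
    rw [Subgroup.mem_inf, mem_centralizer_singleton_iff, K.mem_Sg_iff]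
    rfl
  rw [e, K.card_Sg, K.card_H L] at h
  omega

theorem K_N [Finite G] (L : Loc K) {t0 : G} (ht : t0 ∈ K.W) (h0 : P S s u π t0 w0 vd) {k : G}
    (hk : S.K k) (hkN : k ∈ K.N t0) : k ∈ K.H := by
  classical
  haveI : Fintype G := Fintype.ofFinite G
  obtain ⟨hkt, hkH⟩ := K.mem_N.1 hkN
  have hkk := (S.K_sq hk).1
  let σ : {x : G // ∃ n ∈ K.H, n * s * n⁻¹ = x} → {x : G // ∃ n ∈ K.H, n * s * n⁻¹ = x} := fun x =>
    ⟨k * x.1 * k⁻¹, by
      obtain ⟨n, hn, e⟩ := x.2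
      have hxH : x.1 ∈ K.H := e ▸ mul_mem (mul_mem hn K.s_mem_H) (inv_mem hn)
      have hsq : x.1 * x.1 = 1 := e ▸ sq_conj K.pair.left.sq_one
      have hne : x.1 ≠ 1 := e ▸ fun h => K.pair.left.ne_one (conj_eq_one_iff.1 h)
      exact K.H_conj L ((hkH _).1 hxH) (sq_conj hsq) (fun h => hne (conj_eq_one_iff.1 h))⟩
  have hσ : Function.Involutive σ := fun x => Subtype.ext (by
    show k * (k * x.1 * k⁻¹) * k⁻¹ = x.1
    rw [show k * (k * x.1 * k⁻¹) * k⁻¹ = (k * k) * x.1 * (k * k)⁻¹ by group, hkk]; group)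
  haveI : Fact (Nat.Prime 2) := ⟨Nat.prime_two⟩
  obtain ⟨x, hx⟩ := Equiv.Perm.exists_fixed_point_of_prime (p := 2) (n := 1) (σ := hσ.toPerm)
    (by rw [← Nat.card_eq_fintype_card, K.card_orbit_H L]; norm_num)
    (by rw [pow_one, pow_two]; exact Equiv.ext fun a => hσ a)
  have hx' : k * x.1 * k⁻¹ = x.1 := congrArg Subtype.val hx
  obtain ⟨n, hn, e⟩ := x.2
  exact K.cent_K_mem L ht h0 (e ▸ mul_mem (mul_mem hn K.s_mem_H) (inv_mem hn)) (e ▸ sq_conj K.pair.left.sq_one)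
    (e ▸ fun h => K.pair.left.ne_one (conj_eq_one_iff.1 h)) hk hkt (conj_eq_iff_commute.1 hx')

theorem card_N [Finite G] (L : Loc K) {t0 : G} (ht : t0 ∈ K.W) (h0 : P S s u π t0 w0 vd) :
    Nat.card (K.N t0) = 161280 := by
  have h := card_orbit_conj (K.N t0) s
  have hcent : K.N t0 ⊓ centralizer ({s} : Set G) = centralizer ({t0} : Set G) ⊓ centralizer ({s} : Set G) :=
    le_antisymm (inf_le_inf_right _ inf_le_left) fun x hx => ⟨K.cent_le_N ht h0
      (mem_centralizer_singleton_iff.1 hx.2) (mem_centralizer_singleton_iff.1 hx.1), hx.2⟩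
  rw [hcent, K.card_cent_t0 ht h0] at h
  have e : Nat.card {x : G // ∃ n ∈ K.N t0, n * s * n⁻¹ = x} =
      Nat.card {x : G // ∃ n ∈ K.H, n * s * n⁻¹ = x} := by
    refine Nat.card_congr (Equiv.subtypeEquivRight fun x => ⟨?_, ?_⟩)
    · rintro ⟨n, hn, rfl⟩
      exact K.H_conj L (((K.mem_N.1 hn).2 s).1 K.s_mem_H) (sq_conj K.pair.left.sq_one)
        (fun h => K.pair.left.ne_one (conj_eq_one_iff.1 h))
    · rintro ⟨n, hn, rfl⟩
      exact ⟨n, K.H_le_N ht hn, rfl⟩
  rw [e, K.card_orbit_H L] at h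
  omega

theorem no35 [Finite G] (L : Loc K) {J : Subgroup G} (hJ : J ≤ K.H)
    (hc : Nat.card J = 105 ∨ Nat.card J = 315) : False := by
  obtain ⟨b, g, hb, hg, hgb⟩ := exists_commute_five_seven hc
  have hb' : orderOf (b : G) = 7 := by rw [Subgroup.orderOf_coe, hb]
  obtain ⟨i, hi⟩ := L.seven b g (K.mem_H.1 (hJ b.2)).2 hb' (K.mem_H.1 (hJ g.2)).2
    (congrArg Subtype.val hgb.eq)
  obtain ⟨j, hj⟩ := mem_zpowers_iff.1 hi
  have hyi : y ^ i ∈ K.H := by
    have := mul_mem (inv_mem (hJ g.2)) (zpow_mem (hJ b.2) j)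
    rwa [hj, inv_mul_cancel_left] at this
  obtain ⟨t0, ht, h0⟩ := K.exists_t0
  have hy3 : ∀ i : ℕ, y ^ i = 1 ∨ y ^ i = y ∨ y ^ i = y ^ 2 := fun i => by
    rw [← Nat.div_add_mod i 3, pow_add, pow_mul, K.cube, one_pow, one_mul]
    have : i % 3 = 0 ∨ i % 3 = 1 ∨ i % 3 = 2 := by omega
    rcases this with e | e | e <;> rw [e] <;> simp
  have hfpf : ¬ Commute t0 y := fun h => by
    have e := K.W_fpf ht h.symm
    rw [e] at h0
    exact absurd (K.pair.P_unique h0 (Pair.dd_zero (s := s) (u := u) ▸ K.pair.dd_P 0 0)).1 (by decide)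
  have h1 : y ^ i = 1 := by
    rcases hy3 i with e | e | e
    · exact e
    · exact absurd (e ▸ K.H_comm_W hyi ht) hfpf
    · refine absurd ?_ hfpf
      have h2 := (e ▸ K.H_comm_W hyi ht : Commute t0 (y ^ 2)).pow_right 2
      rwa [← pow_mul, show 2 * 2 = 3 + 1 by rfl, pow_add, K.cube, one_mul, pow_one] at h2
  rw [h1, mul_one] at hj
  have hgz : (g : G) ∈ zpowers (b : G) := mem_zpowers_iff.2 ⟨j, hj⟩
  have := orderOf_dvd_of_mem_zpowers hgz
  rw [Subgroup.orderOf_coe, hg, hb'] at this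
  norm_num at this

/-- The centralizer of the representative. -/
theorem cent_eq_N [Finite G] (L : Loc K) {t0 : G} (ht : t0 ∈ K.W) (h0 : P S s u π t0 w0 vd) :
    centralizer ({t0} : Set G) = K.N t0 := by
  classical
  haveI : Fintype G := Fintype.ofFinite G
  refine le_antisymm ?_ inf_le_left
  by_contra hne
  set D := centralizer ({t0} : Set G) with hD
  set N' := K.N t0 with hN'
  have hND : N' ≤ D := inf_le_left
  let Q := ↥D ⧸ N'.subgroupOf D
  have hQ : 2 ≤ Nat.card Q := by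
    by_contra hlt
    have hpos : 0 < Nat.card Q := Nat.card_pos
    have h1 : Nat.card Q = 1 := by omega
    refine hne fun x hx => ?_
    have := (Nat.card_eq_one_iff_unique.1 h1).1.elim (QuotientGroup.mk (⟨x, hx⟩ : ↥D) : Q)
      (QuotientGroup.mk (1 : ↥D))
    rw [eq_comm, QuotientGroup.eq, mem_subgroupOf] at this
    simpa using this
  have hNcard : Nat.card N' = 161280 := K.card_N L ht h0
  have hcentN : ∀ x, Commute x s → Commute x t0 → x ∈ N' := fun x => K.cent_le_N ht h0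
  have horb := card_orbit_conj D s
  rw [hD, K.card_cent_t0 ht h0, ← hD] at horb
  have hDcard := card_eq_card_quotient_mul_card_subgroup (N'.subgroupOf D)
  rw [Nat.card_congr (subgroupOfEquivOfLe hND).toEquiv, hNcard] at hDcard
  replace hDcard : Nat.card D = Nat.card Q * 161280 := hDcard
  set O := Finset.univ.filter (fun x : G => ∃ n ∈ D, n * s * n⁻¹ = x) with hO
  have hOcard : O.card = Nat.card Q * 315 := by
    rw [Nat.card_eq_fintype_card (α := {x : G // _}), Fintype.card_subtype, ← hO, hDcard] at horb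
    omega
  set X := O.filter (fun x => x ∉ N') with hX
  have hin : (O.filter (fun x => x ∈ N')).card = 315 := by
    have e : O.filter (fun x => x ∈ N') = Finset.univ.filter (fun x : G => ∃ n ∈ K.H, n * s * n⁻¹ = x) := by
      ext x
      simp only [hO, Finset.mem_filter, Finset.mem_univ, true_and]
      constructor
      · rintro ⟨⟨n, -, rfl⟩, hxN⟩
        exact K.H_conj L (K.K_N L ht h0 (S.K_conj n s K.pair.Ks) hxN) (sq_conj K.pair.left.sq_one)
          (fun h => K.pair.left.ne_one (conj_eq_one_iff.1 h))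
      · rintro ⟨n, hn, rfl⟩
        exact ⟨⟨n, mem_centralizer_singleton_iff.2 (K.H_comm_W hn ht).symm.eq, rfl⟩,
          K.H_le_N ht (mul_mem (mul_mem hn K.s_mem_H) (inv_mem hn))⟩
    rw [e, ← K.card_orbit_H L, Nat.card_eq_fintype_card, Fintype.card_subtype]
  have hXcard : X.card = (Nat.card Q - 1) * 315 := by
    have := Finset.card_filter_add_card_filter_not (s := O) (p := fun x => x ∈ N')
    rw [hin, ← hX, hOcard] at this
    rw [Nat.sub_mul]
    omega
  have hmemD : ∀ {x}, x ∈ O → x ∈ D := fun {x} hx => by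
    obtain ⟨n, hn, rfl⟩ := (Finset.mem_filter.1 hx).2
    exact mul_mem (mul_mem hn (mem_centralizer_singleton_iff.2 (K.pair.P_comm_su h0).1.symm.eq)) (inv_mem hn)
  let f : G → Q := fun x => if hx : x ∈ D then QuotientGroup.mk ⟨x, hx⟩ else QuotientGroup.mk 1
  haveI : Fintype Q := Fintype.ofFinite Q
  obtain ⟨q, -, hq⟩ := Finset.exists_le_card_fiber_of_mul_le_card_of_maps_to (s := X)
    (t := Finset.univ.erase (QuotientGroup.mk (1 : ↥D) : Q)) (f := f) (n := 315)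
    (fun x hx => Finset.mem_erase.2 ⟨fun e => by
      obtain ⟨hxO, hxN⟩ := Finset.mem_filter.1 hx
      simp only [f, dif_pos (hmemD hxO)] at e
      rw [eq_comm, QuotientGroup.eq, mem_subgroupOf] at e
      exact hxN (by simpa using e), Finset.mem_univ _⟩)
    (by
      rw [← Finset.card_pos, Finset.card_erase_of_mem (Finset.mem_univ _), Finset.card_univ,
        ← Nat.card_eq_fintype_card]
      exact Nat.sub_pos_of_lt hQ)
    (by rw [hXcard, Finset.card_erase_of_mem (Finset.mem_univ _), Finset.card_univ, ← Nat.card_eq_fintype_card])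
  obtain ⟨u', hu'⟩ := Finset.card_pos.1 (show 0 < (X.filter fun x => f x = q).card by omega)
  obtain ⟨hu'X, hu'q⟩ := Finset.mem_filter.1 hu'
  obtain ⟨hu'O, hu'N⟩ := Finset.mem_filter.1 hu'X
  have hu'K : ∀ {x}, x ∈ O → S.K x ∧ Commute x t0 := fun {x} hx => by
    refine ⟨?_, mem_centralizer_singleton_iff.1 (hmemD hx)⟩
    obtain ⟨n, -, rfl⟩ := (Finset.mem_filter.1 hx).2
    exact S.K_conj n s K.pair.Ks
  -- the elements of `N` inverted by `u'`
  set R := Finset.univ.filter (fun h : G => h ∈ N' ∧ S.K (u' * h) ∧ Commute (u' * h) t0) with hR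
  have hR315 : 315 ≤ R.card := by
    refine le_trans hq (Finset.card_le_card_of_injOn (fun x => u'⁻¹ * x) (fun x hx => ?_)
      fun a _ b _ e => mul_left_cancel e)
    obtain ⟨hxX, hxq⟩ := Finset.mem_filter.1 hx
    obtain ⟨hxO, -⟩ := Finset.mem_filter.1 hxX
    refine Finset.mem_filter.2 ⟨Finset.mem_univ _, ?_, by rw [mul_inv_cancel_left]; exact hu'K hxO⟩
    have e := hu'q.trans hxq.symm
    simp only [f, dif_pos (hmemD hxO), dif_pos (hmemD hu'O)] at e
    rw [QuotientGroup.eq, mem_subgroupOf] at e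
    exact e
  obtain ⟨hu'Ks, hu't⟩ := hu'K hu'O
  have hu2 := (S.K_sq hu'Ks).1
  have hui : u'⁻¹ = u' := inv_eq_of_mul_eq_one_right hu2
  let F : Subgroup G := N' ⊓ N'.map (MulAut.conj u').toMonoidHom
  have hmemF : ∀ {x}, x ∈ F ↔ x ∈ N' ∧ u' * x * u' ∈ N' := fun {x} => by
    constructor
    · rintro ⟨h1, n, hn, rfl⟩
      refine ⟨h1, ?_⟩
      show u' * (u' * n * u'⁻¹) * u' ∈ N'
      rwa [show u' * (u' * n * u'⁻¹) * u' = u' * u' * n * (u'⁻¹ * u') by group, hu2, inv_mul_cancel, one_mul,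
        mul_one]
    · rintro ⟨h1, h2⟩
      refine ⟨h1, _, h2, ?_⟩
      show u' * (u' * x * u') * u'⁻¹ = x
      rw [show u' * (u' * x * u') * u'⁻¹ = u' * u' * x * (u' * u'⁻¹) by group, hu2, mul_inv_cancel, one_mul,
        mul_one]
  have hRF : ∀ h ∈ R, h ∈ F ∧ t0 * h ∈ F ∧ t0 * h ∉ R := by
    intro h hh
    obtain ⟨hhN, hhK, hht⟩ := (Finset.mem_filter.1 hh).2
    have htN : t0 ∈ N' := K.W_le_N ht ht
    have hinv : u' * h * u' = h⁻¹ := by
      have := (S.K_sq hhK).1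
      calc u' * h * u' = (u' * h * (u' * h)) * h⁻¹ := by group
        _ = h⁻¹ := by rw [this, one_mul]
    refine ⟨hmemF.2 ⟨hhN, hinv ▸ inv_mem hhN⟩, hmemF.2 ⟨mul_mem htN hhN, ?_⟩, fun hR' => ?_⟩
    · rw [show u' * (t0 * h) * u' = u' * t0 * (h * u') by group, hu't.eq,
        show t0 * u' * (h * u') = t0 * (u' * h * u') by group, hinv]
      exact mul_mem htN (inv_mem hhN)
    · obtain ⟨-, hK', -⟩ := (Finset.mem_filter.1 hR').2
      rw [← mul_assoc, hu't.eq, mul_assoc] at hK'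
      obtain ⟨d, hd, e⟩ := K.pair_conj ht h0 hhK hht
      rw [← e] at hK'
      have := S.K_conj d⁻¹ _ hK'
      rw [show d⁻¹ * (t0 * (d * s * d⁻¹)) * d⁻¹⁻¹ = (d⁻¹ * t0 * d) * s by group,
        show d⁻¹ * t0 * d = t0 by rw [hd.inv_left.eq]; group] at this
      exact K.mul_not_K ht (fun e1 => by
        rw [e1] at h0
        exact absurd (K.pair.P_unique h0 (Pair.dd_zero (s := s) (u := u) ▸ K.pair.dd_P 0 0)).1 (by decide))
        (K.mem_Sg_iff.2 ⟨K.s_mem_H, Commute.refl s⟩) K.pair.left.sq_one this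
  have hFge : 630 ≤ Nat.card F := by
    have hd : Disjoint R (R.image (t0 * ·)) := Finset.disjoint_left.2 fun a ha ha' => by
      obtain ⟨h, hh, rfl⟩ := Finset.mem_image.1 ha'
      exact (hRF h hh).2.2 ha
    have hsub : R ∪ R.image (t0 * ·) ⊆ Finset.univ.filter (fun x => x ∈ F) := by
      intro x hx
      rcases Finset.mem_union.1 hx with hx | hx
      · exact Finset.mem_filter.2 ⟨Finset.mem_univ _, (hRF x hx).1⟩
      · obtain ⟨h, hh, rfl⟩ := Finset.mem_image.1 hx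
        exact Finset.mem_filter.2 ⟨Finset.mem_univ _, (hRF h hh).2.1⟩
    have := Finset.card_le_card hsub
    rw [Finset.card_union_of_disjoint hd, Finset.card_image_of_injective _ (mul_right_injective t0)] at this
    rw [Nat.card_eq_fintype_card, Fintype.card_subtype]
    omega
  have hJodd : ¬ 2 ∣ Nat.card (K.H ⊓ F : Subgroup G) := by
    intro h2
    haveI : Fact (Nat.Prime 2) := ⟨Nat.prime_two⟩
    obtain ⟨j, hj⟩ := exists_prime_orderOf_dvd_card' 2 h2
    have hjj : (j : G) * j = 1 := by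
      have := pow_orderOf_eq_one j
      rw [hj, pow_two] at this
      exact congrArg Subtype.val this
    have hj1 : (j : G) ≠ 1 := fun e => by rw [show j = 1 from Subtype.ext e, orderOf_one] at hj; omega
    have hjK := K.K_in_H L j.2.1 hjj hj1
    have hju : S.K (u' * (j : G) * u') := by
      have := S.K_conj u' _ hjK
      rwa [hui] at this
    have hju1 : u' * (j : G) * u' ≠ 1 := (S.K_sq hju).2
    obtain ⟨g, hg, hgj⟩ := K.H_conj L j.2.1 hjj hj1
    obtain ⟨g', hg', hgj'⟩ := K.H_conj L (K.K_N L ht h0 hju (hmemF.1 j.2.2).2) (S.K_sq hju).1 hju1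
    have hgt := (K.H_comm_W hg ht).symm
    have hgt' := (K.H_comm_W hg' ht).symm
    have h1 : g'⁻¹ * u' * g ∈ N' := hcentN _ (conj_eq_iff_commute.1 (by
        rw [show g'⁻¹ * u' * g * s * (g'⁻¹ * u' * g)⁻¹ = g'⁻¹ * (u' * (g * s * g⁻¹) * u'⁻¹) * g' by group, hgj,
          hui, ← hgj']
        group))
      ((hgt'.inv_left.mul_left hu't).mul_left hgt)
    refine hu'N ?_
    have := mul_mem (mul_mem (K.H_le_N ht hg') h1) (inv_mem (K.H_le_N ht hg))
    rwa [show g' * (g'⁻¹ * u' * g) * g⁻¹ = u' by group] at this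
  have hidx : Nat.card (↥F ⧸ K.H.subgroupOf F) ≤ 8 := by
    have h := card_eq_card_quotient_mul_card_subgroup (K.H.subgroupOf N')
    rw [Nat.card_congr (subgroupOfEquivOfLe (K.H_le_N ht)).toEquiv, K.card_H L, hNcard] at h
    have := Nat.card_le_card_of_injective _
      (quotientSubgroupOfEmbeddingOfLE K.H (show F ≤ N' from inf_le_left)).injective
    omega
  have hF8 : Nat.card F ≤ 8 * Nat.card (K.H ⊓ F : Subgroup G) := by
    rw [card_eq_card_quotient_mul_card_subgroup (K.H.subgroupOf F), ← inf_subgroupOf_right,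
      Nat.card_congr (subgroupOfEquivOfLe (show K.H ⊓ F ≤ F from inf_le_right)).toEquiv]
    exact Nat.mul_le_mul_right _ (by rw [inf_subgroupOf_right]; exact hidx)
  have hdvd : Nat.card (K.H ⊓ F : Subgroup G) ∣ 20160 := K.card_H L ▸ card_dvd_of_le inf_le_left
  have hdvd' : Nat.card (K.H ⊓ F : Subgroup G) ∣ 315 := by
    refine (Nat.Coprime.dvd_mul_left (k := Nat.card (K.H ⊓ F : Subgroup G)) (m := 64) (n := 315) ?_).1
      (by simpa using hdvd)
    exact Nat.Coprime.pow_right 6 ((Nat.coprime_comm).1 ((Nat.prime_two.coprime_iff_not_dvd).2 hJodd))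
  have hcase : ∀ d ∈ Nat.divisors 315, 79 ≤ d → d = 105 ∨ d = 315 := by decide +kernel
  exact K.no35 L inf_le_left (hcase _ (Nat.mem_divisors.2 ⟨hdvd', by norm_num⟩) (by omega))

/-- The centralizer of an involution of the second class has order `161280`. -/
theorem card_cent [Finite G] (L : Loc K) {t0 : G} (ht : t0 ∈ K.W) (h0 : P S s u π t0 w0 vd) :
    Nat.card (centralizer ({t0} : Set G)) = 161280 := by
  rw [K.cent_eq_N L ht h0, K.card_N L ht h0]

end Conf

end CfsgLib.SuzTwoB
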