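import Cfsg.Agent.Lib.SuzTwoB.Conf

/-!
# The centralizer of a member of the first class in the centralizer of one of the second
-/

set_option autoImplicit false
set_option linter.style.haveILetI false
set_option synthInstance.maxSize 20000
set_option maxRecDepth 10000

namespace CfsgLib.SuzType

open CfsgLib.Classical.Quad CfsgLib.SuzTwoB

universe u

variable {G : Type u} [Group G] {S : Sys G} {s u : G} {π π' : G → V6}

namespace Pair

variable (p : Pair S s u π π')
include p

/-- The elements with coordinates in `L`. -/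
def grp (p : Pair S s u π π') (L : W4 → W4 → Prop) (h0 : L 0 0)
    (hadd : ∀ w v w' v', L w v → L w' v' → L (w + w') (v + v')) : Subgroup G where
  carrier := {x | ∃ w v, P S s u π x w v ∧ L w v}
  one_mem' := ⟨0, 0, dd_zero (s := s) (u := u) ▸ p.dd_P 0 0, h0⟩
  mul_mem' := by
    rintro a b ⟨w, v, hP, hL⟩ ⟨w', v', hP', hL'⟩
    exact ⟨_, _, p.P_mul hP hP', hadd _ _ _ _ hL hL'⟩
  inv_mem' := by
    rintro a ⟨w, v, hP, hL⟩
    exact ⟨_, _, p.P_inv hP, hL⟩

theorem card_grp (L : W4 → W4 → Prop) [DecidablePred fun k : W4 × W4 => L k.1 k.2] (h0 : L 0 0)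
    (hadd : ∀ w v w' v', L w v → L w' v' → L (w + w') (v + v')) :
    Nat.card (p.grp L h0 hadd) = 4 * (Finset.univ.filter fun k : W4 × W4 => L k.1 k.2).card := by
  classical
  choose f hf using fun k : W4 × W4 => p.exists_P k.1 k.2
  let g : {k : W4 × W4 // L k.1 k.2} × (ZMod 2 × ZMod 2) → p.grp L h0 hadd := fun k =>
    ⟨f k.1.1 * dd s u k.2.1 k.2.2, k.1.1.1, k.1.1.2, by simpa using p.P_mul (hf k.1.1) (p.dd_P k.2.1 k.2.2), k.1.2⟩
  have hb : Function.Bijective g := by
    constructor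
    · rintro ⟨⟨k, hk⟩, b, a⟩ ⟨⟨k', hk'⟩, b', a'⟩ h
      have h' : f k * dd s u b a = f k' * dd s u b' a' := congrArg Subtype.val h
      have h1 := p.P_mul (hf k) (p.dd_P b a)
      rw [h', add_zero, add_zero] at h1
      obtain ⟨e1, e2⟩ := p.P_unique h1 (by simpa using p.P_mul (hf k') (p.dd_P b' a'))
      obtain rfl : k = k' := Prod.ext e1 e2
      obtain ⟨rfl, rfl⟩ := p.dd_inj (mul_left_cancel h')
      rfl
    · rintro ⟨x, w, v, hP, hL⟩
      obtain ⟨b, a, e⟩ := p.P_eq (hf (w, v)) hP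
      exact ⟨⟨⟨(w, v), hL⟩, b, a⟩, Subtype.ext e.symm⟩
  rw [← Nat.card_eq_of_bijective g hb, Nat.card_prod, Nat.card_prod, Nat.card_zmod,
    Nat.card_eq_fintype_card, Fintype.card_subtype]
  ring

theorem sg_core {g : Orth Q6} (hg : g ∈ Ev) (hu : g.1 u0 = u0) (h1 : hW g w0 = w0) (h2 : hW g vd = vd) :
    g = sg (g.1 v0).2.2 := by
  obtain ⟨w, hw⟩ : ∃ w, (g.1 v0).2.2 = w := ⟨_, rfl⟩
  rw [hw]
  obtain ⟨h, hh⟩ : ∃ h, sg w * g = h := ⟨_, rfl⟩
  have hE : h ∈ Ev := hh ▸ mul_mem (p.sg_mem w) hg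
  have hhu : h.1 u0 = u0 := by rw [← hh, mul_apply, hu, sg_u0]
  have hhv : h.1 v0 = v0 := by
    rw [← hh, mul_apply, stab_v0 hu, hw, v6_add_eq (sg_move w _)]
    simp [v0, show B4 w w = 0 from (by decide : ∀ w : W4, B4 w w = 0) w, w4_add_self, CharTwo.add_self_eq_zero]
  have hsg : ∀ x, hW (sg w) x = x := fun x => by
    rw [hW, v6_add_eq (sg_move w (emb x))]; simp [emb]
  have hemb : ∀ x, h.1 (emb x) = emb (hW h x) := fun x => by
    have h0 := hW_spec hhu x
    have hb : B6 (h.1 v0) (h.1 (emb x)) = 0 := by rw [B6_g]; exact (by decide : ∀ x, B6 v0 (emb x) = 0) x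
    rw [hhv, h0] at hb
    rw [h0, emb]
    congr 1
    simpa [B6, v0, emb] using hb
  have hh1 : hW h w0 = w0 := by rw [← hh, hW_mul (sg_u0 w) hu, h1, hsg]
  have hh2 : hW h vd = vd := by rw [← hh, hW_mul (sg_u0 w) hu, h2, hsg]
  have hB : ∀ a b, B4 (hW h a) (hW h b) = B4 a b := fun a b => by
    have := B6_g h (emb a) (emb b)
    rw [hemb, hemb] at this
    simpa [B6, emb] using this
  have hq : ∀ a, q4 (hW h a) = q4 a := fun a => by
    have := q6_g h (emb a)
    rwa [hemb, q6_emb, q6_emb] at this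
  have hne : ∀ a : W4, a ≠ 0 → hW h a ≠ 0 := fun a ha e => ha (by
    have e2 : h.1 (emb a) = 0 := by rw [hemb, e]; rfl
    rw [LinearEquiv.map_eq_zero_iff] at e2
    simpa [emb] using congrArg (fun v : V6 => v.2.2) e2)
  have hpick : ∀ a : W4, a ≠ 0 → q4 a = 0 → B4 a w0 = 0 → B4 a vd = 0 →
      hW h a = (1, 0, 0, 0) ∨ hW h a = (0, 1, 0, 0) := fun a ha e0 e1 e2 =>
    (fix_U (hW h a) (by rw [hq, e0]) (by conv_lhs => rw [← hh1, hB, e1])
      (by conv_lhs => rw [← hh2, hB, e2])).resolve_left (hne a ha)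
  have hkey : h = 1 := by
    have hinj : hW h (1, 0, 0, 0) ≠ hW h (0, 1, 0, 0) := fun e => by
      have := hB (1, 0, 0, 0) (0, 1, 0, 0)
      rw [e] at this
      exact absurd (this.symm.trans ((by decide : ∀ a : W4, B4 a a = 0) _)) (by decide)
    rcases hpick (1, 0, 0, 0) (by decide) (by decide) (by decide) (by decide) with e1 | e1 <;>
      rcases hpick (0, 1, 0, 0) (by decide) (by decide) (by decide) (by decide) with e2 | e2
    · exact absurd (e1.trans e2.symm) hinj
    · exact ext6 (by rw [hhu, one_apply]) (by rw [hhv, one_apply]) (by rw [hemb, e1, one_apply])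
        (by rw [hemb, e2, one_apply]) (by rw [hemb, hh1, one_apply]) (by rw [hemb, hh2, one_apply])
    · exfalso
      refine refl_not_mem (a := emb (1, 1, 0, 0)) (by decide) ?_
      have : refl Q6 (emb (1, 1, 0, 0)) = h := by
        refine ext6 ?_ ?_ ?_ ?_ ?_ ?_
        all_goals rw [refl6 (by decide)]
        · rw [hhu]; decide
        · rw [hhv]; decide
        · rw [hemb, e1]; decide
        · rw [hemb, e2]; decide
        · rw [hemb, hh1]; decide
        · rw [hemb, hh2]; decide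
      rw [this]; exact hE
    · exact absurd (e1.trans e2.symm) hinj
  rw [hkey] at hh
  rw [eq_inv_of_mul_eq_one_right hh, inv_eq_of_mul_eq_one_right (sg_sq w)]

omit p in
/-- The image of a member of the class is a root transformation. -/
theorem root_of_K [Finite G] (p : Pair S s u π π') {x : G} (hx : S.K x) (hxs : Commute x s) {g : Orth Q6}
    (hg : Acts s (S.E s) π x g) (z : V6) : q6 (g.1 z + z) = 0 := by
  obtain ⟨t0, h0⟩ := p.exists_rep
  rcases p.classify h0 hxs (S.K_sq hx).1 with h | ⟨c, hc, h⟩ | ⟨c, hc, h⟩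
  · rw [p.left.acts_unique hg (p.left.acts_mem h), one_apply, v6_add_self]; rfl
  · obtain ⟨gc, -, hgc⟩ := p.left.act c hc
    obtain ⟨w, hw⟩ := p.exists_sg h ((hc.mul_left hxs).mul_left hc.inv_left)
    have hsq := p.sq_rule hw
    rw [sq_conj (S.K_sq hx).1, eq_comm, pw_eq_one p.right.ne_one] at hsq
    have he : gc * g * gc⁻¹ = sg w :=
      p.left.acts_unique (p.left.acts_mul (p.left.acts_mul hgc hg) (p.left.acts_inv hgc)) hw.2
    have hg' : g = gc⁻¹ * sg w * gc := by rw [← he]; group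
    rw [hg', mul_apply, mul_apply]
    obtain ⟨z', hz'⟩ : ∃ z', gc.1 z = z' := ⟨_, rfl⟩
    have hz : z = (gc⁻¹).1 z' := by rw [← hz', inv_apply_self]
    rw [hz', hz, ← g_add, q6_g, sg_move, hsq]
    revert hsq
    generalize z'.2.1 = b
    generalize B4 z'.2.2 w = e
    intro hsq
    simp only [q6, zero_mul, add_zero, mul_zero, zero_add]
    rcases zcases b with rfl | rfl
    · simp [q4]
    · rw [one_smul, hsq]
  · exact absurd (h ▸ S.K_conj c x hx) (p.rep_not_K h0)

theorem not_K [Finite G] {x : G} {w v : W4} (h : P S s u π x w v) (hw : q4 w = 1) : ¬ S.K x := by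
  intro hK
  have := p.root_of_K hK (p.P_comm_su h).1 (p.P_acts h) v0
  rw [sg_move] at this
  simp [q6, v0, hw] at this

end Pair

end CfsgLib.SuzType
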