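import Cfsg.Agent.Lib.SuzTwoB.TCent

/-!
# Every four-group of the second class normalized by the element of order three is conjugate to `W`
-/

set_option autoImplicit false
set_option linter.style.haveILetI false
set_option synthInstance.maxSize 20000
set_option maxRecDepth 10000

namespace CfsgLib.SuzTwoB

open CfsgLib.Classical.Quad CfsgLib.SuzType Subgroup

universe u

/-- The rotation, computably. -/
def rotf (x : V6) : V6 := rf (emb w0) (rf (emb vd) x)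

/-- An involution with centre `v`. -/
def tauf (a v x : V6) : V6 := rf a (rf (a + v) x)

/-- A basis. -/
def basis : List V6 :=
  [u0, v0, emb (1, 0, 0, 0), emb (0, 1, 0, 0), emb w0, emb vd]

theorem centre_fixed : ∀ a v : V6, q6 a = 1 → q6 v = 0 → v ≠ 0 → B6 a v = 0 →
    (∀ z ∈ basis, tauf a v (tauf (rotf a) (rotf v) (tauf (rotf (rotf a)) (rotf (rotf v)) z)) = z) →
    rotf v = v := by decide +kernel

theorem centre_move : ∀ v : V6, q6 v = 0 → v ≠ 0 → rotf v = v →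
    ∃ a b : V6, q6 a = 1 ∧ q6 b = 1 ∧ rotf a = a ∧ rotf b = b ∧ rf a (rf b u0) = v := by decide +kernel

theorem tauf_u0 : ∀ a z : V6, q6 a = 1 → B6 a u0 = 0 → B6 z u0 = 0 →
    tauf a u0 z + z = 0 ∨ tauf a u0 z + z = u0 := by decide +kernel

theorem tauf_fix : ∀ a : V6, q6 a = 1 → B6 a u0 = 0 → tauf a u0 u0 = u0 := by decide +kernel

theorem sg_w0_tauf : ∀ z : V6, sgf w0 z = tauf (emb w0) u0 z := by decide +kernel

theorem graph_two : ∀ w v : W4, w + rho w + rho (rho w) = 0 → v + rho v + rho (rho v) = 0 → w ≠ 0 →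
    q4 w + B4 v w = 0 → q4 v + B4 v w = 0 → InU w ∧ (v = rho w ∨ v + w = rho w) := by decide +kernel

theorem three_in_U : ∀ w : W4, InU w → w = 0 ∨ w = w0 ∨ w = rho w0 ∨ w = rho (rho w0) := by decide +kernel

variable {G : Type u} [Group G]

namespace Conf

variable {S : Sys G} {s u y : G} {π π' : G → V6} (K : Conf S s u y π π')
include K

theorem W_cases {t0 : G} (ht : t0 ∈ K.W) (h0 : P S s u π t0 w0 vd) {t : G} (htW : t ∈ K.W) :
    t = 1 ∨ t = t0 ∨ t = y * t0 * y⁻¹ ∨ t = y * (y * t0 * y⁻¹) * y⁻¹ := by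
  obtain ⟨w, hw, hP⟩ := K.W_coord htW
  have h1 : P S s u π (1 : G) 0 0 := Pair.dd_zero (s := s) (u := u) ▸ K.pair.dd_P 0 0
  rcases three_in_U w hw with rfl | rfl | rfl | rfl
  · exact Or.inl (K.W_unique htW K.W.one_mem hP h1)
  · exact Or.inr (Or.inl (K.W_unique htW ht hP h0))
  · exact Or.inr (Or.inr (Or.inl (K.W_unique htW (K.W_y ht) hP (K.P_y h0))))
  · exact Or.inr (Or.inr (Or.inr (K.W_unique htW (K.W_y (K.W_y ht)) hP (K.P_y (K.P_y h0)))))

/-- An element centralizing `y` that maps one nontrivial member into `W` normalizes it. -/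
theorem conj_W {t0 : G} (ht : t0 ∈ K.W) (h0 : P S s u π t0 w0 vd) {e : G} (he : Commute e y)
    (h : e * t0 * e⁻¹ ∈ K.W) {t : G} (htW : t ∈ K.W) : e * t * e⁻¹ ∈ K.W := by
  have hy : ∀ a, e * (y * a * y⁻¹) * e⁻¹ = y * (e * a * e⁻¹) * y⁻¹ := fun a => by
    rw [show e * (y * a * y⁻¹) * e⁻¹ = e * y * a * (e * y)⁻¹ by group, he.eq]; group
  rcases K.W_cases ht h0 htW with rfl | rfl | rfl | rfl
  · simp [K.W.one_mem]
  · exact h
  · rw [hy]; exact K.W_y h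
  · rw [hy, hy]; exact K.W_y (K.W_y h)

omit K in
theorem R_apply (x : V6) : R.1 x = rotf x := rr_apply q4_one.1 q4_one.2.1 x

omit K in
theorem rf_conj (g : Orth Q6) (a z : V6) : g.1 (rf a z) = rf (g.1 a) (g.1 z) := by
  simp only [rf, map_add, map_smul, B6_g]

omit K in
theorem tauf_conj (g : Orth Q6) (a v z : V6) : g.1 (tauf a v z) = tauf (g.1 a) (g.1 v) (g.1 z) := by
  simp only [tauf, rf_conj, map_add]

/-- Moving a four-group of the second class into `W`. -/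
theorem exists_move [Finite G] {x : G} (hxs : Commute x s) (hxx : x * x = 1) (hxK : ¬ S.K x) (hx1 : x ≠ 1)
    (hrel : x * (y * x * y⁻¹) * (y * (y * x * y⁻¹) * y⁻¹) = 1) :
    ∃ d, Commute d s ∧ Commute d y ∧ d * x * d⁻¹ ∈ K.W := by
  obtain ⟨t0', h0'⟩ := K.pair.exists_rep
  have hxE : x ∉ S.E s := fun h => hxK (S.K_of_mem K.pair.Ks h hxx hx1)
  rcases K.pair.classify h0' hxs hxx with h | ⟨c, -, h⟩ | ⟨c, hc, h⟩
  · exact absurd h hxE
  · exfalso
    have := S.K_of_mem K.pair.Ku h (sq_conj hxx) (fun e => hx1 (conj_eq_one_iff.1 e))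
    have := S.K_conj c⁻¹ _ this
    rw [show c⁻¹ * (c * x * c⁻¹) * c⁻¹⁻¹ = x by group] at this
    exact hxK this
  obtain ⟨gc, -, hgc⟩ := K.pair.left.act c hc
  obtain ⟨τ, -, hτ⟩ := K.pair.left.act x hxs
  have hA0 := (K.pair.rep_facts h0').2.2.2
  have he : gc * τ * gc⁻¹ = sg w0 := K.pair.left.acts_unique
    (K.pair.left.acts_mul (K.pair.left.acts_mul hgc hτ) (K.pair.left.acts_inv hgc)) (h ▸ hA0)
  set a := (gc⁻¹).1 (emb w0) with ha
  set v := (gc⁻¹).1 u0 with hv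
  have hτf : ∀ z, τ.1 z = tauf a v z := fun z => by
    have hz : τ = gc⁻¹ * sg w0 * gc := by rw [← he]; group
    rw [hz, mul_apply, mul_apply, sg_apply, sg_w0_tauf, tauf_conj, inv_apply_self]
  have hqa : q6 a = 1 := by rw [ha, q6_g]; decide
  have hqv : q6 v = 0 := by rw [hv, q6_g]; rfl
  have hv0 : v ≠ 0 := by rw [hv, Ne, LinearEquiv.map_eq_zero_iff]; decide
  have hav : B6 a v = 0 := by rw [ha, hv, B6_g]; decide
  have hR : ∀ z : V6, (R * τ * R⁻¹).1 z = tauf (rotf a) (rotf v) z := fun z => by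
    rw [mul_apply, mul_apply, hτf, tauf_conj, self_apply_inv, R_apply, R_apply]
  have hR2 : ∀ z, (R * (R * τ * R⁻¹) * R⁻¹).1 z = tauf (rotf (rotf a)) (rotf (rotf v)) z := fun z => by
    rw [mul_apply, mul_apply, hR, tauf_conj, self_apply_inv, R_apply, R_apply]
  have h1 := K.pair.left.acts_mul (K.pair.left.acts_mul K.hy hτ) (K.pair.left.acts_inv K.hy)
  have h2 := K.pair.left.acts_mul (K.pair.left.acts_mul K.hy h1) (K.pair.left.acts_inv K.hy)
  have h3 := K.pair.left.acts_mul (K.pair.left.acts_mul hτ h1) h2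
  rw [hrel] at h3
  have h4 := K.pair.left.acts_unique h3 (K.pair.left.acts_mem (S.E s).one_mem)
  have hfix : rotf v = v := centre_fixed a v hqa hqv hv0 hav fun z _ => by
    have := congrArg (fun g : Orth Q6 => g.1 z) h4
    simp only [mul_apply, one_apply] at this ⊢
    rw [← hR2, ← hR, ← hτf]
    simpa only [mul_apply] using this
  obtain ⟨b1, b2, hb1, hb2, hb1R, hb2R, hb⟩ := centre_move v hqv hv0 hfix
  have hcR : ∀ b, q6 b = 1 → rotf b = b → Commute (refl Q6 b) R := fun b hb hbR => by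
    refine orth_ext fun z => ?_
    rw [mul_apply, mul_apply, refl6 hb, refl6 hb, rf_conj, R_apply, R_apply, hbR]
  set k := refl Q6 b1 * refl Q6 b2 with hk
  obtain ⟨d0, hd0, hd0y⟩ := K.pair.left.lift_comm K.hy K.cube (h := k⁻¹) (inv_mem (rr_mem hb1 hb2))
    (((hcR b1 hb1 hb1R).mul_left (hcR b2 hb2 hb2R)).inv_left)
  set x1 := d0 * x * d0⁻¹ with hx1def
  have hx1s : Commute x1 s := (hd0.1.mul_left hxs).mul_left hd0.1.inv_left
  have hτ1 := K.pair.left.acts_mul (K.pair.left.acts_mul hd0 hτ) (K.pair.left.acts_inv hd0)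
  have hkv : (k⁻¹).1 v = u0 := by
    rw [← hb]
    have : rf b1 (rf b2 u0) = k.1 u0 := by rw [hk, mul_apply, refl6 hb2, refl6 hb1]
    rw [this, inv_apply_self]
  set a' := (k⁻¹).1 a with ha'
  have hτ1f : ∀ z, (k⁻¹ * τ * (k⁻¹)⁻¹).1 z = tauf a' u0 z := fun z => by
    rw [mul_apply, mul_apply, hτf, tauf_conj, self_apply_inv, hkv]
  have hqa' : q6 a' = 1 := by rw [ha', q6_g, hqa]
  have hau : B6 a' u0 = 0 := by rw [← hkv, ha', B6_g, hav]
  have hsg := eq_sg (g := k⁻¹ * τ * (k⁻¹)⁻¹) (by rw [hτ1f, tauf_fix a' hqa' hau])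
    (fun z hz => by rw [hτ1f]; exact tauf_u0 a' z hqa' hau hz)
  set w := ((k⁻¹ * τ * (k⁻¹)⁻¹).1 v0).2.2
  rw [hsg] at hτ1
  have hw0 : w ≠ 0 := fun e => by
    rw [e, sg_zero] at hτ1
    refine hxE ?_
    have := K.pair.left.normal d0⁻¹ hd0.1.inv_left _ (K.pair.left.faith _ hτ1)
    rwa [show d0⁻¹ * (d0 * x * d0⁻¹) * d0⁻¹⁻¹ = x by group] at this
  have hy : ∀ z, y * (d0 * z * d0⁻¹) * y⁻¹ = d0 * (y * z * y⁻¹) * d0⁻¹ := fun z => by
    rw [show y * (d0 * z * d0⁻¹) * y⁻¹ = y * d0 * z * (y * d0)⁻¹ by group, ← hd0y.eq]; group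
  have hrel1 : x1 * (y * x1 * y⁻¹) * (y * (y * x1 * y⁻¹) * y⁻¹) = 1 := by
    rw [hx1def, hy, hy, show d0 * x * d0⁻¹ * (d0 * (y * x * y⁻¹) * d0⁻¹) * (d0 * (y * (y * x * y⁻¹) * y⁻¹) * d0⁻¹)
      = d0 * (x * (y * x * y⁻¹) * (y * (y * x * y⁻¹) * y⁻¹)) * d0⁻¹ by group, hrel]
    group
  have hsq1 : x1 * x1 = 1 := sq_conj hxx
  obtain ⟨t, htBr⟩ := K.pair.exists_br w
  have hq : t⁻¹ * x1 ∈ S.E s := K.pair.left.faith _ (by
    have := K.pair.left.acts_mul (K.pair.br_inv htBr).2 hτ1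
    rwa [sg_sq] at this)
  obtain ⟨hb0, -, -⟩ := K.pair.criterion htBr hw0 hq (by rw [mul_inv_cancel_left]; exact hsq1)
  have hqu : Commute (t⁻¹ * x1) u := K.pair.comm_of_perp hq (by simp [B6, u0, hb0])
  have hP := K.pair.P_mk htBr hq hqu
  rw [mul_inv_cancel_left] at hP
  obtain ⟨vv, hvv⟩ : ∃ vv, (π (t⁻¹ * x1)).2.2 = vv := ⟨_, rfl⟩
  rw [hvv] at hP
  have hzero := K.pair.P_mul (K.pair.P_mul hP (K.P_y hP)) (K.P_y (K.P_y hP))
  rw [hrel1] at hzero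
  obtain ⟨e1, e2⟩ := K.pair.P_unique hzero (Pair.dd_zero (s := s) (u := u) ▸ K.pair.dd_P 0 0)
  obtain ⟨f1, f2⟩ := (K.pair.P_sq_one hP).1 hsq1
  obtain ⟨hwU, hcase⟩ := graph_two w vv e1 e2 hw0 f1 f2
  rcases hcase with e | e
  · refine ⟨d0, hd0.1, hd0y, ⟨⟨w, vv, hP, hwU, e⟩, hrel1⟩⟩
  · obtain ⟨Y, hY, hYπ⟩ := K.pair.left.surj v0
    have hYy : Commute y Y := K.pair.left.commute_of_fix K.hy K.cube hY (by rw [hYπ, R_v0])
    refine ⟨Y * d0, (K.pair.left.le_cent Y hY).mul_left hd0.1, hYy.symm.mul_left hd0y, ?_⟩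
    rw [show Y * d0 * x * (Y * d0)⁻¹ = Y * x1 * Y⁻¹ by rw [hx1def]; group]
    refine ⟨⟨w, _, K.pair.P_shift hY (by rw [hYπ]; rfl) hP, hwU, e⟩, ?_⟩
    have hY' : ∀ z, y * (Y * z * Y⁻¹) * y⁻¹ = Y * (y * z * y⁻¹) * Y⁻¹ := fun z => by
      rw [show y * (Y * z * Y⁻¹) * y⁻¹ = y * Y * z * (y * Y)⁻¹ by group, hYy.eq]; group
    rw [hY', hY', show Y * x1 * Y⁻¹ * (Y * (y * x1 * y⁻¹) * Y⁻¹) * (Y * (y * (y * x1 * y⁻¹) * y⁻¹) * Y⁻¹)
      = Y * (x1 * (y * x1 * y⁻¹) * (y * (y * x1 * y⁻¹) * y⁻¹)) * Y⁻¹ by group, hrel1]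
    group

end Conf

end CfsgLib.SuzTwoB
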