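import Cfsg.Agent.Lib.SuzTwoB.Facts
import Cfsg.Agent.Lib.SuzThree.Cent

/-!
# The four-group of the second class attached to an element of order three
-/

set_option autoImplicit false
set_option linter.style.haveILetI false
set_option synthInstance.maxSize 20000
set_option maxRecDepth 10000

namespace CfsgLib.SuzTwoB

open CfsgLib.Classical.Quad CfsgLib.SuzType Subgroup

universe u

variable {G : Type u} [Group G]

/-- A pair with an element of order three acting as the rotation. -/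
structure Conf (S : Sys G) (s u y : G) (π π' : G → V6) : Prop where
  pair : Pair S s u π π'
  hy : Acts s (S.E s) π y R
  cube : y ^ 3 = 1
  yu : Commute y u

theorem exists_conf {S : Sys G} {s u : G} {π π' : G → V6} (p : Pair S s u π π') :
    ∃ y, Conf S s u y π π' := by
  obtain ⟨c, hc, hcu⟩ := p.left.lift_stab p.memE p.hu R_mem R_u0
  obtain ⟨h1, h2⟩ := p.left.cube_fix hc R_cube
  exact ⟨c ^ 4, p, h1, h2, hcu.pow_left 4⟩

namespace Conf

variable {S : Sys G} {s u y : G} {π π' : G → V6} (K : Conf S s u y π π')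
include K

theorem y_ne : y ≠ 1 := fun e => R_ne_one (K.pair.left.acts_unique K.hy
  (e ▸ K.pair.left.acts_mem (S.E s).one_mem))

theorem dd_fix (b a : ZMod 2) : Commute y (dd s u b a) := Pair.commute_dd K.hy.1 K.yu b a

theorem P_y {x : G} {w v : W4} (h : P S s u π x w v) : P S s u π (y * x * y⁻¹) (rho w) (rho v) := by
  have := K.pair.P_conj K.hy K.yu h
  rwa [hW_R, hW_R] at this

theorem dd_cube {b a : ZMod 2} (h : dd s u b a * dd s u b a * dd s u b a = 1) : dd s u b a = 1 := by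
  rwa [K.pair.dd_sq, one_mul] at h

theorem y_commute_iff {x : G} {w v : W4} (h : P S s u π x w v) : Commute y x ↔ InP w ∧ InP v := by
  constructor
  · intro hc
    have h' := K.P_y h
    rw [conj_eq_iff_commute.2 hc] at h'
    obtain ⟨e1, e2⟩ := K.pair.P_unique h' h
    exact cent_fixed w v e1 e2
  · rintro ⟨h1, h2⟩
    have h' := K.P_y h
    rw [(rho_fix w).2 h1, (rho_fix v).2 h2] at h'
    obtain ⟨b, a, e⟩ := K.pair.P_eq h h'
    refine conj_eq_iff_commute.1 ?_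
    have hD := (K.dd_fix b a).eq
    have e3 : ∀ z, y * (z * dd s u b a) * y⁻¹ = y * z * y⁻¹ * dd s u b a := fun z => by
      calc y * (z * dd s u b a) * y⁻¹ = y * z * y⁻¹ * (y * dd s u b a * y⁻¹) := by group
        _ = _ := by rw [conj_eq_iff_commute.2 (K.dd_fix b a)]
    have hx : y ^ 3 * x * (y ^ 3)⁻¹ = x * (dd s u b a * dd s u b a * dd s u b a) := by
      calc y ^ 3 * x * (y ^ 3)⁻¹ = y * (y * (y * x * y⁻¹) * y⁻¹) * y⁻¹ := by
            rw [pow_succ, pow_two]; group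
        _ = _ := by rw [e, e3, e, mul_assoc x, K.pair.dd_sq, mul_one, e, one_mul]
    rw [K.cube, one_mul, inv_one, mul_one, left_eq_mul] at hx
    rw [e, K.dd_cube hx, mul_one]

/-- The elements with coordinates on the graph. -/
def memA (_K : Conf S s u y π π') (x : G) : Prop := ∃ w v, P S s u π x w v ∧ InA w v

theorem A_comm {x x' : G} (h : K.memA x) (h' : K.memA x') : Commute x x' := by
  obtain ⟨w, v, hP, hw, rfl⟩ := h
  obtain ⟨w', v', hP', hw', rfl⟩ := h'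
  exact (K.pair.P_commute_iff hP hP').2 (InA_comm w w' hw hw')

theorem A_sq {x : G} (h : K.memA x) : x * x = 1 := by
  obtain ⟨w, v, hP, hw, rfl⟩ := h
  exact (K.pair.P_sq_one hP).2 (InA_involution w hw)

theorem A_mul {x x' : G} (h : K.memA x) (h' : K.memA x') : K.memA (x * x') := by
  obtain ⟨w, v, hP, hw, rfl⟩ := h
  obtain ⟨w', v', hP', hw', rfl⟩ := h'
  exact ⟨_, _, K.pair.P_mul hP hP', InA_add w w' hw hw', (rho_add w w').symm⟩

theorem A_y {x : G} (h : K.memA x) : K.memA (y * x * y⁻¹) := by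
  obtain ⟨w, v, hP, hw, rfl⟩ := h
  exact ⟨_, _, K.P_y hP, (InA_rho w hw).1, rfl⟩

theorem A_one : K.memA 1 := ⟨0, 0, Pair.dd_zero (s := s) (u := u) ▸ K.pair.dd_P 0 0, InU_zero.2.2.1⟩

/-- The four-group. -/
def W (K : Conf S s u y π π') : Subgroup G where
  carrier := {x | K.memA x ∧ x * (y * x * y⁻¹) * (y * (y * x * y⁻¹) * y⁻¹) = 1}
  one_mem' := ⟨K.A_one, by group⟩
  mul_mem' := by
    rintro a b ⟨ha, ea⟩ ⟨hb, eb⟩
    refine ⟨K.A_mul ha hb, ?_⟩
    have c1 := K.A_comm hb (K.A_y ha)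
    have c2 := (K.A_comm hb (K.A_y (K.A_y ha))).mul_left (K.A_comm (K.A_y hb) (K.A_y (K.A_y ha)))
    calc a * b * (y * (a * b) * y⁻¹) * (y * (y * (a * b) * y⁻¹) * y⁻¹)
        = a * (b * (y * a * y⁻¹)) * (y * b * y⁻¹) * (y * (y * a * y⁻¹) * y⁻¹) * (y * (y * b * y⁻¹) * y⁻¹) := by
          group
      _ = a * (y * a * y⁻¹) * ((b * (y * b * y⁻¹)) * (y * (y * a * y⁻¹) * y⁻¹)) * (y * (y * b * y⁻¹) * y⁻¹) := by
          rw [c1.eq]; group
      _ = (a * (y * a * y⁻¹) * (y * (y * a * y⁻¹) * y⁻¹)) *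
            (b * (y * b * y⁻¹) * (y * (y * b * y⁻¹) * y⁻¹)) := by rw [c2.eq]; group
      _ = 1 := by rw [ea, eb, mul_one]
  inv_mem' := by
    rintro a ⟨ha, ea⟩
    rw [inv_eq_of_mul_eq_one_right (K.A_sq ha)]
    exact ⟨ha, ea⟩

theorem W_A {x : G} (hx : x ∈ K.W) : K.memA x := hx.1

theorem W_coord {x : G} (hx : x ∈ K.W) : ∃ w, InU w ∧ P S s u π x w (rho w) := by
  obtain ⟨w, v, hP, hw, rfl⟩ := hx.1
  exact ⟨w, hw, hP⟩

theorem W_exists {w : W4} (hw : InU w) : ∃ x ∈ K.W, P S s u π x w (rho w) := by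
  obtain ⟨x, hx⟩ := K.pair.exists_P w (rho w)
  have h0 := K.pair.P_mul (K.pair.P_mul hx (K.P_y hx)) (K.P_y (K.P_y hx))
  rw [← rho_add, ← rho_add, (InA_rho w hw).2.2, show rho 0 = 0 from rfl] at h0
  obtain ⟨b, a, e⟩ := K.pair.P_zero h0
  have hP : P S s u π (x * dd s u b a) w (rho w) := by
    simpa using K.pair.P_mul hx (K.pair.dd_P b a)
  refine ⟨_, ⟨⟨w, _, hP, hw, rfl⟩, ?_⟩, hP⟩
  have hfix := conj_eq_iff_commute.2 (K.dd_fix b a)
  have e3 : ∀ z, y * (z * dd s u b a) * y⁻¹ = y * z * y⁻¹ * dd s u b a := fun z => by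
    calc y * (z * dd s u b a) * y⁻¹ = y * z * y⁻¹ * (y * dd s u b a * y⁻¹) := by group
      _ = _ := by rw [hfix]
  rw [e3, e3]
  have hc : ∀ z w' v', P S s u π z w' v' → Commute z (dd s u b a) := fun z w' v' h =>
    Pair.commute_dd (K.pair.P_comm_su h).1 (K.pair.P_comm_su h).2 b a
  have c1 := hc _ _ _ (K.P_y hx)
  have c2 := hc _ _ _ (K.P_y (K.P_y hx))
  calc x * dd s u b a * (y * x * y⁻¹ * dd s u b a) * (y * (y * x * y⁻¹) * y⁻¹ * dd s u b a)
      = x * (dd s u b a * (y * x * y⁻¹)) * (dd s u b a * (y * (y * x * y⁻¹) * y⁻¹)) * dd s u b a := by group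
    _ = x * (y * x * y⁻¹) * (dd s u b a * dd s u b a * (y * (y * x * y⁻¹) * y⁻¹)) * (dd s u b a) := by
        rw [← c1.eq]; group
    _ = x * (y * x * y⁻¹) * (y * (y * x * y⁻¹) * y⁻¹) * dd s u b a := by
        rw [K.pair.dd_sq, one_mul]
    _ = 1 := by rw [e, K.pair.dd_sq]

theorem W_unique {x x' : G} (hx : x ∈ K.W) (hx' : x' ∈ K.W) {w v v' : W4} (h : P S s u π x w v)
    (h' : P S s u π x' w v') : x = x' := by
  obtain ⟨a₁, -, ha₁⟩ := K.W_coord hx
  obtain ⟨a₂, -, ha₂⟩ := K.W_coord hx'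
  obtain ⟨rfl, rfl⟩ := K.pair.P_unique h ha₁
  obtain ⟨rfl, rfl⟩ := K.pair.P_unique h' ha₂
  obtain ⟨b, a, e⟩ := K.pair.P_eq h h'
  have hm : dd s u b a ∈ K.W := by
    have := K.W.mul_mem (K.W.inv_mem hx) hx'
    rwa [e, inv_mul_cancel_left] at this
  have := hm.2
  rw [conj_eq_iff_commute.2 (K.dd_fix b a), conj_eq_iff_commute.2 (K.dd_fix b a)] at this
  rw [e, K.dd_cube this, mul_one]

theorem W_y {x : G} (hx : x ∈ K.W) : y * x * y⁻¹ ∈ K.W := by
  refine ⟨K.A_y hx.1, ?_⟩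
  calc y * x * y⁻¹ * (y * (y * x * y⁻¹) * y⁻¹) * (y * (y * (y * x * y⁻¹) * y⁻¹) * y⁻¹)
      = y * (x * (y * x * y⁻¹) * (y * (y * x * y⁻¹) * y⁻¹)) * y⁻¹ := by group
    _ = 1 := by rw [hx.2]; group

theorem W_fpf {x : G} (hx : x ∈ K.W) (hc : Commute y x) : x = 1 := by
  have h := hx.2
  rw [conj_eq_iff_commute.2 hc, conj_eq_iff_commute.2 hc, K.A_sq hx.1, one_mul] at h
  exact h

theorem W_sq {x : G} (hx : x ∈ K.W) : x * x = 1 := K.A_sq hx.1

theorem W_comm {x x' : G} (hx : x ∈ K.W) (hx' : x' ∈ K.W) : Commute x x' := K.A_comm hx.1 hx'.1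

theorem card_W : Nat.card K.W = 4 := by
  classical
  choose f hf hfP using fun w : {w : W4 // InU w} => K.W_exists w.2
  have hb : Function.Bijective fun w => (⟨f w, hf w⟩ : K.W) := by
    constructor
    · intro a b h
      have h' : f a = f b := congrArg (fun z : K.W => (z : G)) h
      exact Subtype.ext (K.pair.P_unique (hfP a) (h' ▸ hfP b)).1
    · rintro ⟨x, hx⟩
      obtain ⟨w, hw, hP⟩ := K.W_coord hx
      exact ⟨⟨w, hw⟩, Subtype.ext (K.W_unique (hf _) hx (hfP _) hP)⟩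
  rw [← Nat.card_eq_of_bijective _ hb, Nat.card_eq_fintype_card]
  decide +kernel

/-- A nontrivial element of the four-group has the second coordinate nonzero. -/
theorem W_ne {x : G} (hx : x ∈ K.W) (h1 : x ≠ 1) {w v : W4} (h : P S s u π x w v) : InU w ∧ w ≠ 0 := by
  obtain ⟨w', hw', h'⟩ := K.W_coord hx
  obtain ⟨rfl, rfl⟩ := K.pair.P_unique h h'
  refine ⟨hw', fun e => h1 ?_⟩
  subst e
  exact K.W_unique hx K.W.one_mem h (v' := 0) (Pair.dd_zero (s := s) (u := u) ▸ K.pair.dd_P 0 0)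

end Conf

end CfsgLib.SuzTwoB
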