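import Cfsg.Agent.Lib.SuzTwoB.Heis

/-!
# Finite facts on the coordinates
-/

set_option autoImplicit false
set_option linter.style.haveILetI false
set_option synthInstance.maxSize 20000
set_option maxRecDepth 10000

namespace CfsgLib.SuzTwoB

open CfsgLib.Classical.Quad CfsgLib.SuzType

/-- The rotation of the elliptic plane, on coordinates. -/
def rho (w : W4) : W4 := r4 w0 (r4 vd w)

/-- The rotation. -/
noncomputable def R : Orth Q6 := rr w0 vd

/-- The first two coordinates of `W4`. -/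
def w11 : W4 := (1, 1, 0, 0)

/-- The element inverting the rotation. -/
noncomputable def I0 : Orth Q6 := rr w0 w11

/-- Membership of the elliptic plane. -/
def InU (w : W4) : Prop := w.1 = 0 ∧ w.2.1 = 0

/-- Membership of its orthogonal complement. -/
def InP (w : W4) : Prop := w.2.2.1 = 0 ∧ w.2.2.2 = 0

/-- The graph of the rotation. -/
def InA (w v : W4) : Prop := InU w ∧ v = rho w

instance (w : W4) : Decidable (InU w) := inferInstanceAs (Decidable (_ ∧ _))
instance (w : W4) : Decidable (InP w) := inferInstanceAs (Decidable (_ ∧ _))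
instance (w v : W4) : Decidable (InA w v) := inferInstanceAs (Decidable (_ ∧ _))

/-- The two lines of the complement. -/
def InL (i : Bool) (w : W4) : Prop := if i then (w.2.1 = 0 ∧ InP w) else (w.1 = 0 ∧ InP w)

instance (i : Bool) (w : W4) : Decidable (InL i w) := by unfold InL; infer_instance

theorem q4_one : q4 w0 = 1 ∧ q4 vd = 1 ∧ q4 w11 = 1 := by decide

theorem R_mem : R ∈ Ev := rr_mem' q4_one.1 q4_one.2.1

theorem I0_mem : I0 ∈ Ev := rr_mem' q4_one.1 q4_one.2.2

theorem R_u0 : R.1 u0 = u0 := rr_u0 q4_one.1 q4_one.2.1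

theorem I0_u0 : I0.1 u0 = u0 := rr_u0 q4_one.1 q4_one.2.2

theorem R_v0 : R.1 v0 = v0 := rr_v0 q4_one.1 q4_one.2.1

theorem hW_R (w : W4) : hW R w = rho w := by
  rw [hW, R, rr_emb q4_one.1 q4_one.2.1]; rfl

theorem hW_I0 (w : W4) : hW I0 w = r4 w0 (r4 w11 w) := by
  rw [hW, I0, rr_emb q4_one.1 q4_one.2.2]; rfl

theorem R_cube : R ^ 3 = 1 := by
  refine orth_ext fun x => ?_
  rw [pow_succ, pow_two, mul_apply, mul_apply, one_apply, R, rr_apply q4_one.1 q4_one.2.1,
    rr_apply q4_one.1 q4_one.2.1, rr_apply q4_one.1 q4_one.2.1]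
  revert x; decide +kernel

theorem R_ne_one : R ≠ 1 := fun h => by
  have := congrArg (fun g : Orth Q6 => g.1 (emb w0)) h
  simp only [one_apply, R, rr_emb q4_one.1 q4_one.2.1] at this
  exact absurd this (by decide)

theorem I0_R : I0 * R * I0⁻¹ = R⁻¹ := by
  have h : I0 * R = R * R * I0 := by
    refine orth_ext fun x => ?_
    simp only [mul_apply, R, I0, rr_apply q4_one.1 q4_one.2.1, rr_apply q4_one.1 q4_one.2.2]
    revert x; decide +kernel
  have h3 : R * R = R⁻¹ := eq_inv_of_mul_eq_one_left (by rw [← pow_two, ← pow_succ, R_cube])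
  rw [← h3, h, mul_inv_cancel_right]

theorem rho_add (a b : W4) : rho (a + b) = rho a + rho b := by revert a b; decide +kernel

theorem rho_fix : ∀ w : W4, rho w = w ↔ InP w := by decide +kernel

theorem rho_cube : ∀ w : W4, rho (rho (rho w)) = w := by decide +kernel

theorem InU_zero : InU 0 ∧ InP 0 ∧ InA 0 0 ∧ ∀ i, InL i 0 := by decide +kernel

theorem InA_add : ∀ w w' : W4, InU w → InU w' → InU (w + w') := by decide +kernel

theorem InP_add : ∀ w w' : W4, InP w → InP w' → InP (w + w') := by decide +kernel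

theorem InL_add : ∀ i, ∀ w w' : W4, InL i w → InL i w' → InL i (w + w') := by decide +kernel

theorem InA_rho : ∀ w : W4, InU w → InU (rho w) ∧ InU (rho (rho w)) ∧ w + rho w + rho (rho w) = 0 := by
  decide +kernel

theorem InA_involution : ∀ w : W4, InU w → q4 w + B4 (rho w) w = 0 ∧ q4 (rho w) + B4 (rho w) w = 0 := by
  decide +kernel

theorem InA_comm : ∀ w w' : W4, InU w → InU w' →
    cu w (rho w) w' (rho w') = 0 ∧ cs w (rho w) w' (rho w') = 0 := by decide +kernel

theorem InA_InP_comm : ∀ w w' v' : W4, InU w → InP w' → InP v' →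
    cu w (rho w) w' v' = 0 ∧ cs w (rho w) w' v' = 0 := by decide +kernel

theorem cent_t0 : ∀ w v : W4, cu w0 vd w v = 0 → cs w0 vd w v = 0 → ∀ w' : W4, InU w' →
    cu w' (rho w') w v = 0 ∧ cs w' (rho w') w v = 0 := by decide +kernel

theorem cent_fixed : ∀ w v : W4, rho w = w → rho v = v → InP w ∧ InP v := by decide +kernel

theorem cent_K : ∀ w v : W4, cu w0 vd w v = 0 → cs w0 vd w v = 0 → q4 w + B4 v w = 0 → q4 v + B4 v w = 0 →
    q4 w = 0 → q4 v = 0 → InP w ∧ InP v := by decide +kernel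

theorem card_cent_t0 : (Finset.univ.filter fun k : W4 × W4 =>
    cu w0 vd k.1 k.2 = 0 ∧ cs w0 vd k.1 k.2 = 0).card = 64 := by decide +kernel

theorem card_InP : (Finset.univ.filter fun k : W4 × W4 => InP k.1 ∧ InP k.2).card = 16 := by decide +kernel

theorem card_InL : ∀ i, (Finset.univ.filter fun k : W4 × W4 => InL i k.1 ∧ InL i k.2).card = 4 := by
  decide +kernel

theorem card_zero : (Finset.univ.filter fun k : W4 × W4 => k.1 = 0 ∧ k.2 = 0).card = 1 := by decide +kernel

theorem InL_P : ∀ i, ∀ w : W4, InL i w → InP w := by decide +kernel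

theorem InL_both : ∀ w : W4, InL true w → InL false w → w = 0 := by decide +kernel

theorem InL_invol : ∀ i, ∀ w v : W4, InL i w → InL i v → q4 w + B4 v w = 0 ∧ q4 v + B4 v w = 0 := by
  decide +kernel

theorem InP_invol : ∀ w v : W4, InP w → InP v → q4 w + B4 v w = 0 → q4 v + B4 v w = 0 →
    (InL true w ∧ InL true v) ∨ (InL false w ∧ InL false v) := by decide +kernel

theorem InL_ncomm : ∀ w v w' v' : W4, InL true w → InL true v → ¬(InL false w ∧ InL false v) →
    InL false w' → InL false v' → ¬(InL true w' ∧ InL true v') → ¬(cu w v w' v' = 0 ∧ cs w v w' v' = 0) := by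
  decide +kernel

theorem InP_q_one : ∀ w : W4, InU w → w ≠ 0 → ∀ w' : W4, InP w' → q4 w' = 0 → q4 (w + w') = 1 := by
  decide +kernel

theorem fix_U : ∀ a : W4, q4 a = 0 → B4 a w0 = 0 → B4 a vd = 0 → a = 0 ∨ a = (1, 0, 0, 0) ∨ a = (0, 1, 0, 0) := by
  decide +kernel

theorem near_vd : ∀ w : W4, q4 w = 1 → B4 w w0 = 1 → B4 w vd = 1 → InU w → w = w0 + vd := by decide +kernel

theorem I0_facts : ∀ w : W4, InU w → InA (r4 w0 (r4 w11 w)) (r4 w0 (r4 w11 (rho w)) + r4 w0 (r4 w11 w)) := by
  decide +kernel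

theorem I0_values : r4 w0 (r4 w11 w0) = w0 ∧ r4 w0 (r4 w11 vd) = vd + w0 := by decide +kernel

theorem I0_swap : ∀ i, ∀ w v : W4, InL i w → InL i v →
    InL (!i) (r4 w0 (r4 w11 w)) ∧ InL (!i) (r4 w0 (r4 w11 v) + r4 w0 (r4 w11 w)) := by decide +kernel

end CfsgLib.SuzTwoB
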