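import Mathlib.GroupTheory.Sylow
import Mathlib.GroupTheory.GroupAction.Quotient
import Mathlib.Combinatorics.Enumerative.DoubleCounting
import Mathlib.Tactic.Group

/-!
# A group with involution centralizers of order `64` of the shape of those of `L₃(4)`

The Sylow `2`-subgroups are the centralizers of the involutions; counting the involutions modulo
`64` determines the order.
-/

set_option autoImplicit false
set_option linter.style.haveILetI false

namespace CfsgLib.SuzTwoB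

open Subgroup

universe u

variable {H : Type u} [Group H]

/-- The local data at an involution `s`. -/
structure Flag (H : Type u) [Group H] (s : H) (E₁ E₂ : Subgroup H) : Prop where
  cent : ∀ h : H, h * h = 1 → h ≠ 1 → Nat.card (centralizer ({h} : Set H)) = 64
  sq : s * s = 1
  ne : s ≠ 1
  le₁ : E₁ ≤ centralizer ({s} : Set H)
  le₂ : E₂ ≤ centralizer ({s} : Set H)
  card₁ : Nat.card E₁ = 16
  card₂ : Nat.card E₂ = 16
  sq₁ : ∀ a ∈ E₁, a * a = 1
  sq₂ : ∀ a ∈ E₂, a * a = 1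
  card_inf : Nat.card (E₁ ⊓ E₂ : Subgroup H) = 4
  invol : ∀ x ∈ centralizer ({s} : Set H), x * x = 1 → x ∈ E₁ ∨ x ∈ E₂
  ncomm : ∀ a ∈ E₁, a ∉ E₂ → ∀ b ∈ E₂, b ∉ E₁ → ¬ Commute a b
  center : ∀ z ∈ E₁ ⊓ E₂, z ≠ 1 → centralizer ({z} : Set H) = centralizer ({s} : Set H)

theorem card_orbit_conj (N : Subgroup H) (a : H) :
    Nat.card {x : H // ∃ n ∈ N, n * a * n⁻¹ = x} * Nat.card (N ⊓ centralizer ({a} : Set H) : Subgroup H) =
      Nat.card N := by
  have hst : ∀ n : ↥N, n ∈ (centralizer ({a} : Set H)).subgroupOf N ↔ (n : H) * a * (n : H)⁻¹ = a := fun n => by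
    rw [mem_subgroupOf, mem_centralizer_singleton_iff, mul_inv_eq_iff_eq_mul]
  rw [card_eq_card_quotient_mul_card_subgroup ((centralizer ({a} : Set H)).subgroupOf N)]
  congr 1
  · refine (Nat.card_congr (Equiv.ofBijective (fun q => Quotient.liftOn' q
      (fun n : ↥N => (⟨(n : H) * a * (n : H)⁻¹, n, n.2, rfl⟩ : {x : H // ∃ m ∈ N, m * a * m⁻¹ = x})) ?_) ⟨?_, ?_⟩)).symm
    · intro m n h
      rw [QuotientGroup.leftRel_apply, hst] at h
      refine Subtype.ext ?_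
      show (m : H) * a * (m : H)⁻¹ = (n : H) * a * (n : H)⁻¹
      calc (m : H) * a * (m : H)⁻¹ = (m : H) * ((m⁻¹ * n : ↥N) * a * ((m⁻¹ * n : ↥N) : H)⁻¹) * (m : H)⁻¹ := by rw [h]
        _ = _ := by simp [mul_assoc]
    · intro x y
      refine QuotientGroup.induction_on x fun m => QuotientGroup.induction_on y fun n h => ?_
      have h' : (m : H) * a * (m : H)⁻¹ = (n : H) * a * (n : H)⁻¹ := congrArg Subtype.val h
      rw [QuotientGroup.eq, hst]
      calc ((m⁻¹ * n : ↥N) : H) * a * ((m⁻¹ * n : ↥N) : H)⁻¹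
          = (m : H)⁻¹ * ((n : H) * a * (n : H)⁻¹) * (m : H) := by simp [mul_assoc]
        _ = a := by rw [← h']; group
    · rintro ⟨x, n, hn, rfl⟩
      exact ⟨QuotientGroup.mk ⟨n, hn⟩, rfl⟩
  · rw [← inf_subgroupOf_left, Nat.card_congr (subgroupOfEquivOfLe (show N ⊓ _ ≤ N from inf_le_left)).toEquiv]

/-- A set of elements stable under conjugation by `N`, with stabilizers of the same order. -/
theorem dvd_card_mul [Finite H] (N : Subgroup H) (X : Finset H) {c : ℕ}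
    (hX : ∀ a ∈ X, ∀ n ∈ N, n * a * n⁻¹ ∈ X)
    (hc : ∀ a ∈ X, Nat.card (N ⊓ centralizer ({a} : Set H) : Subgroup H) = c) :
    Nat.card N ∣ X.card * c := by
  classical
  haveI : Fintype H := Fintype.ofFinite H
  let f : H → Finset H := fun a => Finset.univ.filter fun x => ∃ n ∈ N, n * a * n⁻¹ = x
  rw [Finset.card_eq_sum_card_fiberwise (f := f) (t := X.image f) (fun a ha => Finset.mem_image_of_mem f ha),
    Finset.sum_mul]
  refine Finset.dvd_sum fun O hO => ?_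
  obtain ⟨a, ha, rfl⟩ := Finset.mem_image.1 hO
  have he : X.filter (fun b => f b = f a) = f a := by
    ext x
    simp only [Finset.mem_filter]
    constructor
    · rintro ⟨-, hfx⟩
      rw [← hfx]
      exact Finset.mem_filter.2 ⟨Finset.mem_univ _, 1, N.one_mem, by group⟩
    · intro hx
      obtain ⟨n, hn, rfl⟩ := (Finset.mem_filter.1 hx).2
      refine ⟨hX a ha n hn, ?_⟩
      ext y
      simp only [f, Finset.mem_filter, Finset.mem_univ, true_and]
      constructor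
      · rintro ⟨m, hm, rfl⟩
        exact ⟨m * n, N.mul_mem hm hn, by group⟩
      · rintro ⟨m, hm, rfl⟩
        exact ⟨m * n⁻¹, N.mul_mem hm (N.inv_mem hn), by group⟩
  have h := card_orbit_conj N a
  rw [hc a ha, Nat.card_eq_fintype_card, Fintype.card_subtype] at h
  exact ⟨1, by rw [he, mul_one, ← h]⟩

namespace Flag

variable {s : H} {E₁ E₂ : Subgroup H} (F : Flag H s E₁ E₂)
include F

theorem symm : Flag H s E₂ E₁ :=
  ⟨F.cent, F.sq, F.ne, F.le₂, F.le₁, F.card₂, F.card₁, F.sq₂, F.sq₁, by rw [inf_comm]; exact F.card_inf,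
    fun x hx hxx => (F.invol x hx hxx).symm, fun a ha ha' b hb hb' h => F.ncomm b hb hb' a ha ha' h.symm,
    fun z hz => F.center z (by rwa [inf_comm])⟩

theorem exists_out [Finite H] : ∃ a ∈ E₁, a ∉ E₂ := by
  by_contra h
  push Not at h
  have hle : E₁ ≤ E₁ ⊓ E₂ := fun a ha => ⟨ha, h a ha⟩
  have := Nat.le_of_dvd (by rw [F.card_inf]; norm_num) (card_dvd_of_le hle)
  rw [F.card₁, F.card_inf] at this
  omega

theorem comm₁ {a b : H} (ha : a ∈ E₁) (hb : b ∈ E₁) : Commute a b := by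
  have h := F.sq₁ _ (E₁.mul_mem ha hb)
  have e1 := inv_eq_of_mul_eq_one_right (F.sq₁ a ha)
  have e2 := inv_eq_of_mul_eq_one_right (F.sq₁ b hb)
  have e3 := inv_eq_of_mul_eq_one_right h
  rw [mul_inv_rev, e1, e2] at e3
  exact e3.symm

theorem s_mem [Finite H] : s ∈ E₁ ⊓ E₂ := by
  have hs : s ∈ centralizer ({s} : Set H) := mem_centralizer_singleton_iff.2 rfl
  rcases F.invol s hs F.sq with h | h
  · refine ⟨h, ?_⟩
    by_contra h'
    obtain ⟨b, hb, hb'⟩ := F.symm.exists_out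
    exact F.ncomm s h h' b hb hb' (Commute.symm (mem_centralizer_singleton_iff.1 (F.le₂ hb)))
  · refine ⟨?_, h⟩
    by_contra h'
    obtain ⟨b, hb, hb'⟩ := F.exists_out
    exact F.ncomm b hb hb' s h h' (mem_centralizer_singleton_iff.1 (F.le₁ hb))

theorem card_S : Nat.card (centralizer ({s} : Set H)) = 64 := F.cent s F.sq F.ne

theorem Z_comm [Finite H] {z x : H} (hz : z ∈ E₁ ⊓ E₂) (hx : x ∈ centralizer ({s} : Set H)) :
    Commute z x := by
  by_cases h1 : z = 1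
  · rw [h1]; exact Commute.one_left x
  · rw [← F.center z hz h1] at hx
    exact Commute.symm (mem_centralizer_singleton_iff.1 hx)

theorem exists_prod [Finite H] {x : H} (hx : x ∈ centralizer ({s} : Set H)) :
    ∃ a ∈ E₁, ∃ b ∈ E₂, x = a * b := by
  classical
  have h1 : Nat.card (↥(centralizer ({s} : Set H)) ⧸ E₂.subgroupOf (centralizer ({s} : Set H))) = 4 := by
    have h := card_eq_card_quotient_mul_card_subgroup (E₂.subgroupOf (centralizer ({s} : Set H)))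
    rw [Nat.card_congr (subgroupOfEquivOfLe F.le₂).toEquiv, F.card₂, F.card_S] at h
    omega
  have h2 : Nat.card (↥E₁ ⧸ E₂.subgroupOf E₁) = 4 := by
    have h := card_eq_card_quotient_mul_card_subgroup (E₂.subgroupOf E₁)
    rw [F.card₁, ← inf_subgroupOf_left,
      Nat.card_congr (subgroupOfEquivOfLe (show E₁ ⊓ E₂ ≤ E₁ from inf_le_left)).toEquiv, F.card_inf] at h
    rw [← inf_subgroupOf_left]
    omega
  let e := quotientSubgroupOfEmbeddingOfLE E₂ F.le₁
  have hb : Function.Bijective e :=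
    (Nat.bijective_iff_injective_and_card _).2 ⟨e.injective, by rw [h1, h2]⟩
  obtain ⟨q, hq⟩ := hb.2 (QuotientGroup.mk ⟨x, hx⟩)
  obtain ⟨⟨a, ha⟩, rfl⟩ := QuotientGroup.mk_surjective q
  rw [quotientSubgroupOfEmbeddingOfLE_apply_mk, QuotientGroup.eq, mem_subgroupOf] at hq
  exact ⟨a, ha, _, hq, by simp⟩

theorem eq_or_eq_of_le [Finite H] {K : Subgroup H} (hK : K ≤ centralizer ({s} : Set H)) (hc : Nat.card K = 16)
    (hsq : ∀ a ∈ K, a * a = 1) : K = E₁ ∨ K = E₂ := by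
  have hsub : ∀ a ∈ K, a ∈ E₁ ∨ a ∈ E₂ := fun a ha => F.invol a (hK ha) (hsq a ha)
  by_cases h : K ≤ E₁
  · exact Or.inl (eq_of_le_of_card_ge h (by rw [hc, F.card₁]))
  · obtain ⟨b, hb, hb'⟩ := SetLike.not_le_iff_exists.1 h
    have hb2 : b ∈ E₂ := (hsub b hb).resolve_left hb'
    refine Or.inr (eq_of_le_of_card_ge (fun a ha => ?_) (by rw [hc, F.card₂]))
    by_contra ha'
    have ha1 : a ∈ E₁ := (hsub a ha).resolve_right ha'
    have hab : Commute a b := by
      have h := hsq _ (K.mul_mem ha hb)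
      have e3 := inv_eq_of_mul_eq_one_right h
      rw [mul_inv_rev, inv_eq_of_mul_eq_one_right (hsq a ha), inv_eq_of_mul_eq_one_right (hsq b hb)] at e3
      exact e3.symm
    exact F.ncomm a ha1 ha' b hb2 hb' hab

theorem cent_out [Finite H] {a x : H} (ha : a ∈ E₁) (ha' : a ∉ E₂) (hx : x ∈ centralizer ({s} : Set H))
    (hc : Commute a x) : x ∈ E₁ := by
  obtain ⟨c, hc1, d, hd, rfl⟩ := F.exists_prod hx
  refine E₁.mul_mem hc1 ?_
  by_contra hd'
  refine F.ncomm a ha ha' d hd hd' ?_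
  have := (F.comm₁ ha hc1).inv_right.mul_right hc
  rwa [inv_mul_cancel_left] at this

theorem normal₁ [Finite H] {x a : H} (hx : x ∈ centralizer ({s} : Set H)) (ha : a ∈ E₁) :
    x * a * x⁻¹ ∈ E₁ := by
  obtain ⟨c, hc, d, hd, rfl⟩ := F.exists_prod hx
  have key : d * a * d⁻¹ ∈ E₁ := by
    by_cases ha2 : a ∈ E₂
    · rw [show d * a * d⁻¹ = a from
        mul_inv_eq_iff_eq_mul.2 (F.Z_comm ⟨ha, ha2⟩ (F.le₂ hd)).symm.eq]
      exact ha
    · refine (F.invol _ (mul_mem (mul_mem (F.le₂ hd) (F.le₁ ha)) (inv_mem (F.le₂ hd))) ?_).resolve_right fun h => ha2 ?_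
      · rw [show d * a * d⁻¹ * (d * a * d⁻¹) = d * (a * a) * d⁻¹ by group, F.sq₁ a ha]; group
      · have := E₂.mul_mem (E₂.mul_mem (E₂.inv_mem hd) h) hd
        rwa [show d⁻¹ * (d * a * d⁻¹) * d = a by group] at this
  rw [show c * d * a * (c * d)⁻¹ = c * (d * a * d⁻¹) * c⁻¹ by group]
  exact E₁.mul_mem (E₁.mul_mem hc key) (E₁.inv_mem hc)

theorem two_part [Finite H] : ¬ 128 ∣ Nat.card H := by
  intro h
  haveI : Fact (Nat.Prime 2) := ⟨Nat.prime_two⟩
  obtain ⟨T, hT, hle⟩ := Sylow.exists_subgroup_card_pow_succ (p := 2) (n := 6) (by simpa using h)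
    (H := centralizer ({s} : Set H)) (by rw [F.card_S]; norm_num)
  haveI : Nontrivial T := Finite.one_lt_card_iff_nontrivial.1 (by rw [hT]; norm_num)
  haveI := (IsPGroup.of_card (p := 2) hT).center_nontrivial
  obtain ⟨z, hz2⟩ := exists_prime_orderOf_dvd_card' (G := Subgroup.center T) 2
    ((((IsPGroup.of_card (p := 2) hT).to_subgroup _).card_eq_or_dvd).resolve_left
      (Finite.one_lt_card_iff_nontrivial.2 inferInstance).ne')
  have hzz : (z.1.1 : H) * z.1.1 = 1 := by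
    have := pow_orderOf_eq_one z
    rw [hz2, pow_two] at this
    exact congrArg (fun t : Subgroup.center T => (t.1.1 : H)) this
  have hz1 : (z.1.1 : H) ≠ 1 := fun e => by
    rw [show z = 1 from Subtype.ext (Subtype.ext e), orderOf_one] at hz2; omega
  have hsub : T ≤ centralizer ({(z.1.1 : H)} : Set H) := fun x hx =>
    mem_centralizer_singleton_iff.2 (congrArg Subtype.val (Subgroup.mem_center_iff.1 z.2 ⟨x, hx⟩))
  have h2 := card_le_of_le hsub
  rw [hT, F.cent _ hzz hz1] at h2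
  norm_num at h2

/-- Every involution is conjugate to a member of the intersection, with its centralizer. -/
theorem conj_Z [Finite H] {h : H} (hh : h * h = 1) (h1 : h ≠ 1) :
    ∃ g : H, g⁻¹ * h * g ∈ E₁ ⊓ E₂ ∧
      centralizer ({g⁻¹ * h * g} : Set H) = centralizer ({s} : Set H) := by
  haveI : Fact (Nat.Prime 2) := ⟨Nat.prime_two⟩
  obtain ⟨P, hP⟩ := (IsPGroup.of_card (p := 2) (n := 6) F.card_S).exists_le_sylow
  obtain ⟨R, hR⟩ := (IsPGroup.of_card (p := 2) (n := 6) (F.cent h hh h1)).exists_le_sylow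
  obtain ⟨k, hk⟩ := P.isPGroup'.exists_card_eq
  have hk6 : k ≤ 6 := by
    by_contra hc
    refine F.two_part (dvd_trans ?_ (card_subgroup_dvd_card (P : Subgroup H)))
    rw [hk]
    exact pow_dvd_pow 2 (show 7 ≤ k by omega)
  have hPS : centralizer ({s} : Set H) = (P : Subgroup H) :=
    eq_of_le_of_card_ge hP (by rw [hk, F.card_S]; exact Nat.pow_le_pow_right (by norm_num) hk6)
  have hRh : centralizer ({h} : Set H) = (R : Subgroup H) :=
    eq_of_le_of_card_ge hR (by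
      rw [Nat.card_congr (R.equiv P).toEquiv, hk, F.cent h hh h1]
      exact Nat.pow_le_pow_right (by norm_num) hk6)
  obtain ⟨g, hg⟩ := MulAction.exists_smul_eq H P R
  have hmem : ∀ x : H, Commute x h → g⁻¹ * x * g ∈ centralizer ({s} : Set H) := by
    intro x hx
    have hxR : x ∈ (R : Subgroup H) := hRh ▸ mem_centralizer_singleton_iff.2 hx
    rw [← hg, Sylow.coe_subgroup_smul, mem_pointwise_smul_iff_inv_smul_mem] at hxR
    rw [hPS]
    simpa [MulAut.smul_def, MulAut.conj_apply, mul_assoc] using hxR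
  have hconv : ∀ y ∈ centralizer ({s} : Set H), Commute y (g⁻¹ * h * g) := by
    intro y hy
    have h2 : g * y * g⁻¹ ∈ (R : Subgroup H) := by
      rw [← hg, Sylow.coe_subgroup_smul, mem_pointwise_smul_iff_inv_smul_mem, ← hPS]
      simpa [MulAut.smul_def, MulAut.conj_apply, mul_assoc] using hy
    rw [← hRh] at h2
    have h3 := mem_centralizer_singleton_iff.1 h2
    show y * (g⁻¹ * h * g) = g⁻¹ * h * g * y
    calc y * (g⁻¹ * h * g) = g⁻¹ * (g * y * g⁻¹ * h) * g := by group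
      _ = g⁻¹ * (h * (g * y * g⁻¹)) * g := by rw [h3]
      _ = _ := by group
  have hin := hmem h (Commute.refl h)
  have hgg : g⁻¹ * h * g * (g⁻¹ * h * g) = 1 := by
    rw [show g⁻¹ * h * g * (g⁻¹ * h * g) = g⁻¹ * (h * h) * g by group, hh]; group
  have hne : g⁻¹ * h * g ≠ 1 := fun e => h1 (by
    rw [show h = g * (g⁻¹ * h * g) * g⁻¹ by group, e]; group)
  have hZ : g⁻¹ * h * g ∈ E₁ ⊓ E₂ := by
    rcases F.invol _ hin hgg with e | e
    · refine ⟨e, ?_⟩
      by_contra e'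
      obtain ⟨b, hb, hb'⟩ := F.symm.exists_out
      exact F.ncomm _ e e' b hb hb' (hconv b (F.le₂ hb)).symm
    · refine ⟨?_, e⟩
      by_contra e'
      obtain ⟨b, hb, hb'⟩ := F.exists_out
      exact F.ncomm b hb hb' _ e e' (hconv b (F.le₁ hb))
  exact ⟨g, hZ, F.center _ hZ hne⟩

/-- The normalizer of `E₁`. -/
def P₁ (_F : Flag H s E₁ E₂) : Subgroup H := normalizer (E₁ : Set H)

theorem mem_P₁ {n : H} : n ∈ F.P₁ ↔ ∀ a, a ∈ E₁ ↔ n * a * n⁻¹ ∈ E₁ := mem_normalizer_iff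

theorem cent_le_P₁ [Finite H] {a x : H} (ha : a ∈ E₁) (h1 : a ≠ 1) (hx : Commute x a) : x ∈ F.P₁ := by
  obtain ⟨g, -, hS⟩ := F.conj_Z (F.sq₁ a ha) h1
  have hin : ∀ y : H, Commute y a → g⁻¹ * y * g ∈ centralizer ({s} : Set H) := fun y hy => by
    rw [← hS, mem_centralizer_singleton_iff]
    calc g⁻¹ * y * g * (g⁻¹ * a * g) = g⁻¹ * (y * a) * g := by group
      _ = g⁻¹ * (a * y) * g := by rw [hy.eq]
      _ = _ := by group
  let K : Subgroup H := E₁.map (MulAut.conj g⁻¹).toMonoidHom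
  have hmem : ∀ c, c ∈ E₁ → g⁻¹ * c * g ∈ K := fun c hc => ⟨c, hc, by simp⟩
  have hback : ∀ k, k ∈ K → g * k * g⁻¹ ∈ E₁ := by
    rintro _ ⟨c, hc, rfl⟩
    simpa [mul_assoc] using hc
  have hK : K ≤ centralizer ({s} : Set H) := fun k hk => by
    have := hin _ (F.comm₁ (hback k hk) ha)
    rwa [show g⁻¹ * (g * k * g⁻¹) * g = k by group] at this
  have hKn : ∀ y ∈ centralizer ({s} : Set H), ∀ k ∈ K, y * k * y⁻¹ ∈ K := by
    rcases F.eq_or_eq_of_le hK (by
      rw [Nat.card_congr (E₁.equivMapOfInjective _ (MulEquiv.injective _)).toEquiv.symm, F.card₁]) (fun k hk => by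
        have h := F.sq₁ _ (hback k hk)
        rw [show g * k * g⁻¹ * (g * k * g⁻¹) = g * (k * k) * g⁻¹ by group, conj_eq_one_iff] at h
        exact h) with e | e <;> rw [e]
    · exact fun y hy k hk => F.normal₁ hy hk
    · exact fun y hy k hk => F.symm.normal₁ hy hk
  have hfwd : ∀ y : H, Commute y a → ∀ c ∈ E₁, y * c * y⁻¹ ∈ E₁ := fun y hy c hc => by
    have := hback _ (hKn _ (hin y hy) _ (hmem c hc))
    rwa [show g * (g⁻¹ * y * g * (g⁻¹ * c * g) * (g⁻¹ * y * g)⁻¹) * g⁻¹ = y * c * y⁻¹ by group] at this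
  refine F.mem_P₁.2 fun c => ⟨hfwd x hx c, fun hc => ?_⟩
  have := hfwd x⁻¹ hx.inv_left _ hc
  rwa [show x⁻¹ * (x * c * x⁻¹) * x⁻¹⁻¹ = c by group] at this

theorem cent_E₁ [Finite H] {x : H} (hx : ∀ c ∈ E₁, Commute x c) : x ∈ E₁ := by
  obtain ⟨a, ha, ha'⟩ := F.exists_out
  exact F.cent_out ha ha' (mem_centralizer_singleton_iff.2 (hx s F.s_mem.1)) (hx a ha).symm

theorem S_le_P₁ [Finite H] : centralizer ({s} : Set H) ≤ F.P₁ := fun _ hx =>
  F.cent_le_P₁ F.s_mem.1 F.ne (mem_centralizer_singleton_iff.1 hx)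

theorem inf_cent_out [Finite H] {b : H} (hb : b ∈ E₂) (hb' : b ∉ E₁) :
    E₁ ⊓ centralizer ({b} : Set H) = E₁ ⊓ E₂ := by
  ext x
  constructor
  · rintro ⟨hx, hc⟩
    refine ⟨hx, by_contra fun h => F.ncomm x hx h b hb hb' ?_⟩
    exact mem_centralizer_singleton_iff.1 hc
  · intro hx
    exact ⟨hx.1, mem_centralizer_singleton_iff.2 (F.Z_comm hx (F.le₂ hb)).eq⟩

theorem inf_S [Finite H] {a : H} (ha : a ∈ E₁) (ha' : a ∉ E₂) :
    centralizer ({s} : Set H) ⊓ centralizer ({a} : Set H) = E₁ := by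
  ext x
  constructor
  · rintro ⟨hx, hc⟩
    exact F.cent_out ha ha' hx (Commute.symm (mem_centralizer_singleton_iff.1 hc))
  · intro hx
    exact ⟨F.le₁ hx, mem_centralizer_singleton_iff.2 (F.comm₁ hx ha).eq⟩

noncomputable def fE [Finite H] (_F : Flag H s E₁ E₂) (K : Subgroup H) : Finset H :=
  haveI : Fintype H := Fintype.ofFinite H
  haveI : DecidablePred fun x => x ∈ K ∧ x ≠ 1 := Classical.decPred _
  Finset.univ.filter fun x => x ∈ K ∧ x ≠ 1

theorem mem_fE [Finite H] {K : Subgroup H} {x : H} : x ∈ F.fE K ↔ x ∈ K ∧ x ≠ 1 := by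
  simp [fE]

theorem card_fE [Finite H] (K : Subgroup H) : (F.fE K).card + 1 = Nat.card K := by
  classical
  haveI : Fintype H := Fintype.ofFinite H
  have h : (Finset.univ.filter fun x => x ∈ K).card = Nat.card K := by
    rw [Nat.card_eq_fintype_card, Fintype.card_subtype]
  have e : (Finset.univ.filter fun x => x ∈ K).erase 1 = F.fE K := by
    ext x
    simp [fE, and_comm]
  rw [← e, Finset.card_erase_add_one (by simp [K.one_mem]), h]

theorem card_P₁ [Finite H] : Nat.card F.P₁ = 960 := by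
  classical
  haveI : Fintype H := Fintype.ofFinite H
  set X := F.fE E₁ with hX
  have hX15 : X.card = 15 := by have := F.card_fE E₁; rw [F.card₁, ← hX] at this; omega
  have hstab : ∀ a ∈ X, Nat.card (F.P₁ ⊓ centralizer ({a} : Set H) : Subgroup H) = 64 := by
    intro a ha
    obtain ⟨ha, h1⟩ := F.mem_fE.1 ha
    rw [inf_eq_right.2 fun x hx => F.cent_le_P₁ ha h1 (mem_centralizer_singleton_iff.1 hx),
      F.cent a (F.sq₁ a ha) h1]
  have hclosed : ∀ a ∈ X, ∀ n ∈ F.P₁, n * a * n⁻¹ ∈ X := fun a ha n hn =>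
    F.mem_fE.2 ⟨(F.mem_P₁.1 hn a).1 (F.mem_fE.1 ha).1, fun e => (F.mem_fE.1 ha).2 (conj_eq_one_iff.1 e)⟩
  have hdvd := dvd_card_mul F.P₁ X hclosed hstab
  rw [hX15] at hdvd
  have h64 : 64 ∣ Nat.card F.P₁ := by
    have := card_dvd_of_le F.S_le_P₁
    rwa [F.card_S] at this
  obtain ⟨n, hn⟩ := h64
  rw [hn, mul_comm 15 64] at hdvd
  have hn15 : n ∣ 15 := Nat.dvd_of_mul_dvd_mul_left (by norm_num) hdvd
  -- an orbit of the centralizer of `s` of length four
  obtain ⟨a, ha, ha'⟩ := F.exists_out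
  have h1 : a ≠ 1 := fun e => ha' (e ▸ E₂.one_mem)
  have h4 := card_orbit_conj (centralizer ({s} : Set H)) a
  rw [F.inf_S ha ha', F.card₁, F.card_S] at h4
  have hO := card_orbit_conj F.P₁ a
  rw [hstab a (F.mem_fE.2 ⟨ha, h1⟩), hn] at hO
  have hge : 4 ≤ n := by
    have := Nat.card_le_card_of_injective
      (fun x : {x : H // ∃ k ∈ centralizer ({s} : Set H), k * a * k⁻¹ = x} =>
        (⟨x.1, by obtain ⟨k, hk, e⟩ := x.2; exact ⟨k, F.S_le_P₁ hk, e⟩⟩ :
          {x : H // ∃ k ∈ F.P₁, k * a * k⁻¹ = x}))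
      (fun x y h => Subtype.ext (congrArg (fun q : {x : H // ∃ k ∈ F.P₁, k * a * k⁻¹ = x} => q.1) h))
    omega
  have hn' : n = 5 ∨ n = 15 := by
    have := Nat.le_of_dvd (by norm_num) hn15
    interval_cases n <;> first | omega | norm_num at hn15
  rcases hn' with rfl | rfl
  swap
  · rw [hn]
  exfalso
  -- the group induced on `E₁` would have order twenty
  let φ : ↥(normalizer (E₁ : Set H)) →* MulAut ↥E₁ := E₁.normalizerMonoidHom
  have hφ : ∀ (m : ↥(normalizer (E₁ : Set H))) (c : ↥E₁), ((φ m c : ↥E₁) : H) = (m : H) * (c : H) * (m : H)⁻¹ :=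
    fun m c => rfl
  have hker : ∀ m, φ m = 1 ↔ (m : H) ∈ E₁ := by
    intro m
    constructor
    · intro h
      refine F.cent_E₁ fun c hc => mul_inv_eq_iff_eq_mul.1 ?_
      have := congrArg (fun e : MulAut ↥E₁ => ((e ⟨c, hc⟩ : ↥E₁) : H)) h
      simpa [hφ] using this
    · intro h
      refine MulEquiv.ext fun c => Subtype.ext ?_
      rw [hφ, (F.comm₁ h c.2).eq]
      simp
  have hR : Nat.card φ.range = 20 := by
    have h := card_eq_card_quotient_mul_card_subgroup φ.ker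
    have hk : Nat.card φ.ker = 16 := by
      rw [show φ.ker = E₁.subgroupOf (normalizer (E₁ : Set H)) from by
        ext m; rw [MonoidHom.mem_ker, mem_subgroupOf, hker],
        Nat.card_congr (subgroupOfEquivOfLe le_normalizer).toEquiv, F.card₁]
    rw [hk, show Nat.card ↥(normalizer (E₁ : Set H)) = 64 * 5 from hn] at h
    rw [← Nat.card_congr (QuotientGroup.quotientKerEquivRange φ).toEquiv]
    omega
  haveI : Fact (Nat.Prime 5) := ⟨by decide⟩
  obtain ⟨⟨f, m, rfl⟩, hf⟩ := exists_prime_orderOf_dvd_card' (G := φ.range) 5 (by rw [hR]; norm_num)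
  have hf5 : orderOf (φ m) = 5 := by rw [← hf]; exact Subgroup.orderOf_coe (⟨φ m, m, rfl⟩ : φ.range)
  have hsyl : ∀ P : Sylow 5 φ.range, Nat.card P = 5 := fun P => by
    rw [P.card_eq_multiplicity, hR, show (20 : ℕ).factorization 5 = 1 from by
      rw [show (20 : ℕ) = 2 ^ 2 * 5 ^ 1 by rfl, Nat.factorization_mul (by decide) (by decide),
        Nat.Prime.factorization_pow Nat.prime_two, Nat.Prime.factorization_pow (by decide : Nat.Prime 5)]
      simp]
    rfl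
  have huniq : Subsingleton (Sylow 5 φ.range) := by
    refine (Nat.card_eq_one_iff_unique.1 ?_).1
    obtain ⟨P⟩ : Nonempty (Sylow 5 φ.range) := inferInstance
    have h1 := P.card_dvd_index
    have h2 := card_sylow_modEq_one 5 φ.range
    have h3 := Subgroup.card_mul_index (P : Subgroup φ.range)
    rw [hsyl, hR] at h3
    have h4 : (P : Subgroup φ.range).index = 4 := by omega
    rw [h4] at h1
    have := Nat.le_of_dvd (by norm_num) h1
    unfold Nat.ModEq at h2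
    omega
  have hinv : ∀ b, b ∈ E₂ → ∃ k : ℕ, k < 5 ∧ k * k % 5 = 1 ∧ ∀ hb : b ∈ normalizer (E₁ : Set H),
      φ ⟨b, hb⟩ * φ m * (φ ⟨b, hb⟩)⁻¹ = φ m ^ k := by
    intro b hb2
    have hb : b ∈ normalizer (E₁ : Set H) := F.S_le_P₁ (F.le₂ hb2)
    obtain ⟨P⟩ : Nonempty (Sylow 5 φ.range) := inferInstance
    have hP : (P : Subgroup φ.range) = zpowers ⟨φ m, m, rfl⟩ := by
      obtain ⟨Q, hQ⟩ := (IsPGroup.of_card (p := 5) (n := 1)
        (show Nat.card (zpowers (⟨φ m, m, rfl⟩ : φ.range)) = 5 ^ 1 by rw [Nat.card_zpowers, hf]; norm_num)).exists_le_sylow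
      rw [Subsingleton.elim P Q]
      exact (eq_of_le_of_card_ge hQ (by rw [hsyl Q, Nat.card_zpowers, hf])).symm
    haveI hn : (P : Subgroup φ.range).Normal := Sylow.normal_of_subsingleton P
    set β : φ.range := ⟨φ ⟨b, hb⟩, _, rfl⟩
    have hmem := hn.conj_mem ⟨φ m, m, rfl⟩ (hP ▸ mem_zpowers _) β
    rw [hP, mem_zpowers_iff_mem_range_orderOf, Finset.mem_image] at hmem
    obtain ⟨k, hk, e⟩ := hmem
    rw [Finset.mem_range, hf] at hk
    have e' : φ ⟨b, hb⟩ * φ m * (φ ⟨b, hb⟩)⁻¹ = φ m ^ k := (congrArg Subtype.val e).symm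
    refine ⟨k, hk, ?_, fun _ => e'⟩
    have hb1 : φ ⟨b, hb⟩ * φ ⟨b, hb⟩ = 1 := by
      rw [← map_mul, show (⟨b, hb⟩ : ↥(normalizer (E₁ : Set H))) * ⟨b, hb⟩ = 1 from Subtype.ext (F.sq₂ b hb2), map_one]
    have hkk : φ m ^ (k * k) = φ m := by
      rw [pow_mul, ← e', conj_pow, ← e']
      calc φ ⟨b, hb⟩ * (φ ⟨b, hb⟩ * φ m * (φ ⟨b, hb⟩)⁻¹) * (φ ⟨b, hb⟩)⁻¹
          = (φ ⟨b, hb⟩ * φ ⟨b, hb⟩) * φ m * (φ ⟨b, hb⟩ * φ ⟨b, hb⟩)⁻¹ := by group
        _ = φ m := by rw [hb1]; group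
    have := (pow_eq_pow_iff_modEq (x := φ m) (n := k * k) (m := 1)).1 (by rw [hkk, pow_one])
    rw [hf5] at this
    exact this
  have hex : ∃ e, e ∈ E₂ ∧ e ∉ E₁ ∧ ∀ he : e ∈ normalizer (E₁ : Set H), Commute (φ ⟨e, he⟩) (φ m) := by
    obtain ⟨b, hb, hb'⟩ := F.symm.exists_out
    obtain ⟨b', hb2, hb2'⟩ : ∃ b', b' ∈ F.fE E₂ ∧
        b' ∉ F.fE (E₁ ⊓ E₂) ∪ (F.fE (E₁ ⊓ E₂)).image (b * ·) ∪ {b} := by
      refine Finset.exists_mem_notMem_of_card_lt_card ?_
      have h1 := F.card_fE E₂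
      have h2 := F.card_fE (E₁ ⊓ E₂)
      rw [F.card₂] at h1
      rw [F.card_inf] at h2
      refine lt_of_le_of_lt (Finset.card_union_le _ _) ?_
      have := Finset.card_union_le (F.fE (E₁ ⊓ E₂)) ((F.fE (E₁ ⊓ E₂)).image (b * ·))
      have := Finset.card_image_le (s := F.fE (E₁ ⊓ E₂)) (f := (b * ·))
      rw [Finset.card_singleton]
      omega
    simp only [Finset.mem_union, Finset.mem_singleton, Finset.mem_image, F.mem_fE, not_or] at hb2 hb2'
    have hb'1 : b' ∉ E₁ := fun h => hb2'.1.1 ⟨⟨h, hb2.1⟩, hb2.2⟩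
    have hbb : b * b' ∉ E₁ := fun h => hb2'.1.2 ⟨b * b', ⟨⟨h, E₂.mul_mem hb hb2.1⟩, fun e => hb2'.2 (by
      rw [← inv_eq_of_mul_eq_one_right e, inv_eq_of_mul_eq_one_right (F.sq₂ b hb)])⟩,
      by rw [← mul_assoc, F.sq₂ b hb, one_mul]⟩
    obtain ⟨k, hk, hkk, hke⟩ := hinv b hb
    obtain ⟨k', hk', hkk', hke'⟩ := hinv b' hb2.1
    have hsol : ∀ k : ℕ, k < 5 → k * k % 5 = 1 → k = 1 ∨ k = 4 := by decide
    rcases hsol k hk hkk with rfl | rfl
    · exact ⟨b, hb, hb', fun he => mul_inv_eq_iff_eq_mul.1 (by rw [hke he, pow_one])⟩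
    rcases hsol k' hk' hkk' with rfl | rfl
    · exact ⟨b', hb2.1, hb'1, fun he => mul_inv_eq_iff_eq_mul.1 (by rw [hke' he, pow_one])⟩
    refine ⟨b * b', E₂.mul_mem hb hb2.1, hbb, fun he => mul_inv_eq_iff_eq_mul.1 ?_⟩
    have hbN := F.S_le_P₁ (F.le₂ hb)
    have hb'N := F.S_le_P₁ (F.le₂ hb2.1)
    rw [show (⟨b * b', he⟩ : ↥(normalizer (E₁ : Set H))) = ⟨b, hbN⟩ * ⟨b', hb'N⟩ from rfl, map_mul]
    calc φ ⟨b, hbN⟩ * φ ⟨b', hb'N⟩ * φ m * (φ ⟨b, hbN⟩ * φ ⟨b', hb'N⟩)⁻¹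
        = φ ⟨b, hbN⟩ * (φ ⟨b', hb'N⟩ * φ m * (φ ⟨b', hb'N⟩)⁻¹) * (φ ⟨b, hbN⟩)⁻¹ := by group
      _ = φ ⟨b, hbN⟩ * φ m ^ 4 * (φ ⟨b, hbN⟩)⁻¹ := by rw [hke' hb'N]
      _ = φ m ^ (4 * 4) := by rw [← conj_pow, hke hbN, ← pow_mul]
      _ = φ m := by rw [← pow_mod_orderOf, hf5]; norm_num
  obtain ⟨e, he2, he1, hec⟩ := hex
  have heN := F.S_le_P₁ (F.le₂ he2)
  -- the element of order five fixes `s`
  have hcomm : ∀ k : ℕ, (m : H) ^ k * s * ((m : H) ^ k)⁻¹ ∈ F.fE (E₁ ⊓ E₂) := by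
    intro k
    have hc := (hec heN).pow_right k
    rw [← map_pow] at hc
    have h1 := congrArg (fun ψ : MulAut ↥E₁ => ((ψ ⟨s, F.s_mem.1⟩ : ↥E₁) : H)) hc.eq
    simp only [MulAut.mul_apply, hφ, SubmonoidClass.coe_pow] at h1
    rw [show e * s * e⁻¹ = s from mul_inv_eq_iff_eq_mul.2 (mem_centralizer_singleton_iff.1 (F.le₂ he2))] at h1
    have hmem : (m : H) ^ k * s * ((m : H) ^ k)⁻¹ ∈ E₁ := (mem_normalizer_iff.1 (pow_mem m.2 k) s).1 F.s_mem.1
    refine F.mem_fE.2 ⟨?_, fun h => F.ne (conj_eq_one_iff.1 h)⟩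
    rw [← F.inf_cent_out he2 he1]
    exact ⟨hmem, mem_centralizer_singleton_iff.2 (mul_inv_eq_iff_eq_mul.1 h1).symm⟩
  have h5 : ((m : H) ^ 5) ∈ E₁ := by
    have := (hker (m ^ 5)).1 (by rw [map_pow, ← hf5, pow_orderOf_eq_one])
    simpa using this
  have hfix5 : ∀ k, (m : H) ^ (k + 5) * s * ((m : H) ^ (k + 5))⁻¹ = (m : H) ^ k * s * ((m : H) ^ k)⁻¹ := by
    intro k
    rw [pow_add]
    calc (m : H) ^ k * (m : H) ^ 5 * s * ((m : H) ^ k * (m : H) ^ 5)⁻¹
        = (m : H) ^ k * ((m : H) ^ 5 * s * ((m : H) ^ 5)⁻¹) * ((m : H) ^ k)⁻¹ := by group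
      _ = _ := by rw [show (m : H) ^ 5 * s * ((m : H) ^ 5)⁻¹ = s from
        mul_inv_eq_iff_eq_mul.2 (F.comm₁ h5 F.s_mem.1).eq]
  have hms : Commute (m : H) s := by
    obtain ⟨i, hi, j, hj, hij, e⟩ := Finset.exists_ne_map_eq_of_card_lt_of_maps_to (s := Finset.range 5)
      (t := F.fE (E₁ ⊓ E₂)) (f := fun k => (m : H) ^ k * s * ((m : H) ^ k)⁻¹) (by
        have := F.card_fE (E₁ ⊓ E₂); rw [F.card_inf] at this; rw [Finset.card_range]; omega) (fun k _ => hcomm k)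
    have key : ∀ d k : ℕ, Commute ((m : H) ^ d) s → Commute ((m : H) ^ (d * k)) s := fun d k h => by
      rw [pow_mul]; exact h.pow_left k
    have hd : ∃ d, 0 < d ∧ d < 5 ∧ Commute ((m : H) ^ d) s := by
      rcases lt_or_gt_of_ne hij with h | h
      · refine ⟨j - i, by omega, by have := Finset.mem_range.1 hj; omega, mul_inv_eq_iff_eq_mul.1 ?_⟩
        obtain ⟨d, rfl⟩ := Nat.exists_eq_add_of_lt h
        rw [show i + d + 1 - i = d + 1 by omega]
        rw [show i + d + 1 = i + (d + 1) by omega, pow_add] at e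
        refine mul_left_cancel (a := (m : H) ^ i) (mul_right_cancel (b := ((m : H) ^ i)⁻¹) ?_)
        rw [e]; group
      · refine ⟨i - j, by omega, by have := Finset.mem_range.1 hi; omega, mul_inv_eq_iff_eq_mul.1 ?_⟩
        obtain ⟨d, rfl⟩ := Nat.exists_eq_add_of_lt h
        rw [show j + d + 1 - j = d + 1 by omega]
        rw [show j + d + 1 = j + (d + 1) by omega, pow_add] at e
        refine mul_left_cancel (a := (m : H) ^ j) (mul_right_cancel (b := ((m : H) ^ j)⁻¹) ?_)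
        rw [← e]; group
    obtain ⟨d, hd0, hd5, hdc⟩ := hd
    obtain ⟨k, q, hkq⟩ : ∃ k q : ℕ, d * k = 5 * q + 1 := by
      interval_cases d
      · exact ⟨1, 0, rfl⟩
      · exact ⟨3, 1, rfl⟩
      · exact ⟨2, 1, rfl⟩
      · exact ⟨4, 3, rfl⟩
    have h2 := key d k hdc
    rw [hkq, pow_add, pow_one, pow_mul] at h2
    have := (((F.comm₁ h5 F.s_mem.1).pow_left q).inv_left).mul_left h2
    rwa [inv_mul_cancel_left] at this
  have hmS : (m : H) ∈ centralizer ({s} : Set H) := mem_centralizer_singleton_iff.2 hms.eq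
  have h64m : (m : H) ^ 64 = 1 := by
    have := pow_card_eq_one' (x := (⟨(m : H), hmS⟩ : centralizer ({s} : Set H)))
    rw [F.card_S] at this
    exact congrArg Subtype.val this
  have : φ m ^ 64 = 1 := by
    rw [← map_pow, show m ^ 64 = 1 from Subtype.ext h64m, map_one]
  have := orderOf_dvd_of_pow_eq_one this
  rw [hf5] at this
  norm_num at this

/-- All involutions are conjugate. -/
theorem conj_s [Finite H] {h : H} (hh : h * h = 1) (h1 : h ≠ 1) : ∃ g : H, g * s * g⁻¹ = h := by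
  classical
  obtain ⟨g, hZ, -⟩ := F.conj_Z hh h1
  have hne : g⁻¹ * h * g ≠ 1 := fun e => h1 (by rw [show h = g * (g⁻¹ * h * g) * g⁻¹ by group, e]; group)
  -- the orbit of `s` in `E₁` is everything
  have hO := card_orbit_conj F.P₁ s
  rw [inf_eq_right.2 F.S_le_P₁, F.card_S, F.card_P₁] at hO
  let emb : {x : H // ∃ n ∈ F.P₁, n * s * n⁻¹ = x} → {x : H // x ∈ F.fE E₁} := fun x =>
    ⟨x.1, by
      obtain ⟨n, hn, e⟩ := x.2
      exact F.mem_fE.2 ⟨e ▸ (F.mem_P₁.1 hn s).1 F.s_mem.1, fun h => F.ne (conj_eq_one_iff.1 (e.trans h))⟩⟩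
  have hb : Function.Bijective emb := (Nat.bijective_iff_injective_and_card _).2
    ⟨fun x y hxy => Subtype.ext (congrArg (fun q : {x : H // x ∈ F.fE E₁} => q.1) hxy), by
      rw [Nat.card_eq_fintype_card (α := {x : H // x ∈ F.fE E₁}), Fintype.card_coe]
      have := F.card_fE E₁
      rw [F.card₁] at this
      omega⟩
  obtain ⟨⟨x, n, hn, e⟩, hx⟩ := hb.2 ⟨_, F.mem_fE.2 ⟨hZ.1, hne⟩⟩
  have hx' : x = g⁻¹ * h * g := congrArg Subtype.val hx
  refine ⟨g * n, ?_⟩
  rw [show g * n * s * (g * n)⁻¹ = g * (n * s * n⁻¹) * g⁻¹ by group, e, hx']; group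

/-- The involutions. -/
noncomputable def invs [Finite H] (_F : Flag H s E₁ E₂) : Finset H :=
  haveI : Fintype H := Fintype.ofFinite H
  haveI : DecidablePred fun x : H => x * x = 1 ∧ x ≠ 1 := Classical.decPred _
  Finset.univ.filter fun x => x * x = 1 ∧ x ≠ 1

theorem mem_invs [Finite H] {x : H} : x ∈ F.invs ↔ x * x = 1 ∧ x ≠ 1 := by
  simp [invs]

theorem card_invs [Finite H] : F.invs.card * 64 = Nat.card H := by
  classical
  haveI : Fintype H := Fintype.ofFinite H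
  have h := card_orbit_conj (⊤ : Subgroup H) s
  rw [top_inf_eq, F.card_S, card_top, Nat.card_eq_fintype_card (α := {x : H // _}), Fintype.card_subtype] at h
  rw [← h]
  congr 2
  ext x
  simp only [F.mem_invs, Finset.mem_filter, Finset.mem_univ, true_and, mem_top]
  constructor
  · rintro ⟨h1, h2⟩
    exact F.conj_s h1 h2
  · rintro ⟨g, rfl⟩
    exact ⟨by rw [show g * s * g⁻¹ * (g * s * g⁻¹) = g * (s * s) * g⁻¹ by group, F.sq]; group,
      fun e => F.ne (conj_eq_one_iff.1 e)⟩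

theorem card_cent_invs [Finite H] [DecidableEq H] [DecidablePred fun x : H => Commute x s] :
    (F.invs.filter fun x => Commute x s).card = 27 := by
  classical
  have e : (F.invs.filter fun x => Commute x s) = F.fE E₁ ∪ F.fE E₂ := by
    ext x
    simp only [Finset.mem_filter, F.mem_invs, Finset.mem_union, F.mem_fE]
    constructor
    · rintro ⟨⟨h1, h2⟩, hc⟩
      rcases F.invol x (mem_centralizer_singleton_iff.2 hc.eq) h1 with h | h
      · exact Or.inl ⟨h, h2⟩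
      · exact Or.inr ⟨h, h2⟩
    · rintro (⟨h, h2⟩ | ⟨h, h2⟩)
      · exact ⟨⟨F.sq₁ x h, h2⟩, mem_centralizer_singleton_iff.1 (F.le₁ h)⟩
      · exact ⟨⟨F.sq₂ x h, h2⟩, mem_centralizer_singleton_iff.1 (F.le₂ h)⟩
  have hi : F.fE E₁ ∩ F.fE E₂ = F.fE (E₁ ⊓ E₂) := by
    ext x
    simp only [Finset.mem_inter, F.mem_fE, Subgroup.mem_inf]
    tauto
  have h := Finset.card_union_add_card_inter (F.fE E₁) (F.fE E₂)
  rw [← e, hi] at h
  have h1 := F.card_fE E₁
  have h2 := F.card_fE E₂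
  have h3 := F.card_fE (E₁ ⊓ E₂)
  rw [F.card₁] at h1
  rw [F.card₂] at h2
  rw [F.card_inf] at h3
  omega

theorem card_cent_invs' [Finite H] [DecidableEq H] {a : H} (ha : a * a = 1) (h1 : a ≠ 1)
    [DecidablePred fun x : H => Commute x a] : (F.invs.filter fun x => Commute x a).card = 27 := by
  classical
  obtain ⟨g, hg⟩ := F.conj_s ha h1
  rw [← F.card_cent_invs]
  symm
  refine Finset.card_bij (fun x _ => g * x * g⁻¹) (fun x hx => ?_) (fun x _ y _ e => ?_) (fun y hy => ?_)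
  · simp only [Finset.mem_filter, F.mem_invs] at hx ⊢
    refine ⟨⟨?_, fun e => hx.1.2 (conj_eq_one_iff.1 e)⟩, ?_⟩
    · rw [show g * x * g⁻¹ * (g * x * g⁻¹) = g * (x * x) * g⁻¹ by group, hx.1.1]; group
    · rw [← hg]
      exact hx.2.map (MulAut.conj g).toMonoidHom
  · exact mul_left_cancel (mul_right_cancel e)
  · simp only [Finset.mem_filter, F.mem_invs] at hy
    refine ⟨g⁻¹ * y * g, ?_, by group⟩
    simp only [Finset.mem_filter, F.mem_invs]
    refine ⟨⟨?_, fun e => hy.1.2 ?_⟩, ?_⟩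
    · rw [show g⁻¹ * y * g * (g⁻¹ * y * g) = g⁻¹ * (y * y) * g by group, hy.1.1]; group
    · rw [show y = g * (g⁻¹ * y * g) * g⁻¹ by group, e]; group
    · have := hy.2.map (MulAut.conj g⁻¹).toMonoidHom
      rw [← hg] at this
      simpa [mul_assoc] using this

theorem card_inf_cent [Finite H] {a k : H} (ha : a ∈ E₁) (ha' : a ∉ E₂) (hk : k * k = 1) (hk' : k ∉ E₁)
    (hc : Commute a k) : Nat.card (E₁ ⊓ centralizer ({k} : Set H) : Subgroup H) = 4 := by
  have h1 : a ≠ 1 := fun e => ha' (e ▸ E₂.one_mem)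
  obtain ⟨g, -, hS⟩ := F.conj_Z (F.sq₁ a ha) h1
  let φ : H →* H := (MulAut.conj g⁻¹).toMonoidHom
  have hφ : ∀ x, φ x = g⁻¹ * x * g := fun x => by simp [φ]
  have hinj : Function.Injective φ := MulEquiv.injective _
  have hin : ∀ x, Commute x a → φ x ∈ centralizer ({s} : Set H) := fun x hx => by
    rw [← hS, mem_centralizer_singleton_iff, ← hφ a]
    exact (hx.map φ).eq
  let K := E₁.map φ
  have hKsq : ∀ x ∈ K, x * x = 1 := by
    rintro _ ⟨c, hc', rfl⟩; rw [← map_mul, F.sq₁ c hc', map_one]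
  have hKc : Nat.card K = 16 := by rw [← Nat.card_congr (E₁.equivMapOfInjective φ hinj).toEquiv, F.card₁]
  have hKle : K ≤ centralizer ({s} : Set H) := by
    rintro _ ⟨c, hc', rfl⟩; exact hin c (F.comm₁ hc' ha)
  have hk2 : φ k * φ k = 1 := by rw [← map_mul, hk, map_one]
  have hkK : φ k ∉ K := fun ⟨c, hc', e⟩ => hk' (hinj e ▸ hc')
  have hkS := hin k hc.symm
  have e : (E₁ ⊓ centralizer ({k} : Set H)).map φ = K ⊓ centralizer ({φ k} : Set H) := by
    ext x
    simp only [Subgroup.mem_map, Subgroup.mem_inf, mem_centralizer_singleton_iff, K]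
    constructor
    · rintro ⟨c, ⟨h1, h2⟩, rfl⟩
      exact ⟨⟨c, h1, rfl⟩, by rw [← map_mul, h2, map_mul]⟩
    · rintro ⟨⟨c, h1, rfl⟩, h2⟩
      exact ⟨c, ⟨h1, hinj (by rw [map_mul, map_mul, h2])⟩, rfl⟩
  rw [Nat.card_congr ((E₁ ⊓ centralizer ({k} : Set H)).equivMapOfInjective φ hinj).toEquiv, e]
  rcases F.eq_or_eq_of_le hKle hKc hKsq with hK | hK
  · rw [hK] at hkK ⊢
    rw [F.inf_cent_out ((F.invol _ hkS hk2).resolve_left hkK) hkK, F.card_inf]
  · rw [hK] at hkK ⊢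
    rw [F.symm.inf_cent_out ((F.invol _ hkS hk2).resolve_right hkK) hkK, inf_comm, F.card_inf]

theorem side_count [Finite H] [DecidableEq H] [∀ x : H, DecidablePred fun y : H => Commute y x]
    [∀ x : H, DecidablePred fun y : H => Commute x y] :
    ((F.invs.filter fun k => ¬ Commute k s).filter fun k => ∃ a ∈ F.fE E₁ \ F.fE (E₁ ⊓ E₂), Commute a k).card
      = 48 := by
  classical
  set A := F.fE E₁ \ F.fE (E₁ ⊓ E₂) with hA
  set T := (F.invs.filter fun k => ¬ Commute k s).filter fun k => ∃ a ∈ A, Commute a k with hT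
  have hmemA : ∀ {a}, a ∈ A ↔ a ∈ E₁ ∧ a ∉ E₂ := fun {a} => by
    rw [hA, Finset.mem_sdiff, F.mem_fE, F.mem_fE, Subgroup.mem_inf]
    exact ⟨fun h => ⟨h.1.1, fun h' => h.2 ⟨⟨h.1.1, h'⟩, h.1.2⟩⟩,
      fun h => ⟨⟨h.1, fun e => h.2 (e ▸ E₂.one_mem)⟩, fun h' => h.2 h'.1.2⟩⟩
  have hA12 : A.card = 12 := by
    rw [hA, Finset.card_sdiff]
    have e : F.fE (E₁ ⊓ E₂) ∩ F.fE E₁ = F.fE (E₁ ⊓ E₂) := Finset.inter_eq_left.2 fun x hx =>
      F.mem_fE.2 ⟨(F.mem_fE.1 hx).1.1, (F.mem_fE.1 hx).2⟩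
    rw [e]
    have h1 := F.card_fE E₁
    have h3 := F.card_fE (E₁ ⊓ E₂)
    rw [F.card₁] at h1
    rw [F.card_inf] at h3
    omega
  have key := Finset.sum_card_bipartiteAbove_eq_sum_card_bipartiteBelow (r := fun a k : H => Commute a k)
    (s := A) (t := T)
  have hl : ∀ a ∈ A, (T.bipartiteAbove (fun a k : H => Commute a k) a).card = 12 := by
    intro a ha
    obtain ⟨h1, h2⟩ := hmemA.1 ha
    have hne : a ≠ 1 := fun e => h2 (e ▸ E₂.one_mem)
    have e : T.bipartiteAbove (fun a k : H => Commute a k) a =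
        (F.invs.filter fun x => Commute x a) \ F.fE E₁ := by
      ext k
      simp only [Finset.mem_bipartiteAbove, hT, Finset.mem_filter, Finset.mem_sdiff, F.mem_fE]
      constructor
      · rintro ⟨⟨⟨hk, hks⟩, -⟩, hc⟩
        exact ⟨⟨hk, hc.symm⟩, fun h => hks (mem_centralizer_singleton_iff.1 (F.le₁ h.1))⟩
      · rintro ⟨⟨hk, hc⟩, hk'⟩
        refine ⟨⟨⟨hk, fun hks => hk' ⟨F.cent_out h1 h2 (mem_centralizer_singleton_iff.2 hks.eq) hc.symm,
          (F.mem_invs.1 hk).2⟩⟩, a, ha, hc.symm⟩, hc.symm⟩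
    rw [e, Finset.card_sdiff]
    have e2 : F.fE E₁ ∩ (F.invs.filter fun x => Commute x a) = F.fE E₁ := Finset.inter_eq_left.2 fun x hx => by
      obtain ⟨h, h'⟩ := F.mem_fE.1 hx
      exact Finset.mem_filter.2 ⟨F.mem_invs.2 ⟨F.sq₁ x h, h'⟩, F.comm₁ h h1⟩
    rw [e2, F.card_cent_invs' (F.sq₁ a h1) hne]
    have := F.card_fE E₁
    rw [F.card₁] at this
    omega
  have hr : ∀ k ∈ T, (A.bipartiteBelow (fun a k : H => Commute a k) k).card = 3 := by
    intro k hk
    simp only [hT, Finset.mem_filter] at hk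
    obtain ⟨⟨hk, hks⟩, a, ha, hc⟩ := hk
    obtain ⟨h1, h2⟩ := hmemA.1 ha
    have hk1 : k ∉ E₁ := fun h => hks (mem_centralizer_singleton_iff.1 (F.le₁ h))
    have e : A.bipartiteBelow (fun a k : H => Commute a k) k = F.fE (E₁ ⊓ centralizer ({k} : Set H)) := by
      ext x
      rw [Finset.mem_bipartiteBelow, hmemA, F.mem_fE, Subgroup.mem_inf, mem_centralizer_singleton_iff]
      constructor
      · rintro ⟨⟨h, h'⟩, hc'⟩
        exact ⟨⟨h, hc'.eq⟩, fun e => h' (e ▸ E₂.one_mem)⟩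
      · rintro ⟨⟨h, hc'⟩, hx⟩
        refine ⟨⟨h, fun h' => hks ?_⟩, hc'⟩
        have hkx : k ∈ centralizer ({x} : Set H) := mem_centralizer_singleton_iff.2 hc'.symm
        rw [F.center x ⟨h, h'⟩ hx] at hkx
        exact mem_centralizer_singleton_iff.1 hkx
    rw [e]
    have := F.card_fE (E₁ ⊓ centralizer ({k} : Set H))
    rw [F.card_inf_cent h1 h2 (F.mem_invs.1 hk).1 hk1 hc] at this
    omega
  rw [Finset.sum_congr rfl hl, Finset.sum_congr rfl hr, Finset.sum_const, Finset.sum_const, hA12,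
    smul_eq_mul, smul_eq_mul] at key
  omega

/-- The order of the group, given a bound. -/
theorem card_eq [Finite H] (hd : Nat.card H ∣ 3265920) : Nat.card H = 20160 := by
  classical
  set X := F.invs.filter fun k => ¬ Commute k s with hX
  set T1 := X.filter fun k => ∃ a ∈ F.fE E₁ \ F.fE (E₁ ⊓ E₂), Commute a k with hT1
  set T2 := X.filter fun k => ∃ a ∈ F.fE E₂ \ F.fE (E₂ ⊓ E₁), Commute a k with hT2
  have hdis : Disjoint T1 T2 := by
    rw [Finset.disjoint_left]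
    intro k h1 h2
    simp only [hT1, hT2, hX, Finset.mem_filter, Finset.mem_sdiff, F.mem_fE, Subgroup.mem_inf] at h1 h2
    obtain ⟨⟨hk, hks⟩, a, ⟨⟨ha, ha1⟩, hax⟩, hac⟩ := h1
    obtain ⟨-, b, ⟨⟨hb, hb1⟩, hbx⟩, hbc⟩ := h2
    have ha2 : a ∉ E₂ := fun h => hax ⟨⟨ha, h⟩, ha1⟩
    have hb2 : b ∉ E₁ := fun h => hbx ⟨⟨hb, h⟩, hb1⟩
    have hne : a * b * a⁻¹ * b⁻¹ ≠ 1 := fun e => F.ncomm a ha ha2 b hb hb2 (by
      rw [mul_inv_eq_one, mul_inv_eq_iff_eq_mul] at e
      exact e)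
    have hmem : a * b * a⁻¹ * b⁻¹ ∈ E₁ ⊓ E₂ := by
      refine ⟨?_, E₂.mul_mem (F.symm.normal₁ (F.le₁ ha) hb) (E₂.inv_mem hb)⟩
      rw [show a * b * a⁻¹ * b⁻¹ = a * (b * a⁻¹ * b⁻¹) by group]
      exact E₁.mul_mem ha (F.normal₁ (F.le₂ hb) (E₁.inv_mem ha))
    have hc : Commute k (a * b * a⁻¹ * b⁻¹) :=
      ((hac.symm.mul_right hbc.symm).mul_right hac.symm.inv_right).mul_right hbc.symm.inv_right
    have hkc : k ∈ centralizer ({a * b * a⁻¹ * b⁻¹} : Set H) := mem_centralizer_singleton_iff.2 hc.eq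
    rw [F.center _ hmem hne] at hkc
    exact hks (mem_centralizer_singleton_iff.1 hkc)
  have hrest : 64 ∣ (X \ (T1 ∪ T2)).card := by
    have h := dvd_card_mul (centralizer ({s} : Set H)) (X \ (T1 ∪ T2)) (c := 1) ?_ ?_
    · rwa [F.card_S, mul_one] at h
    · intro a ha n hn
      have hns : n * s * n⁻¹ = s := mul_inv_eq_iff_eq_mul.2 (mem_centralizer_singleton_iff.1 hn)
      let ψ := (MulAut.conj n).toMonoidHom
      have hψ : ∀ x, ψ x = n * x * n⁻¹ := fun x => by simp [ψ]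
      simp only [hX, hT1, hT2, Finset.mem_sdiff, Finset.mem_union, Finset.mem_filter, F.mem_invs, F.mem_fE,
        Subgroup.mem_inf, not_or] at ha ⊢
      obtain ⟨⟨⟨haa, ha1⟩, has⟩, hn1, hn2⟩ := ha
      have hsq : n * a * n⁻¹ * (n * a * n⁻¹) = 1 := by
        rw [show n * a * n⁻¹ * (n * a * n⁻¹) = n * (a * a) * n⁻¹ by group, haa]; group
      have hback : ∀ b, Commute b (n * a * n⁻¹) → Commute (n⁻¹ * b * n) a := fun b hb => by
        have := hb.map (MulAut.conj n⁻¹).toMonoidHom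
        simpa [mul_assoc] using this
      have hs' : ¬ Commute (n * a * n⁻¹) s := fun h => has (by
        have := hback s h.symm
        rw [show n⁻¹ * s * n = s by
          conv_lhs => rw [← hns]
          group] at this
        exact this.symm)
      refine ⟨⟨⟨hsq, fun e => ha1 (conj_eq_one_iff.1 e)⟩, hs'⟩, ?_, ?_⟩
      · rintro ⟨-, b, ⟨⟨hb, hb1⟩, hb2⟩, hbc⟩
        refine hn1 ⟨⟨⟨haa, ha1⟩, has⟩, n⁻¹ * b * n, ⟨⟨?_, fun e => hb1 ?_⟩, fun h => hb2 ⟨⟨hb, ?_⟩, hb1⟩⟩, hback b hbc⟩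
        · simpa using F.normal₁ (inv_mem hn) hb
        · rw [show b = n * (n⁻¹ * b * n) * n⁻¹ by group, e]; group
        · have := F.symm.normal₁ hn h.1.2
          rwa [show n * (n⁻¹ * b * n) * n⁻¹ = b by group] at this
      · rintro ⟨-, b, ⟨⟨hb, hb1⟩, hb2⟩, hbc⟩
        refine hn2 ⟨⟨⟨haa, ha1⟩, has⟩, n⁻¹ * b * n, ⟨⟨?_, fun e => hb1 ?_⟩, fun h => hb2 ⟨⟨hb, ?_⟩, hb1⟩⟩, hback b hbc⟩
        · simpa using F.symm.normal₁ (inv_mem hn) hb
        · rw [show b = n * (n⁻¹ * b * n) * n⁻¹ by group, e]; group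
        · have := F.normal₁ hn h.1.2
          rwa [show n * (n⁻¹ * b * n) * n⁻¹ = b by group] at this
    · intro a ha
      simp only [hX, hT1, hT2, Finset.mem_sdiff, Finset.mem_union, Finset.mem_filter, F.mem_invs, F.mem_fE,
        Subgroup.mem_inf, not_or] at ha
      obtain ⟨⟨⟨haa, ha1⟩, has⟩, hn1, hn2⟩ := ha
      rw [Subgroup.card_eq_one]
      by_contra hne
      haveI : Nontrivial ↥(centralizer ({s} : Set H) ⊓ centralizer ({a} : Set H) : Subgroup H) :=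
        (Subgroup.nontrivial_iff_ne_bot _).2 hne
      have hpg : IsPGroup 2 ↥(centralizer ({s} : Set H) ⊓ centralizer ({a} : Set H) : Subgroup H) :=
        (IsPGroup.of_card (p := 2) (n := 6) F.card_S).to_le inf_le_left
      haveI : Fact (Nat.Prime 2) := ⟨Nat.prime_two⟩
      obtain ⟨j, hj⟩ := exists_prime_orderOf_dvd_card' 2
        (hpg.card_eq_or_dvd.resolve_left (Finite.one_lt_card_iff_nontrivial.2 inferInstance).ne')
      have hjj : (j : H) * j = 1 := by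
        have := pow_orderOf_eq_one j
        rw [hj, pow_two] at this
        exact congrArg Subtype.val this
      have hj1 : (j : H) ≠ 1 := fun e => by rw [show j = 1 from Subtype.ext e, orderOf_one] at hj; omega
      have hja : Commute (j : H) a := mem_centralizer_singleton_iff.1 j.2.2
      by_cases hz : (j : H) ∈ E₁ ⊓ E₂
      · have hax : a ∈ centralizer ({(j : H)} : Set H) := mem_centralizer_singleton_iff.2 hja.symm.eq
        rw [F.center _ hz hj1] at hax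
        exact has (mem_centralizer_singleton_iff.1 hax)
      · rcases F.invol _ j.2.1 hjj with h | h
        · exact hn1 ⟨⟨⟨haa, ha1⟩, has⟩, j, ⟨⟨h, hj1⟩, fun h' => hz ⟨h, h'.1.2⟩⟩, hja⟩
        · exact hn2 ⟨⟨⟨haa, ha1⟩, has⟩, j, ⟨⟨h, hj1⟩, fun h' => hz ⟨h'.1.2, h⟩⟩, hja⟩
  have hi := Finset.card_filter_add_card_filter_not (s := F.invs) (p := fun k => Commute k s)
  rw [F.card_cent_invs, ← hX] at hi
  have hx := Finset.card_sdiff_add_card_inter X (T1 ∪ T2)
  rw [show X ∩ (T1 ∪ T2) = T1 ∪ T2 from Finset.inter_eq_right.2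
    (Finset.union_subset (Finset.filter_subset _ _) (Finset.filter_subset _ _)),
    Finset.card_union_of_disjoint hdis] at hx
  have h1 : T1.card = 48 := F.side_count
  have h2 : T2.card = 48 := F.symm.side_count
  have hH := F.card_invs
  obtain ⟨n, hn⟩ : 960 ∣ Nat.card H := F.card_P₁ ▸ card_subgroup_dvd_card F.P₁
  rw [hn] at hd hH
  have hn' : n ∣ 3402 := Nat.dvd_of_mul_dvd_mul_left (show 0 < 960 by norm_num) (by simpa using hd)
  have hodd : n % 2 = 1 := by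
    by_contra hne
    refine F.two_part ?_
    rw [hn]
    obtain ⟨q, rfl⟩ : 2 ∣ n := Nat.dvd_of_mod_eq_zero (by omega)
    exact ⟨15 * q, by ring⟩
  obtain ⟨q, hq⟩ := hrest
  have hmod : 15 * n % 64 = 59 := by omega
  have hfin : ∀ d ∈ Nat.divisors 3402, d % 2 = 1 → 15 * d % 64 = 59 → d = 21 := by decide +kernel
  rw [hn, hfin n (Nat.mem_divisors.2 ⟨hn', by norm_num⟩) hodd hmod]

end Flag

end CfsgLib.SuzTwoB
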