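import Cfsg.Agent.Lib.SuzTwoB.Centre
import Cfsg.Agent.Lib.SuzTwoB.Flags

/-!
# The order of the centralizer of the four-group and the element of order three
-/

set_option autoImplicit false
set_option linter.style.haveILetI false
set_option synthInstance.maxSize 20000
set_option maxRecDepth 10000

namespace CfsgLib.SuzTwoB

open CfsgLib.Classical.Quad CfsgLib.SuzType Subgroup

universe u

variable {G : Type u} [Group G]

/-- The facts used on the centralizer of the element of order three. -/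
structure Loc {S : Sys G} {s u y : G} {π π' : G → V6} (K : Conf S s u y π π') : Prop where
  one : ∀ h, Commute h y → h * h = 1 → h ≠ 1 → ∃ g, Commute g y ∧ g * h * g⁻¹ = s
  dvd : Nat.card K.H ∣ 3265920
  seven : ∀ b g, Commute b y → orderOf b = 7 → Commute g y → Commute g b →
    ∃ i : ℕ, g * y ^ i ∈ zpowers b

namespace Conf

variable {S : Sys G} {s u y : G} {π π' : G → V6} (K : Conf S s u y π π')
include K

theorem card_Sg : Nat.card K.Sg = 64 := by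
  exact (K.pair.card_grp LP _ _).trans (by decide +kernel)

theorem card_Eg (i : Bool) : Nat.card (K.Eg i) = 16 := by
  exact (K.pair.card_grp (LL i) _ _).trans (by cases i <;> decide +kernel)

theorem Eg_le (i : Bool) : K.Eg i ≤ K.Sg := by
  rintro x ⟨w, v, hP, hw, hv⟩
  exact ⟨w, v, hP, InL_P i w hw, InL_P i v hv⟩

theorem Sg_le : K.Sg ≤ K.H := fun _ hx => (K.mem_Sg_iff.1 hx).1

theorem Eg_sq (i : Bool) {x : G} (hx : x ∈ K.Eg i) : x * x = 1 := by
  obtain ⟨w, v, hP, hw, hv⟩ := hx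
  exact (K.pair.P_sq_one hP).2 (InL_invol i w v hw hv)

theorem Eg_inf {x : G} (h1 : x ∈ K.Eg true) (h2 : x ∈ K.Eg false) : P S s u π x 0 0 := by
  obtain ⟨w, v, hP, hw, hv⟩ := h1
  obtain ⟨w', v', hP', hw', hv'⟩ := h2
  obtain ⟨rfl, rfl⟩ := K.pair.P_unique hP hP'
  rwa [InL_both w hw hw', InL_both v hv hv'] at hP

theorem Eg_inf' {x : G} (h : P S s u π x 0 0) (i : Bool) : x ∈ K.Eg i :=
  ⟨0, 0, h, InU_zero.2.2.2 i, InU_zero.2.2.2 i⟩

theorem Eg_ncomm {a b : G} (ha : a ∈ K.Eg true) (ha' : a ∉ K.Eg false) (hb : b ∈ K.Eg false)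
    (hb' : b ∉ K.Eg true) : ¬ Commute a b := by
  obtain ⟨w, v, hP, hw, hv⟩ := ha
  obtain ⟨w', v', hP', hw', hv'⟩ := hb
  intro hc
  exact InL_ncomm w v w' v' hw hv (fun h => ha' ⟨w, v, hP, h.1, h.2⟩) hw' hv'
    (fun h => hb' ⟨w', v', hP', h.1, h.2⟩) ((K.pair.P_commute_iff hP hP').1 hc)

theorem Sg_invol {x : G} (hx : x ∈ K.Sg) (hxx : x * x = 1) : x ∈ K.Eg true ∨ x ∈ K.Eg false := by
  obtain ⟨w, v, hP, hw, hv⟩ := hx
  obtain ⟨e1, e2⟩ := (K.pair.P_sq_one hP).1 hxx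
  rcases InP_invol w v hw hv e1 e2 with h | h
  · exact Or.inl ⟨w, v, hP, h.1, h.2⟩
  · exact Or.inr ⟨w, v, hP, h.1, h.2⟩

theorem zero_comm {x z : G} (hz : P S s u π z 0 0) (hx : x ∈ K.Sg) : Commute x z := by
  obtain ⟨w, v, hP, -⟩ := hx
  obtain ⟨b, a, rfl⟩ := K.pair.P_zero hz
  exact Pair.commute_dd (K.pair.P_comm_su hP).1 (K.pair.P_comm_su hP).2 b a

/-- Every involution of `H` is moved to `s` by an element normalizing `W` and centralizing `y`. -/
theorem exists_norm [Finite G] (L : Loc K) {h : G} (hh : h ∈ K.H) (hh2 : h * h = 1) (h1 : h ≠ 1) :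
    ∃ e, Commute e y ∧ (∀ t, e * t * e⁻¹ ∈ K.W ↔ t ∈ K.W) ∧ e * h * e⁻¹ = s := by
  classical
  obtain ⟨hW, hy⟩ := K.mem_H.1 hh
  obtain ⟨g, hg, hgs⟩ := L.one h hy hh2 h1
  obtain ⟨t0, ht, h0⟩ := K.exists_t0
  have ht1 : t0 ≠ 1 := fun e => by
    rw [e] at h0
    exact absurd (K.pair.P_unique h0 (Pair.dd_zero (s := s) (u := u) ▸ K.pair.dd_P 0 0)).1 (by decide)
  have hy' : ∀ a, y * (g * a * g⁻¹) * y⁻¹ = g * (y * a * y⁻¹) * g⁻¹ := fun a => by
    rw [show y * (g * a * g⁻¹) * y⁻¹ = y * g * a * (y * g)⁻¹ by group, ← hg.eq]; group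
  have p1 : Commute (g * t0 * g⁻¹) s := by
    have := (hW t0 ht).map (MulAut.conj g).toMonoidHom
    simpa [hgs] using this
  have p2 : ¬ S.K (g * t0 * g⁻¹) := fun hK => by
    refine K.W_not_K ht ht1 ?_
    have := S.K_conj g⁻¹ _ hK
    rwa [show g⁻¹ * (g * t0 * g⁻¹) * g⁻¹⁻¹ = t0 by group] at this
  have p3 : g * t0 * g⁻¹ * (y * (g * t0 * g⁻¹) * y⁻¹) * (y * (y * (g * t0 * g⁻¹) * y⁻¹) * y⁻¹) = 1 := by
    rw [hy', hy', show g * t0 * g⁻¹ * (g * (y * t0 * y⁻¹) * g⁻¹) * (g * (y * (y * t0 * y⁻¹) * y⁻¹) * g⁻¹) =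
      g * (t0 * (y * t0 * y⁻¹) * (y * (y * t0 * y⁻¹) * y⁻¹)) * g⁻¹ by group, ht.2]
    group
  obtain ⟨d, hds, hdy, hd⟩ := K.exists_move p1 (sq_conj (K.W_sq ht)) p2 (fun e => ht1 (conj_eq_one_iff.1 e)) p3
  have hey : Commute (d * g) y := hdy.mul_left hg
  have hfwd : ∀ t ∈ K.W, d * g * t * (d * g)⁻¹ ∈ K.W := fun t htW =>
    K.conj_W ht h0 hey (by rwa [show d * g * t0 * (d * g)⁻¹ = d * (g * t0 * g⁻¹) * d⁻¹ by group]) htW
  refine ⟨d * g, hey, fun t => ⟨fun h' => ?_, hfwd t⟩, ?_⟩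
  · have hf : Function.Surjective (fun w : K.W => (⟨_, hfwd w.1 w.2⟩ : K.W)) :=
      (Finite.injective_iff_surjective).1 fun a b e => by
        have e' : d * g * (a : G) * (d * g)⁻¹ = d * g * (b : G) * (d * g)⁻¹ :=
          congrArg (fun z : K.W => (z : G)) e
        exact Subtype.ext (mul_left_cancel (mul_right_cancel e'))
    obtain ⟨w, hw⟩ := hf ⟨_, h'⟩
    have e' : d * g * (w : G) * (d * g)⁻¹ = d * g * t * (d * g)⁻¹ := congrArg (fun z : K.W => (z : G)) hw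
    rw [← mul_left_cancel (mul_right_cancel e')]
    exact w.2
  · rw [show d * g * h * (d * g)⁻¹ = d * (g * h * g⁻¹) * d⁻¹ by group, hgs, conj_eq_iff_commute.2 hds]

theorem norm_H {e : G} (he : Commute e y) (hW : ∀ t, e * t * e⁻¹ ∈ K.W ↔ t ∈ K.W) (x : G) :
    e * x * e⁻¹ ∈ K.H ↔ x ∈ K.H := by
  have key : ∀ f : G, Commute f y → (∀ t ∈ K.W, f⁻¹ * t * f ∈ K.W) → ∀ a ∈ K.H, f * a * f⁻¹ ∈ K.H := by
    intro f hf hfW a ha
    obtain ⟨h1, h2⟩ := K.mem_H.1 ha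
    refine K.mem_H.2 ⟨fun t ht => ?_, (hf.mul_left h2).mul_left hf.inv_left⟩
    have := (h1 _ (hfW t ht)).map (MulAut.conj f).toMonoidHom
    simpa [mul_assoc] using this
  have hW' : ∀ t ∈ K.W, e⁻¹ * t * e ∈ K.W := fun t ht =>
    (hW _).1 (by rwa [show e * (e⁻¹ * t * e) * e⁻¹ = t by group])
  constructor
  · intro h
    have := key e⁻¹ he.inv_left (fun t ht => by rw [inv_inv]; exact (hW t).2 ht) _ h
    rwa [inv_inv, show e⁻¹ * (e * x * e⁻¹) * e = x by group] at this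
  · exact key e he hW' x

theorem flag [Finite G] (L : Loc K) :
    ∃ hs : s ∈ K.H, Flag K.H ⟨s, hs⟩ ((K.Eg true).subgroupOf K.H) ((K.Eg false).subgroupOf K.H) := by
  classical
  have hsP : P S s u π s 0 0 := by
    simpa [dd, pw_zero, pw_one] using K.pair.dd_P 0 1
  have hs : s ∈ K.H := K.Sg_le (K.Eg_le true (K.Eg_inf' hsP true))
  refine ⟨hs, ?_⟩
  have hle : ∀ i, K.Eg i ≤ K.H := fun i => (K.Eg_le i).trans K.Sg_le
  have hS : centralizer ({(⟨s, hs⟩ : K.H)} : Set K.H) = K.Sg.subgroupOf K.H := by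
    ext x
    rw [mem_centralizer_singleton_iff, mem_subgroupOf, K.mem_Sg_iff]
    exact ⟨fun h => ⟨x.2, congrArg Subtype.val h⟩, fun h => Subtype.ext h.2.eq⟩
  have hScard : Nat.card (centralizer ({(⟨s, hs⟩ : K.H)} : Set K.H)) = 64 := by
    rw [hS, Nat.card_congr (subgroupOfEquivOfLe K.Sg_le).toEquiv, K.card_Sg]
  have hcent : ∀ h : K.H, h * h = 1 → h ≠ 1 → Nat.card (centralizer ({h} : Set K.H)) = 64 := by
    intro h hh h1
    obtain ⟨e, hey, heW, hes⟩ := K.exists_norm L h.2 (congrArg Subtype.val hh) (fun e => h1 (Subtype.ext e))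
    rw [← hScard]
    refine Nat.card_congr
      { toFun := fun x => ⟨⟨e * x.1.1 * e⁻¹, (K.norm_H hey heW _).2 x.1.2⟩,
          mem_centralizer_singleton_iff.2 (Subtype.ext ?_)⟩
        invFun := fun x => ⟨⟨e⁻¹ * x.1.1 * e, (K.norm_H hey heW _).1 (by
            rw [show e * (e⁻¹ * x.1.1 * e) * e⁻¹ = x.1.1 by group]; exact x.1.2)⟩,
          mem_centralizer_singleton_iff.2 (Subtype.ext ?_)⟩
        left_inv := fun x => Subtype.ext (Subtype.ext (by group))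
        right_inv := fun x => Subtype.ext (Subtype.ext (by group)) }
    · show e * x.1.1 * e⁻¹ * s = s * (e * x.1.1 * e⁻¹)
      have := congrArg (fun a : K.H => (a : G)) (mem_centralizer_singleton_iff.1 x.2)
      simp only [Subgroup.coe_mul] at this
      calc e * x.1.1 * e⁻¹ * s = e * x.1.1 * e⁻¹ * (e * (h : G) * e⁻¹) := by rw [hes]
        _ = e * (x.1.1 * h) * e⁻¹ := by group
        _ = e * ((h : G) * x.1.1) * e⁻¹ := by rw [this]
        _ = (e * (h : G) * e⁻¹) * (e * x.1.1 * e⁻¹) := by group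
        _ = _ := by rw [hes]
    · show e⁻¹ * x.1.1 * e * (h : G) = h * (e⁻¹ * x.1.1 * e)
      have := congrArg (fun a : K.H => (a : G)) (mem_centralizer_singleton_iff.1 x.2)
      simp only [Subgroup.coe_mul] at this
      calc e⁻¹ * x.1.1 * e * (h : G) = e⁻¹ * (x.1.1 * (e * (h : G) * e⁻¹)) * e := by group
        _ = e⁻¹ * ((e * (h : G) * e⁻¹) * x.1.1) * e := by rw [hes, this]
        _ = _ := by group
  refine ⟨hcent, Subtype.ext K.pair.left.sq_one, fun e => K.pair.left.ne_one (congrArg Subtype.val e),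
    ?_, ?_, ?_, ?_, ?_, ?_, ?_, ?_, ?_, ?_⟩
  · rw [hS]; exact fun x hx => K.Eg_le true hx
  · rw [hS]; exact fun x hx => K.Eg_le false hx
  · rw [Nat.card_congr (subgroupOfEquivOfLe (hle true)).toEquiv, K.card_Eg]
  · rw [Nat.card_congr (subgroupOfEquivOfLe (hle false)).toEquiv, K.card_Eg]
  · exact fun a ha => Subtype.ext (K.Eg_sq true ha)
  · exact fun a ha => Subtype.ext (K.Eg_sq false ha)
  · rw [← Nat.card_congr (Equiv.ofBijective (fun k : ZMod 2 × ZMod 2 =>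
      (⟨⟨dd s u k.1 k.2, hle true (K.Eg_inf' (K.pair.dd_P _ _) true)⟩,
        K.Eg_inf' (K.pair.dd_P _ _) true, K.Eg_inf' (K.pair.dd_P _ _) false⟩ :
        ((K.Eg true).subgroupOf K.H ⊓ (K.Eg false).subgroupOf K.H : Subgroup K.H))) ⟨?_, ?_⟩)]
    · simp
    · intro a b h
      have h' : dd s u a.1 a.2 = dd s u b.1 b.2 := congrArg
        (fun z : ((K.Eg true).subgroupOf K.H ⊓ (K.Eg false).subgroupOf K.H : Subgroup K.H) => (z.1 : G)) h
      obtain ⟨e1, e2⟩ := K.pair.dd_inj h'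
      exact Prod.ext e1 e2
    · rintro ⟨⟨x, hx⟩, h1, h2⟩
      obtain ⟨b, a, e⟩ := K.pair.P_zero (K.Eg_inf h1 h2)
      exact ⟨(b, a), Subtype.ext (Subtype.ext e.symm)⟩
  · intro x hx hxx
    rw [hS] at hx
    exact K.Sg_invol hx (congrArg Subtype.val hxx)
  · exact fun a ha ha' b hb hb' h => K.Eg_ncomm ha ha' hb hb' (congrArg Subtype.val h.eq)
  · rintro z ⟨h1, h2⟩ hz1
    refine (eq_of_le_of_card_ge (fun x hx => ?_) (by rw [hcent z (Subtype.ext (K.Eg_sq true h1)) hz1, hScard])).symm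
    rw [hS] at hx
    exact mem_centralizer_singleton_iff.2 (Subtype.ext (K.zero_comm (K.Eg_inf h1 h2) hx).eq)

theorem card_H [Finite G] (L : Loc K) : Nat.card K.H = 20160 := by
  obtain ⟨hs, F⟩ := K.flag L
  exact F.card_eq L.dvd

/-- The involutions of `H` are conjugate in `H` to `s`. -/
theorem H_conj [Finite G] (L : Loc K) {h : G} (hh : h ∈ K.H) (hh2 : h * h = 1) (h1 : h ≠ 1) :
    ∃ g ∈ K.H, g * s * g⁻¹ = h := by
  obtain ⟨hs, F⟩ := K.flag L
  obtain ⟨g, hg⟩ := F.conj_s (h := ⟨h, hh⟩) (Subtype.ext hh2) (fun e => h1 (congrArg Subtype.val e))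
  exact ⟨g, g.2, congrArg Subtype.val hg⟩

end Conf

end CfsgLib.SuzTwoB
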