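import Cfsg.Agent.Lib.SuzType.Classes

/-!
# The coordinates on the centralizer of a pair

The products `t * q` of a factor `t` in `E u` centralizing `s` and a factor `q` in `E s` centralizing
`u` form an extension of `W4 × W4` by `⟨u, s⟩`.
-/

set_option autoImplicit false
set_option linter.style.haveILetI false
set_option synthInstance.maxSize 20000
set_option maxRecDepth 10000

namespace CfsgLib.SuzType

open CfsgLib.Classical.Quad

universe u

variable {G : Type u} [Group G]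

/-- `x` has the coordinates `(w, v)`. -/
def P (S : Sys G) (s u : G) (π : G → V6) (x : G) (w v : W4) : Prop :=
  ∃ t q, Br S s u π t w ∧ q ∈ S.E s ∧ Commute q u ∧ (π q).2.2 = v ∧ x = t * q

/-- The central factor. -/
def dd (s u : G) (b a : ZMod 2) : G := pw u b * pw s a

/-- The commutator coordinates. -/
def cu (w v w' v' : W4) : ZMod 2 := B4 w w' + B4 v w' + B4 v' w

/-- The commutator coordinates. -/
def cs (w v w' v' : W4) : ZMod 2 := B4 v v' + B4 v w' + B4 v' w

/-- The action on `W4` of an isometry fixing `u0`. -/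
def hW (g : Orth Q6) (x : W4) : W4 := (g.1 (emb x)).2.2

theorem hW_spec {g : Orth Q6} (hg : g.1 u0 = u0) (x : W4) :
    g.1 (emb x) = ((g.1 (emb x)).1, 0, hW g x) := by
  refine perp_u0 ?_
  conv_lhs => rw [← hg]
  rw [B6_g]
  exact B6_u0_emb x

theorem perp_image {g : Orth Q6} (hg : g.1 u0 = u0) {a : ZMod 2} (x : W4) :
    (g.1 (a, 0, x)).2.1 = 0 ∧ (g.1 (a, 0, x)).2.2 = hW g x := by
  have e : ((a, 0, x) : V6) = a • u0 + emb x := by simp [u0, emb]
  rw [e, map_add, map_smul, hg, hW_spec hg]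
  simp [u0]

theorem hW_mul {g h : Orth Q6} (hg : g.1 u0 = u0) (hh : h.1 u0 = u0) (x : W4) :
    hW (g * h) x = hW g (hW h x) := by
  show ((g * h).1 (emb x)).2.2 = _
  rw [mul_apply, hW_spec hh]
  exact (perp_image hg _).2

theorem inE_sg (w : W4) : InE (sg w) u0 := by
  intro x hx
  rw [sg_move]
  have hb : x.2.1 = 0 := by rw [perp_u0 hx]
  rw [hb]
  rcases zcases (B4 x.2.2 w) with e | e <;> rw [e]
  · exact Or.inl (by simp)
  · exact Or.inr (by simp [u0])

theorem conj_sg {g : Orth Q6} (hg : g.1 u0 = u0) (w : W4) : g * sg w * g⁻¹ = sg (hW g w) := by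
  have hi := (inE_sg w).conj g
  rw [hg] at hi
  refine (eq_sg hi.fix hi).trans ?_
  congr 1
  rw [mul_apply, mul_apply]
  have hgi : (g⁻¹).1 u0 = u0 := by
    conv_lhs => rw [← hg]
    rw [inv_apply_self]
  have hb : B6 ((g⁻¹).1 v0) u0 = 1 := by
    conv_lhs => rw [← hgi]
    rw [B6_g]; rfl
  obtain ⟨y, hy⟩ : ∃ y, (g⁻¹).1 v0 = y := ⟨_, rfl⟩
  rw [hy] at hb ⊢
  have hgy : g.1 y = v0 := by rw [← hy, self_apply_inv]
  obtain ⟨a, b, x⟩ := y
  simp [B6, u0] at hb
  subst hb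
  obtain ⟨c, hc⟩ : ∃ c, (sg w).1 (a, 1, x) = (c, 0, w) + (a, 1, x) :=
    ⟨B4 x w + q4 w, by rw [v6_add_eq (sg_move w (a, 1, x))]; simp⟩
  rw [hc, map_add, hgy, Prod.snd_add, Prod.snd_add, (perp_image hg w).2]
  simp [v0]

namespace Pair

variable {S : Sys G} {s u : G} {π π' : G → V6} (p : Pair S s u π π')
include p

theorem dd_add (b a b' a' : ZMod 2) : dd s u b a * dd s u b' a' = dd s u (b + b') (a + a') := by
  have hc : Commute (pw s a) (pw u b') := commute_pw (commute_pw p.comm.symm _).symm _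
  rw [dd, dd, dd, pw_add p.right.sq_one, pw_add p.left.sq_one, mul_assoc, ← mul_assoc (pw s a), hc.eq]
  simp [mul_assoc]

omit p in
theorem dd_zero : dd s u 0 0 = 1 := by rw [dd, pw_zero, pw_zero, one_mul]

theorem dd_sq (b a : ZMod 2) : dd s u b a * dd s u b a = 1 := by
  rw [p.dd_add, CharTwo.add_self_eq_zero, CharTwo.add_self_eq_zero, dd_zero]

omit p in
theorem commute_dd {x : G} (hs : Commute x s) (hu : Commute x u) (b a : ZMod 2) : Commute x (dd s u b a) :=
  (commute_pw hu b).mul_right (commute_pw hs a)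

theorem dd_eq_one {b a : ZMod 2} : dd s u b a = 1 ↔ b = 0 ∧ a = 0 := by
  constructor
  · intro h
    exact p.dd_inj (b' := 0) (a' := 0) (by rw [pw_zero, pw_zero, one_mul]; exact h)
  · rintro ⟨rfl, rfl⟩; exact dd_zero

theorem dd_P (b a : ZMod 2) : P S s u π (dd s u b a) 0 0 :=
  ⟨1, dd s u b a, p.br_of_inter (S.E s).one_mem (S.E u).one_mem, (p.dd_mem b a).1,
    p.right.le_cent _ (p.dd_mem b a).2, by show (π (pw u b * pw s a)).2.2 = 0; rw [p.map_dd], by rw [one_mul]⟩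

theorem exists_P (w v : W4) : ∃ x, P S s u π x w v := by
  obtain ⟨t, ht⟩ := p.exists_br w
  obtain ⟨q, hq, hqu, e⟩ := p.exists_q v
  exact ⟨_, t, q, ht, hq, hqu, by rw [e]; rfl, rfl⟩

theorem P_comm_su {x : G} {w v : W4} (h : P S s u π x w v) : Commute x s ∧ Commute x u := by
  obtain ⟨t, q, ht, hq, hqu, -, rfl⟩ := h
  exact ⟨(p.br_comm ht).1.mul_left (p.left.le_cent q hq), (p.br_comm ht).2.mul_left hqu⟩

theorem P_acts {x : G} {w v : W4} (h : P S s u π x w v) : Acts s (S.E s) π x (sg w) := by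
  obtain ⟨t, q, ht, hq, -, -, rfl⟩ := h
  exact p.acts_tq ht hq

theorem P_mk {t q : G} {w : W4} (ht : Br S s u π t w) (hq : q ∈ S.E s) (hqu : Commute q u) :
    P S s u π (t * q) w (π q).2.2 := ⟨t, q, ht, hq, hqu, rfl, rfl⟩

theorem qu_coord {q : G} (hq : q ∈ S.E s) (hqu : Commute q u) : (π q).2.1 = 0 := by
  rw [perp_u0 (p.perp_of_comm hq hqu)]

/-- Moving a factor. -/
theorem swap_tq {t q : G} {w : W4} (ht : Br S s u π t w) (hq : q ∈ S.E s) (hqu : Commute q u) :
    q * t = t * q * dd s u (B4 (π q).2.2 w) (B4 (π q).2.2 w) := by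
  have h := p.comm_rule ht hq hqu
  set D := dd s u (B4 (π q).2.2 w) (B4 (π q).2.2 w) with hD
  have h' : t * q * t⁻¹ = q * D := h
  have hc : Commute t D := commute_dd (p.br_comm ht).1 (p.br_comm ht).2 _ _
  calc q * t = q * D * D * t := by rw [mul_assoc q D D, hD, p.dd_sq, mul_one]
    _ = t * q * t⁻¹ * (t * D) := by rw [h', hc.eq, mul_assoc]
    _ = t * q * D := by group

theorem P_mul {x x' : G} {w v w' v' : W4} (h : P S s u π x w v) (h' : P S s u π x' w' v') :
    P S s u π (x * x') (w + w') (v + v') := by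
  obtain ⟨t, q, ht, hq, hqu, rfl, rfl⟩ := h
  obtain ⟨t', q', ht', hq', hqu', rfl, rfl⟩ := h'
  set D := dd s u (B4 (π q).2.2 w') (B4 (π q).2.2 w') with hD
  have hDm : D ∈ S.E s := (p.dd_mem _ _).1
  have hqD := (S.E s).mul_mem hq hDm
  refine ⟨t * t', q * D * q', p.br_mul ht ht', (S.E s).mul_mem hqD hq',
    (hqu.mul_left (p.right.le_cent _ (p.dd_mem _ _).2)).mul_left hqu', ?_, ?_⟩
  · rw [p.left.map_mul _ hqD _ hq', p.left.map_mul _ hq _ hDm]
    show (π q + π (pw u _ * pw s _) + π q').2.2 = _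
    rw [p.map_dd]; simp
  · rw [show t * q * (t' * q') = t * (q * t') * q' by group, p.swap_tq ht' hq hqu, ← hD]
    group

theorem P_inv {x : G} {w v : W4} (h : P S s u π x w v) : P S s u π x⁻¹ w v := by
  obtain ⟨t, q, ht, hq, hqu, rfl, rfl⟩ := h
  have h' := p.P_mul ⟨1, q⁻¹, p.br_of_inter (S.E s).one_mem (S.E u).one_mem, (S.E s).inv_mem hq, hqu.inv_left,
    rfl, rfl⟩ ⟨t⁻¹, 1, p.br_inv ht, (S.E s).one_mem, Commute.one_left u, rfl, rfl⟩
  rw [zero_add, p.left.map_one, p.left.map_inv hq, show (0 : V6).2.2 = 0 from rfl, add_zero, one_mul, mul_one,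
    ← mul_inv_rev] at h'
  exact h'

theorem P_zero {x : G} (h : P S s u π x 0 0) : ∃ b a, x = dd s u b a := by
  obtain ⟨t, q, ht, hq, hqu, hv, rfl⟩ := h
  obtain ⟨b, a, rfl⟩ := p.inter (p.br_zero ht) ht.1
  obtain ⟨b', a', rfl⟩ := p.inter hq (p.mem_of_map hq (p.qu_coord hq hqu) hv)
  exact ⟨_, _, p.dd_add b a b' a'⟩

theorem P_unique {x : G} {w v w' v' : W4} (h : P S s u π x w v) (h' : P S s u π x w' v') : w = w' ∧ v = v' := by
  have hw : w = w' := sg_inj (p.left.acts_unique (p.P_acts h) (p.P_acts h'))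
  refine ⟨hw, ?_⟩
  subst hw
  obtain ⟨t, q, ht, hq, hqu, rfl, rfl⟩ := h
  obtain ⟨t', q', ht', hq', hqu', rfl, e⟩ := h'
  obtain ⟨b, a, hd⟩ := p.P_zero (x := t'⁻¹ * t) (by
    have h0 := p.P_mul (p.P_inv (p.P_mk ht' (S.E s).one_mem (Commute.one_left u)))
      (p.P_mk ht (S.E s).one_mem (Commute.one_left u))
    rwa [mul_one, mul_one, p.left.map_one, show (0 : V6).2.2 = 0 from rfl, add_zero, w4_add_self] at h0)
  have e2 : q' = dd s u b a * q := by rw [← hd, mul_assoc, e]; group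
  rw [e2, dd, p.left.map_mul _ (p.dd_mem b a).1 _ hq]
  show _ = (π (pw u b * pw s a) + π q).2.2
  rw [p.map_dd]; simp

theorem P_eq {x x' : G} {w v : W4} (h : P S s u π x w v) (h' : P S s u π x' w v) :
    ∃ b a, x' = x * dd s u b a := by
  have h0 := p.P_mul (p.P_inv h) h'
  rw [w4_add_self, w4_add_self] at h0
  obtain ⟨b, a, e⟩ := p.P_zero h0
  exact ⟨b, a, by rw [← e]; group⟩

theorem swap_tt {t t' : G} {w w' : W4} (ht : Br S s u π t w) (ht' : Br S s u π t' w') :
    t * t' = t' * t * pw u (B4 w w') := by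
  have h1 := p.sq_rule (p.br_mul ht ht')
  have hq : q4 (w + w') = q4 w + q4 w' + B4 w w' :=
    (by decide : ∀ a b : W4, q4 (a + b) = q4 a + q4 b + B4 a b) w w'
  rw [hq, pw_add p.right.sq_one, pw_add p.right.sq_one, ← p.sq_rule ht, ← p.sq_rule ht'] at h1
  have hc : ∀ c, Commute t (pw u c) ∧ Commute t' (pw u c) := fun c =>
    ⟨commute_pw (p.br_comm ht).2 c, commute_pw (p.br_comm ht').2 c⟩
  have h2 : t' * t = t * t' * pw u (B4 w w') := by
    calc t' * t = t⁻¹ * (t * t' * (t * t')) * t'⁻¹ := by group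
      _ = t⁻¹ * (t * t * (t' * t') * pw u (B4 w w')) * t'⁻¹ := by rw [h1]
      _ = t * (t' * t') * (pw u (B4 w w') * t'⁻¹) := by group
      _ = t * (t' * t') * (t'⁻¹ * pw u (B4 w w')) := by rw [((hc _).2.inv_left).eq]
      _ = _ := by group
  rw [h2, mul_assoc (t * t'), ← pw_add p.right.sq_one, CharTwo.add_self_eq_zero, pw_zero, mul_one]

/-- The commutation of coordinates. -/
theorem P_swap {x x' : G} {w v w' v' : W4} (h : P S s u π x w v) (h' : P S s u π x' w' v') :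
    x * x' = x' * x * dd s u (cu w v w' v') (cs w v w' v') := by
  obtain ⟨t, q, ht, hq, hqu, rfl, rfl⟩ := h
  obtain ⟨t', q', ht', hq', hqu', rfl, rfl⟩ := h'
  have hD : ∀ b a (y : G), Commute y s → Commute y u → dd s u b a * y = y * dd s u b a := fun b a y h1 h2 =>
    (commute_dd h1 h2 b a).eq.symm
  obtain ⟨hts, htu⟩ := p.br_comm ht
  obtain ⟨hts', htu'⟩ := p.br_comm ht'
  have hqs := p.left.le_cent q hq
  have hqs' := p.left.le_cent q' hq'
  have hqq : q * q' = q' * q * dd s u 0 (B4 (π q).2.2 (π q').2.2) := by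
    rw [p.left.swap q hq q' hq', dd, pw_zero, one_mul]
    congr 2
    simp [B6, p.qu_coord hq hqu, p.qu_coord hq' hqu']
  have htt : t * t' = t' * t * dd s u (B4 w w') 0 := by rw [p.swap_tt ht ht', dd, pw_zero, mul_one]
  have e2 := p.swap_tq ht hq' hqu'
  have e2' : t * q' = q' * t * dd s u (B4 (π q').2.2 w) (B4 (π q').2.2 w) := by
    rw [e2, mul_assoc _ (dd s u _ _), p.dd_sq, mul_one]
  calc t * q * (t' * q') = t * (q * t') * q' := by group
    _ = t * t' * q * (dd s u (B4 (π q).2.2 w') (B4 (π q).2.2 w') * q') := by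
      rw [p.swap_tq ht' hq hqu]; group
    _ = t * t' * (q * q') * dd s u (B4 (π q).2.2 w') (B4 (π q).2.2 w') := by
      rw [hD _ _ q' hqs' hqu']; group
    _ = t' * t * dd s u (B4 w w') 0 * (q' * q) *
          (dd s u 0 (B4 (π q).2.2 (π q').2.2) * dd s u (B4 (π q).2.2 w') (B4 (π q).2.2 w')) := by
      rw [htt, hqq]; group
    _ = t' * (t * q') * q * (dd s u (B4 w w') 0 *
          (dd s u 0 (B4 (π q).2.2 (π q').2.2) * dd s u (B4 (π q).2.2 w') (B4 (π q).2.2 w'))) := by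
      rw [mul_assoc (t' * t), hD _ _ (q' * q) (hqs'.mul_left hqs) (hqu'.mul_left hqu)]; group
    _ = t' * q' * t * (dd s u (B4 (π q').2.2 w) (B4 (π q').2.2 w) * q) * (dd s u (B4 w w') 0 *
          (dd s u 0 (B4 (π q).2.2 (π q').2.2) * dd s u (B4 (π q).2.2 w') (B4 (π q).2.2 w'))) := by
      rw [e2']; group
    _ = t' * q' * (t * q) * (dd s u (B4 (π q').2.2 w) (B4 (π q').2.2 w) * (dd s u (B4 w w') 0 *
          (dd s u 0 (B4 (π q).2.2 (π q').2.2) * dd s u (B4 (π q).2.2 w') (B4 (π q).2.2 w')))) := by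
      rw [hD _ _ q hqs hqu]; group
    _ = _ := by
      rw [p.dd_add, p.dd_add, p.dd_add]
      congr 2 <;> simp only [cu, cs] <;> ring

theorem P_commute_iff {x x' : G} {w v w' v' : W4} (h : P S s u π x w v) (h' : P S s u π x' w' v') :
    Commute x x' ↔ cu w v w' v' = 0 ∧ cs w v w' v' = 0 := by
  rw [← p.dd_eq_one]
  constructor
  · intro hc
    have e := p.P_swap h h'
    rw [hc.eq] at e
    exact left_eq_mul.1 e
  · intro e
    show x * x' = x' * x
    rw [p.P_swap h h', e, mul_one]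

theorem P_sq {x : G} {w v : W4} (h : P S s u π x w v) :
    x * x = dd s u (q4 w + B4 v w) (q4 v + B4 v w) := by
  obtain ⟨t, q, ht, hq, hqu, rfl, rfl⟩ := h
  have hq6 : q6 (π q) = q4 (π q).2.2 := by simp [q6, p.qu_coord hq hqu]
  have e1 : q * q = dd s u 0 (q4 (π q).2.2) := by rw [p.left.square q hq, hq6, dd, pw_zero, one_mul]
  have e2 : t * t = dd s u (q4 w) 0 := by rw [p.sq_rule ht, dd, pw_zero, mul_one]
  calc t * q * (t * q) = t * (q * t) * q := by group
    _ = t * t * q * (dd s u (B4 (π q).2.2 w) (B4 (π q).2.2 w) * q) := by rw [p.swap_tq ht hq hqu]; group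
    _ = t * t * (q * q) * dd s u (B4 (π q).2.2 w) (B4 (π q).2.2 w) := by
      rw [(commute_dd (p.left.le_cent q hq) hqu _ _).eq.symm]; group
    _ = _ := by rw [e1, e2, p.dd_add, p.dd_add, add_zero, zero_add]

theorem P_sq_one {x : G} {w v : W4} (h : P S s u π x w v) :
    x * x = 1 ↔ q4 w + B4 v w = 0 ∧ q4 v + B4 v w = 0 := by rw [p.P_sq h, p.dd_eq_one]

theorem acts_fix {c : G} {g : Orth Q6} (hc : Acts s (S.E s) π c g) (hcu : Commute c u) : g.1 u0 = u0 := by
  rw [← p.hu, ← hc.2 u p.memE, conj_eq_iff_commute.2 hcu]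

/-- Conjugation by an element fixing `u`. -/
theorem P_conj {c x : G} {g : Orth Q6} {w v : W4} (hc : Acts s (S.E s) π c g) (hcu : Commute c u)
    (h : P S s u π x w v) : P S s u π (c * x * c⁻¹) (hW g w) (hW g v) := by
  have hg := p.acts_fix hc hcu
  obtain ⟨t, q, ht, hq, hqu, rfl, rfl⟩ := h
  refine ⟨c * t * c⁻¹, c * q * c⁻¹, ⟨p.right.normal c hcu t ht.1, ?_⟩, p.left.normal c hc.1 q hq,
    (hcu.mul_left hqu).mul_left hcu.inv_left, ?_, by group⟩
  · rw [← conj_sg hg]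
    exact p.left.acts_mul (p.left.acts_mul hc ht.2) (p.left.acts_inv hc)
  · rw [hc.2 q hq, show π q = ((π q).1, 0, (π q).2.2) from perp_u0 (p.perp_of_comm hq hqu)]
    exact (perp_image hg _).2

/-- Conjugation by a shift. -/
theorem P_shift {y x : G} {w v : W4} (hy : y ∈ S.E s) (hb : (π y).2.1 = 1) (h : P S s u π x w v) :
    P S s u π (y * x * y⁻¹) w (v + w) := by
  obtain ⟨t, q, ht, hq, hqu, rfl, rfl⟩ := h
  obtain ⟨r, hr, e, hrπ⟩ := p.shift ht hq hy
  rw [e]
  refine ⟨t, r, ht, hr, p.comm_of_perp hr ?_, ?_, rfl⟩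
  · rw [hrπ]
    simp [B6, u0, p.qu_coord hq hqu]
  · rw [hrπ, hb]; simp [add_comm]

/-- An element of the centralizer of the pair with the action of a root transformation. -/
theorem P_of_acts {x : G} {w : W4} (h : Acts s (S.E s) π x (sg w)) (hxu : Commute x u) :
    ∃ v, P S s u π x w v := by
  obtain ⟨t, ht⟩ := p.exists_br w
  have hq : t⁻¹ * x ∈ S.E s := p.left.faith _ (by
    have := p.left.acts_mul (p.br_inv ht).2 h
    rwa [sg_sq] at this)
  exact ⟨_, t, t⁻¹ * x, ht, hq, (p.br_comm ht).2.inv_left.mul_left hxu, rfl, by group⟩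

end Pair

end CfsgLib.SuzType
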