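import Cfsg.Agent.Lib.J2Type.Normalizer
import Mathlib.GroupTheory.SchurZassenhaus

/-!
A group of order 84 with a central element of order seven and a four-group acted on fixed-point-freely.
-/

set_option autoImplicit false
set_option linter.style.haveILetI false

namespace CfsgLib.SuzTwoB

open Subgroup

universe u

/-- The structure `7 × A₄`. -/
theorem iso_seven_a4 {M : Type u} [Group M] [Finite M] (b : M) (hb : orderOf b = 7) (hc : ∀ g, Commute g b)
    (W : Subgroup M) (hW : Nat.card W = 4) (hsq : ∀ t ∈ W, t * t = 1) (y : M) (hy3 : y ^ 3 = 1)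
    (hy : ∀ t ∈ W, y * t * y⁻¹ ∈ W) (hfpf : ∀ t ∈ W, Commute y t → t = 1) (hM : Nat.card M = 84) :
    Nonempty (M ≃* Multiplicative (ZMod 7) × alternatingGroup (Fin 4)) := by
  classical
  set B := zpowers b with hBdef
  have hBc : B ≤ center M := zpowers_le.2 (mem_center_iff.2 fun g => (hc g).eq)
  haveI : B.Normal := ⟨fun x hx g => by rwa [mem_center_iff.1 (hBc hx) g, mul_inv_cancel_right]⟩
  have hBcard : Nat.card B = 7 := by rw [hBdef, Nat.card_zpowers, hb]
  have hBidx : B.index = 12 := by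
    have := B.card_mul_index
    rw [hBcard, hM] at this
    omega
  obtain ⟨A, hA⟩ := exists_right_complement'_of_coprime (N := B) (by rw [hBcard, hBidx]; norm_num)
  have hAcard : Nat.card A = 12 := by
    have := hA.card_mul_card
    rw [hBcard, hM] at this
    omega
  have hmem : ∀ x : M, x ^ 12 = 1 → x ∈ A := by
    intro x hx
    obtain ⟨⟨⟨z, hz⟩, ⟨a, ha⟩⟩, hza, -⟩ := isComplement_iff_existsUnique.1 hA x
    simp only at hza
    have ha12 : a ^ 12 = 1 := by
      have h := congrArg (A.subtype : A → M) (pow_card_eq_one' (x := (⟨a, ha⟩ : A)))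
      rw [hAcard, map_pow, map_one] at h
      exact h
    have hz7 : z ^ 7 = 1 := by
      have h := congrArg (B.subtype : B → M) (pow_card_eq_one' (x := (⟨z, hz⟩ : B)))
      rw [hBcard, map_pow, map_one] at h
      exact h
    have hcza : Commute z a := (mem_center_iff.1 (hBc hz) a).symm
    rw [← hza, hcza.mul_pow, ha12, mul_one] at hx
    have hz1 : z = 1 := by simpa using pow_gcd_eq_one.2 ⟨hz7, hx⟩
    rw [← hza, hz1, one_mul]
    exact ha
  have hWA : W ≤ A := fun t ht => hmem t (by
    rw [show (12 : ℕ) = 2 * 6 by norm_num, pow_mul, pow_two, hsq t ht, one_pow])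
  have hyA : y ∈ A := hmem y (by rw [show (12 : ℕ) = 3 * 4 by norm_num, pow_mul, hy3, one_pow])
  obtain ⟨t, ht, ht1⟩ : ∃ t ∈ W, t ≠ 1 := (W.bot_or_exists_ne_one).resolve_left fun h => by
    rw [h, card_bot] at hW
    omega
  have hy1 : y ≠ 1 := fun h => ht1 (hfpf t ht (h ▸ Commute.one_left t))
  have hyord : orderOf y = 3 := orderOf_eq_prime hy3 hy1
  have hfull : ∀ D : Subgroup M, D ≤ A → W ≤ D → y ∈ D → D = A := by
    intro D hDA hWD hyD
    refine eq_of_le_of_card_ge hDA ?_
    rw [hAcard]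
    refine Nat.le_of_dvd Nat.card_pos ?_
    refine (show Nat.Coprime 4 3 by norm_num).mul_dvd_of_dvd_of_dvd ?_ ?_
    · exact hW ▸ card_dvd_of_le hWD
    · exact hyord ▸ orderOf_dvd_natCard D hyD
  have hWnorm : ∀ k ∈ A, ∀ v ∈ W, k * v * k⁻¹ ∈ W := by
    have hyN : y ∈ normalizer (W : Set M) :=
      mem_normalizer_fintype fun v hv => hy v hv
    have hWN : W ≤ normalizer (W : Set M) := le_normalizer
    have h := hfull (A ⊓ normalizer (W : Set M)) inf_le_left (le_inf hWA hWN) ⟨hyA, hyN⟩
    intro k hk v hv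
    rw [← h] at hk
    exact (mem_normalizer_iff.1 hk.2 v).1 hv
  have hfix : ∀ k ∈ A, Commute k t → k ∈ W := by
    intro k hk hkt
    set D := A ⊓ centralizer ({t} : Set M) with hD
    have hcomm : ∀ v ∈ W, Commute v t := fun v hv => by
      have h := hsq (v * t) (W.mul_mem hv ht)
      have hvi : v⁻¹ = v := inv_eq_of_mul_eq_one_right (hsq v hv)
      have hti : t⁻¹ = t := inv_eq_of_mul_eq_one_right (hsq t ht)
      calc v * t = (v * t)⁻¹ := (inv_eq_of_mul_eq_one_right h).symm
        _ = t * v := by rw [mul_inv_rev, hvi, hti]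
    have hWD : W ≤ D := le_inf hWA fun v hv => mem_centralizer_singleton_iff.2 (hcomm v hv)
    have hyD : y ∉ D := fun h => ht1 (hfpf t ht (mem_centralizer_singleton_iff.1 h.2))
    have hDW : D = W := by
      refine (eq_of_le_of_card_ge hWD ?_).symm
      have h12 : Nat.card D ∣ 12 := hAcard ▸ card_dvd_of_le inf_le_left
      have h4 : 4 ∣ Nat.card D := hW ▸ card_dvd_of_le hWD
      have hne : Nat.card D ≠ 12 := fun e =>
        hyD ((eq_of_le_of_card_ge (inf_le_left : D ≤ A) (by rw [e, hAcard])).ge hyA)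
      have hle := Nat.le_of_dvd (by norm_num) h12
      rw [hW]
      interval_cases Nat.card D <;> omega
    exact hDW ▸ (⟨hk, mem_centralizer_singleton_iff.2 hkt⟩ : k ∈ D)
  obtain ⟨eA⟩ := J2Type.nonempty_alt_four hAcard hWA hW hWnorm ht hfix
  haveI : IsCyclic B := isCyclic_zpowers b
  obtain ⟨eB⟩ : Nonempty (Multiplicative (ZMod 7) ≃* B) :=
    ⟨mulEquivOfCyclicCardEq (by rw [hBcard]; simp)⟩
  let f : B × A →* M := MonoidHom.noncommCoprod B.subtype A.subtype
    fun z a => (mem_center_iff.1 (hBc z.2) a).symm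
  have hbij : Function.Bijective f := hA
  exact ⟨((MulEquiv.ofBijective f hbij).symm.trans (MulEquiv.prodCongr eB.symm eA))⟩

end CfsgLib.SuzTwoB
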