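import Cfsg.Agent.Lib.SuzTwoB.Big
import Cfsg.Agent.Lib.SuzThree.Type
import Cfsg.Agent.Lib.SuzThree.Hyp
import Cfsg.Agent.Lib.U43Type.SevenCent

/-!
# The facts on the centralizer of the element of order three
-/

set_option autoImplicit false
set_option linter.style.haveILetI false
set_option synthInstance.maxSize 20000
set_option maxRecDepth 10000

namespace CfsgLib.SuzTwoB

open CfsgLib.Classical.Quad CfsgLib.SuzType Subgroup

universe u

variable {G : Type u} [Group G]

namespace Conf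

variable {S : Sys G} {s u y : G} {π π' : G → V6} (K : Conf S s u y π π')
include K

theorem y_pow_cases (i : ℕ) : y ^ i = 1 ∨ y ^ i = y ∨ y ^ i = y ^ 2 := by
  rw [← Nat.div_add_mod i 3, pow_add, pow_mul, K.cube, one_pow, one_mul]
  rcases (by omega : i % 3 = 0 ∨ i % 3 = 1 ∨ i % 3 = 2) with e | e | e <;> rw [e] <;> simp

theorem y_pow_H {i : ℕ} (h : y ^ i ∈ K.H) : y ^ i = 1 := by
  obtain ⟨t0, ht, h0⟩ := K.exists_t0
  have hfpf : ¬ Commute t0 y := fun h => by
    have e := K.W_fpf ht h.symm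
    rw [e] at h0
    exact absurd (K.pair.P_unique h0 (Pair.dd_zero (s := s) (u := u) ▸ K.pair.dd_P 0 0)).1 (by decide)
  rcases K.y_pow_cases i with e | e | e
  · exact e
  · exact absurd (e ▸ K.H_comm_W h ht) hfpf
  · refine absurd ?_ hfpf
    have h2 := (e ▸ K.H_comm_W h ht : Commute t0 (y ^ 2)).pow_right 2
    rwa [← pow_mul, show 2 * 2 = 3 + 1 by rfl, pow_add, K.cube, one_mul, pow_one] at h2

theorem sq_pow_y {i : ℤ} (h : y ^ i * y ^ i = 1) : y ^ i = 1 := by
  have h3 : (y ^ i) ^ (3 : ℕ) = 1 := by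
    rw [← zpow_natCast, ← zpow_mul, mul_comm, zpow_mul, zpow_natCast, K.cube, one_zpow]
  rw [pow_succ, pow_two, h, one_mul] at h3
  exact h3

theorem loc [Finite G] :
    Loc K ∧ Nat.card (centralizer ({y} : Set G)) = 9797760 := by
  classical
  obtain ⟨F, hFy⟩ := CfsgLib.SuzThree.exists_frame K.pair.Ks K.pair.left K.hy K.cube
  subst hFy
  obtain ⟨P⟩ := F.exists_factors
  set C := centralizer ({F.y} : Set G) with hC
  have hyC : F.y ∈ C := mem_centralizer_singleton_iff.2 rfl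
  haveI hn : ((zpowers F.y).subgroupOf C).Normal := ⟨fun a ha g => by
    rw [mem_subgroupOf] at ha ⊢
    obtain ⟨i, hi⟩ := mem_zpowers_iff.1 ha
    have hgy : Commute (g : G) F.y := mem_centralizer_singleton_iff.1 g.2
    refine mem_zpowers_iff.2 ⟨i, ?_⟩
    show F.y ^ i = (g : G) * (a : G) * (g : G)⁻¹
    rw [← hi, conj_eq_iff_commute.2 (hgy.zpow_right i)]⟩
  set q := QuotientGroup.mk' ((zpowers F.y).subgroupOf C) with hq
  have hker : ∀ x, q x = 1 ↔ (x : G) ∈ zpowers F.y := fun x => by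
    rw [hq, QuotientGroup.mk'_apply, QuotientGroup.eq_one_iff, mem_subgroupOf]
  obtain ⟨D, hDz, -⟩ := P.hyp q (QuotientGroup.mk'_surjective _) hker
  obtain ⟨hcard, hone⟩ := CfsgLib.U43Type.order_and_class D
  refine ⟨⟨?_, ?_, ?_⟩, ?_⟩
  · intro h hhy hh h1
    have hhC : h ∈ C := mem_centralizer_singleton_iff.2 hhy.eq
    have hsy : Commute s F.y := K.hy.1.symm
    have hsC : s ∈ C := mem_centralizer_singleton_iff.2 hsy.eq
    have hne : ∀ (a : G) (ha : a ∈ C), a * a = 1 → a ≠ 1 → orderOf (q ⟨a, ha⟩) = 2 := fun a ha haa ha1 => by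
      refine orderOf_eq_prime ?_ fun e => ha1 ?_
      · rw [pow_two, ← map_mul, show (⟨a, ha⟩ : C) * ⟨a, ha⟩ = 1 from Subtype.ext haa, map_one]
      · obtain ⟨i, hi⟩ := mem_zpowers_iff.1 ((hker _).1 e)
        have hi' : F.y ^ i = a := hi
        rw [← hi'] at haa ⊢
        exact K.sq_pow_y haa
    obtain ⟨g', hg'⟩ := isConj_iff.1 (hone _ _ (hne h hhC hh h1) (hne s hsC K.pair.left.sq_one K.pair.left.ne_one))
    obtain ⟨⟨g, hgC⟩, rfl⟩ := QuotientGroup.mk'_surjective _ g'
    rw [← map_inv, ← map_mul, ← map_mul, ← inv_mul_eq_one, ← map_inv, ← map_mul] at hg'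
    obtain ⟨i, hi⟩ := mem_zpowers_iff.1 ((hker _).1 hg')
    have hgy : Commute g F.y := mem_centralizer_singleton_iff.1 hgC
    have hi' : F.y ^ i = (g * h * g⁻¹)⁻¹ * s := hi
    refine ⟨g, hgy, ?_⟩
    have hsi : s = g * h * g⁻¹ * F.y ^ i := by rw [hi']; group
    have hsq := sq_conj (c := g) hh
    have hc : Commute (F.y ^ i) (g * h * g⁻¹) :=
      (((hgy.mul_left hhy).mul_left hgy.inv_left).symm).zpow_left i
    have h2 : F.y ^ i * F.y ^ i = 1 := by
      have := K.pair.left.sq_one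
      rw [hsi, Commute.mul_mul_mul_comm hc, hsq, one_mul] at this
      exact this
    rw [hsi, K.sq_pow_y h2, mul_one]
  · have hle : K.H ≤ C := inf_le_right
    have hinj : Function.Injective (q.comp (Subgroup.inclusion hle)) := by
      rw [injective_iff_map_eq_one]
      intro a ha
      have hmem : (a : G) ∈ zpowers F.y := (hker _).1 ha
      rw [← mem_powers_iff_mem_zpowers] at hmem
      obtain ⟨i, hi : F.y ^ i = (a : G)⟩ := hmem
      exact Subtype.ext (hi.symm.trans (K.y_pow_H (hi ▸ a.2)))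
    have := Subgroup.card_dvd_of_injective _ hinj
    rw [hcard] at this
    simpa using this
  · intro b g hby hb hgy hgb
    have hbC : b ∈ C := mem_centralizer_singleton_iff.2 hby.eq
    have hgC : g ∈ C := mem_centralizer_singleton_iff.2 hgy.eq
    haveI : Fact (Nat.Prime 7) := ⟨by decide⟩
    have hqb : orderOf (q ⟨b, hbC⟩) = 7 := by
      refine orderOf_eq_prime ?_ fun e => ?_
      · rw [← map_pow, show (⟨b, hbC⟩ : C) ^ 7 = 1 from Subtype.ext (by
          show b ^ 7 = 1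
          rw [← hb, pow_orderOf_eq_one]), map_one]
      · have := orderOf_dvd_of_mem_zpowers ((hker _).1 e)
        rw [show orderOf ((⟨b, hbC⟩ : C) : G) = 7 from hb] at this
        have h3 := this.trans (orderOf_dvd_of_pow_eq_one K.cube)
        norm_num at h3
    have hmem := CfsgLib.U43Type.cent_seven D hqb (g := q ⟨g, hgC⟩) (by
      show _ * _ = _ * _
      rw [← map_mul, ← map_mul, show (⟨g, hgC⟩ : C) * ⟨b, hbC⟩ = ⟨b, hbC⟩ * ⟨g, hgC⟩ from Subtype.ext hgb.eq])
    obtain ⟨j, hj⟩ := mem_zpowers_iff.1 hmem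
    rw [← map_zpow, ← inv_mul_eq_one, ← map_inv, ← map_mul] at hj
    have h1 : (b ^ j)⁻¹ * g ∈ zpowers F.y := (hker _).1 hj
    have h2 := inv_mem h1
    rw [← mem_powers_iff_mem_zpowers] at h2
    obtain ⟨i, hi : F.y ^ i = ((b ^ j)⁻¹ * g)⁻¹⟩ := h2
    refine ⟨i, mem_zpowers_iff.2 ⟨j, ?_⟩⟩
    rw [hi]; group
  · rw [card_eq_card_quotient_mul_card_subgroup ((zpowers F.y).subgroupOf C),
      Nat.card_congr (subgroupOfEquivOfLe (zpowers_le.2 hyC)).toEquiv, Nat.card_zpowers]
    haveI : Fact (Nat.Prime 3) := ⟨Nat.prime_three⟩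
    rw [orderOf_eq_prime F.cube F.y_ne]
    show Nat.card (↥C ⧸ (zpowers F.y).subgroupOf C) * 3 = 9797760
    rw [hcard]; norm_num

end Conf

end CfsgLib.SuzTwoB
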