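import Cfsg.Agent.Lib.SuzTwoB.Big

/-!
# No element outside `W × H` centralizes an element of order seven
-/

set_option autoImplicit false
set_option linter.style.haveILetI false
set_option synthInstance.maxSize 20000
set_option maxRecDepth 10000

namespace CfsgLib.SuzTwoB

open CfsgLib.Classical.Quad CfsgLib.SuzType Subgroup

universe u

variable {G : Type u} [Group G]

/-- The normalizer of a subgroup of order seven in a subgroup with a Sylow subgroup of order seven. -/
theorem norm_seven [Finite G] (A : Subgroup G) {b : G} (hbA : b ∈ A) (hb : orderOf b = 7)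
    (h49 : ¬ 49 ∣ Nat.card A) :
    (∃ o, o ≤ 6 ∧ Nat.card (A ⊓ normalizer (zpowers b : Set G) : Subgroup G) =
        o * Nat.card (A ⊓ centralizer ({b} : Set G) : Subgroup G)) ∧
      Nat.card A / Nat.card (A ⊓ normalizer (zpowers b : Set G) : Subgroup G) % 7 = 1 ∧
      ∀ b' ∈ A, orderOf b' = 7 → ∃ h ∈ A, h * b' * h⁻¹ ∈ zpowers b := by
  classical
  haveI : Fintype G := Fintype.ofFinite G
  haveI : Fact (Nat.Prime 7) := ⟨by decide⟩
  set N := A ⊓ normalizer (zpowers b : Set G) with hNdef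
  refine ⟨?_, ?_⟩
  · have h := card_orbit_conj N b
    have e : N ⊓ centralizer ({b} : Set G) = A ⊓ centralizer ({b} : Set G) := by
      refine le_antisymm (inf_le_inf_right _ inf_le_left) fun x hx => ⟨⟨hx.1, mem_normalizer_iff.2 fun a => ?_⟩, hx.2⟩
      have hc : Commute x b := mem_centralizer_singleton_iff.1 hx.2
      constructor
      · intro ha
        obtain ⟨i, rfl⟩ := mem_zpowers_iff.1 ha
        rw [conj_eq_iff_commute.2 (hc.zpow_right i)]
        exact zpow_mem (mem_zpowers b) i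
      · intro ha
        obtain ⟨i, hi⟩ := mem_zpowers_iff.1 ha
        have e : a = b ^ i := by
          rw [show a = x⁻¹ * (x * a * x⁻¹) * x by group, ← hi, mul_assoc, ← (hc.zpow_right i).eq]; group
        rw [e]
        exact zpow_mem (mem_zpowers b) i
    rw [e] at h
    refine ⟨_, ?_, h.symm⟩
    rw [Nat.card_eq_fintype_card, Fintype.card_subtype]
    have hsub : (Finset.univ.filter fun x : G => ∃ n ∈ N, n * b * n⁻¹ = x) ⊆
        (Finset.univ.filter fun x : G => x ∈ zpowers b).erase 1 := by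
      intro x hx
      obtain ⟨n, hn, rfl⟩ := (Finset.mem_filter.1 hx).2
      refine Finset.mem_erase.2 ⟨fun e => ?_, Finset.mem_filter.2 ⟨Finset.mem_univ _,
        (mem_normalizer_iff.1 hn.2 b).1 (mem_zpowers b)⟩⟩
      rw [conj_eq_one_iff] at e
      rw [e, orderOf_one] at hb
      omega
    refine (Finset.card_le_card hsub).trans ?_
    rw [Finset.card_erase_of_mem (Finset.mem_filter.2 ⟨Finset.mem_univ _, one_mem _⟩),
      ← Fintype.card_subtype, ← Nat.card_eq_fintype_card]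
    show Nat.card (zpowers b) - 1 ≤ 6
    rw [Nat.card_zpowers, hb]
  · obtain ⟨b', hb'⟩ : ∃ b' : A, b' = ⟨b, hbA⟩ := ⟨_, rfl⟩
    have hob : orderOf b' = 7 := by rw [hb', ← Subgroup.orderOf_coe]; exact hb
    have hsyl : ∀ a : A, orderOf a = 7 → ∃ P : Sylow 7 A, (P : Subgroup A) = zpowers a := by
      intro a ha
      obtain ⟨P, hP⟩ := (IsPGroup.of_card (p := 7) (n := 1)
        (show Nat.card (zpowers a) = 7 ^ 1 by rw [Nat.card_zpowers, ha]; norm_num)).exists_le_sylow
      obtain ⟨k, hk⟩ := P.isPGroup'.exists_card_eq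
      have hk1 : k ≤ 1 := by
        by_contra hc
        exact h49 ((pow_dvd_pow 7 (show 2 ≤ k by omega)).trans (hk ▸ card_subgroup_dvd_card (P : Subgroup A)))
      refine ⟨P, (eq_of_le_of_card_ge hP ?_).symm⟩
      rw [hk, Nat.card_zpowers, ha]
      calc 7 ^ k ≤ 7 ^ 1 := Nat.pow_le_pow_right (by norm_num) hk1
        _ = 7 := by norm_num
    obtain ⟨P, hP⟩ := hsyl b' hob
    refine ⟨?_, fun a haA ha => ?_⟩
    · have h1 := card_sylow_modEq_one 7 A
      have h2 := P.card_eq_index_normalizer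
      have h3 := card_mul_index (normalizer ((P : Subgroup A) : Set A))
      have e : normalizer ((P : Subgroup A) : Set A) = N.subgroupOf A := by
        ext x
        rw [hP, mem_normalizer_iff, mem_subgroupOf, hNdef, Subgroup.mem_inf, mem_normalizer_iff]
        have key : ∀ a : A, a ∈ zpowers b' ↔ (a : G) ∈ zpowers b := fun a => by
          simp only [mem_zpowers_iff, hb']
          exact exists_congr fun i => ⟨fun h => by rw [← h]; rfl, fun h => Subtype.ext h⟩
        constructor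
        · intro h
          refine ⟨x.2, fun a => ⟨fun ha => ?_, fun ha => ?_⟩⟩
          · have haA : a ∈ A := zpowers_le.2 hbA ha
            exact (key _).1 ((h ⟨a, haA⟩).1 ((key ⟨a, haA⟩).2 ha))
          · have haA : a ∈ A := by
              have := mul_mem (mul_mem (inv_mem x.2) (zpowers_le.2 hbA ha)) x.2
              rwa [show (x : G)⁻¹ * ((x : G) * a * (x : G)⁻¹) * (x : G) = a by group] at this
            exact (key ⟨a, haA⟩).1 ((h ⟨a, haA⟩).2 ((key _).2 ha))
        · rintro ⟨-, h⟩ a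
          rw [key, key]
          exact h a
      rw [show (normalizer (P : Set A)) = normalizer ((P : Subgroup A) : Set A) from rfl, e] at h2
      rw [e, Nat.card_congr (subgroupOfEquivOfLe (show N ≤ A from inf_le_left)).toEquiv] at h3
      rw [h2] at h1
      rw [← h3, Nat.mul_div_cancel_left _ Nat.card_pos]
      exact h1
    · obtain ⟨Q, hQ⟩ := hsyl ⟨a, haA⟩ (by rw [← Subgroup.orderOf_coe]; exact ha)
      obtain ⟨g, hg⟩ := MulAction.exists_smul_eq A Q P
      refine ⟨g, g.2, ?_⟩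
      have hmem : g * (⟨a, haA⟩ : A) * g⁻¹ ∈ (P : Subgroup A) := by
        rw [← hg, Sylow.coe_subgroup_smul, mem_pointwise_smul_iff_inv_smul_mem, hQ]
        simp [MulAut.smul_def, mul_assoc]
      rw [hP, mem_zpowers_iff, hb'] at hmem
      obtain ⟨i, hi⟩ := hmem
      exact mem_zpowers_iff.2 ⟨i, congrArg Subtype.val hi⟩

theorem rr_involutive : ∀ w : W4, InU w → r4 w0 (r4 w11 (r4 w0 (r4 w11 w))) = w := by decide +kernel

theorem rr_fixed : ∀ w : W4, InU w → r4 w0 (r4 w11 w) = w → w = 0 ∨ w = w0 := by decide +kernel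

theorem rr_shift : r4 w0 (r4 w11 vd) = vd + w0 := I0_values.2

theorem rr_lines : ∀ w v : W4, InL true w → InL true v → r4 w0 (r4 w11 w) = w →
    r4 w0 (r4 w11 v) + r4 w0 (r4 w11 w) = v → w = 0 ∧ v = 0 := by decide +kernel

theorem rr_lines' : ∀ w v : W4, InL false w → InL false v → r4 w0 (r4 w11 w) = w →
    r4 w0 (r4 w11 v) + r4 w0 (r4 w11 w) = v → w = 0 ∧ v = 0 := by decide +kernel

theorem order_cases : ∀ n ∈ Nat.divisors 960, n % 7 = 1 → ∀ a ∈ [1, 2, 3, 4, 5], 2 ^ a ∣ n →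
    21 * n / 2 ^ a % 2 = 1 → 21 * n / 2 ^ a % 2 ^ a = 1 → False := by decide +kernel

namespace Conf

variable {S : Sys G} {s u y : G} {π π' : G → V6} (K : Conf S s u y π π')
include K

theorem y_pow_mem_H [Finite G] {i : ℕ} (h : y ^ i ∈ K.H) : y ^ i = 1 := by
  obtain ⟨t0, ht, h0⟩ := K.exists_t0
  have hfpf : ¬ Commute t0 y := fun h => by
    have e := K.W_fpf ht h.symm
    rw [e] at h0
    exact absurd (K.pair.P_unique h0 (Pair.dd_zero (s := s) (u := u) ▸ K.pair.dd_P 0 0)).1 (by decide)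
  rw [← Nat.div_add_mod i 3, pow_add, pow_mul, K.cube, one_pow, one_mul] at h ⊢
  rcases (by omega : i % 3 = 0 ∨ i % 3 = 1 ∨ i % 3 = 2) with e | e | e <;> rw [e] at h ⊢
  · simp
  · rw [pow_one] at h ⊢
    exact absurd (K.H_comm_W h ht) hfpf
  · refine absurd ?_ hfpf
    have h2 := (K.H_comm_W h ht).pow_right 2
    rwa [← pow_mul, show 2 * 2 = 3 + 1 by rfl, pow_add, K.cube, one_mul, pow_one] at h2

theorem H_cent_b [Finite G] (L : Loc K) {b : G} (hbH : b ∈ K.H) (hb : orderOf b = 7) {g : G} (hg : g ∈ K.H)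
    (hgb : Commute g b) : g ∈ zpowers b := by
  obtain ⟨i, hi⟩ := L.seven b g (K.mem_H.1 hbH).2 hb (K.mem_H.1 hg).2 hgb
  have hyi : y ^ i ∈ K.H := by
    have := mul_mem (inv_mem hg) (zpowers_le.2 hbH hi)
    rwa [inv_mul_cancel_left] at this
  rwa [K.y_pow_mem_H hyi, mul_one] at hi

theorem card_NH [Finite G] (L : Loc K) {b : G} (hbH : b ∈ K.H) (hb : orderOf b = 7) :
    Nat.card (K.H ⊓ normalizer (zpowers b : Set G) : Subgroup G) = 21 := by
  have e : K.H ⊓ centralizer ({b} : Set G) = zpowers b := le_antisymm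
    (fun g hg => K.H_cent_b L hbH hb hg.1 (mem_centralizer_singleton_iff.1 hg.2))
    (zpowers_le.2 ⟨hbH, mem_centralizer_singleton_iff.2 rfl⟩)
  obtain ⟨⟨o, ho, hN⟩, hmod, -⟩ := norm_seven K.H hbH hb (by rw [K.card_H L]; norm_num)
  rw [e, Nat.card_zpowers, hb] at hN
  rw [hN, K.card_H L] at hmod
  rw [hN]
  interval_cases o <;> first | rfl | norm_num at hmod

/-- Elements of the centralizer of the representative centralizing the four-group. -/
theorem cent_W_D [Finite G] (L : Loc K) {t0 : G} (ht : t0 ∈ K.W) (h0 : P S s u π t0 w0 vd) {d : G}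
    (hd : Commute d t0) :
    (∃ t ∈ K.W, ∃ h ∈ K.H, d = t * h) ∨
      ∃ c, Inv K c ∧ ∀ t ∈ K.W, d * t * d⁻¹ = c * t * c⁻¹ := by
  have hdN : d ∈ K.N t0 := by
    rw [← K.cent_eq_N L ht h0]; exact mem_centralizer_singleton_iff.2 hd.eq
  obtain ⟨g, hg, hgs⟩ := K.H_conj L (((K.mem_N.1 hdN).2 s).1 K.s_mem_H) (sq_conj (c := d) K.pair.left.sq_one)
    (fun h => K.pair.left.ne_one (conj_eq_one_iff.1 h))
  obtain ⟨c, hc⟩ := K.exists_inv
  have hgt := (K.H_comm_W hg ht).symm
  have hx : Commute (g⁻¹ * d) s := conj_eq_iff_commute.1 (by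
    rw [show g⁻¹ * d * s * (g⁻¹ * d)⁻¹ = g⁻¹ * (d * s * d⁻¹) * g by group, ← hgs]; group)
  rcases K.cent_cases hc hx ht h0 (hgt.inv_left.mul_left hd) with h | h
  · left
    obtain ⟨t, htW, k, hk, e⟩ := K.sup_Z0 h
    refine ⟨t, htW, g * k, mul_mem hg (K.Sg_le hk), ?_⟩
    rw [← mul_assoc t, (K.H_comm_W hg htW).eq, mul_assoc, ← e]; group
  · refine Or.inr ⟨c, hc, fun t htW => ?_⟩
    have e1 : d * t * d⁻¹ = g * (c * ((c⁻¹ * (g⁻¹ * d)) * t * (c⁻¹ * (g⁻¹ * d))⁻¹) * c⁻¹) * g⁻¹ := by group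
    rw [e1, conj_eq_iff_commute.2 (K.Z0_W h htW).symm,
      conj_eq_iff_commute.2 (K.H_comm_W hg (K.inv_W hc htW)).symm]

theorem inv_t1 {c : G} (hc : Inv K c) {t0 : G} (ht : t0 ∈ K.W) (h0 : P S s u π t0 w0 vd) :
    ∃ t1 ∈ K.W, c * t1 * c⁻¹ = t1 * t0 ∧ ¬ Commute c t1 := by
  obtain ⟨t, htW, hP⟩ := K.W_exists (w := vd) (by decide)
  have h := hc.coord hP
  rw [rr_shift] at h
  refine ⟨t, htW, K.W_unique (K.inv_W hc htW) (K.W.mul_mem htW ht) h (K.pair.P_mul hP h0), fun hc' => ?_⟩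
  rw [conj_eq_iff_commute.2 hc'] at h
  exact absurd (K.pair.P_unique h hP).1 (by decide)

theorem inv_inv_W {c : G} (hc : Inv K c) {t : G} (ht : t ∈ K.W) : c * (c * t * c⁻¹) * c⁻¹ = t := by
  obtain ⟨w, hw, hP⟩ := K.W_coord ht
  have h := hc.coord (hc.coord hP)
  rw [rr_involutive w hw] at h
  exact K.W_unique (K.inv_W hc (K.inv_W hc ht)) ht h hP

theorem inv_fixed {c : G} (hc : Inv K c) {t0 : G} (ht0 : t0 ∈ K.W) (h0 : P S s u π t0 w0 vd) {t : G}
    (ht : t ∈ K.W) (h : c * t * c⁻¹ = t) : t = 1 ∨ t = t0 := by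
  obtain ⟨w, hw, hP⟩ := K.W_coord ht
  have h' := hc.coord hP
  rw [h] at h'
  rcases rr_fixed w hw (K.pair.P_unique h' hP).1 with rfl | rfl
  · exact Or.inl (K.W_unique ht K.W.one_mem hP (Pair.dd_zero (s := s) (u := u) ▸ K.pair.dd_P 0 0))
  · exact Or.inr (K.W_unique ht ht0 hP h0)

/-- An involution of the coset centralizes only `s` among the involutions of `H` at `s`. -/
theorem swap_unique [Finite G] {t0 : G} (ht : t0 ∈ K.W) (h0 : P S s u π t0 w0 vd) {e : G}
    (hes : Commute e s) (het : Commute e t0) (heW : ∃ t ∈ K.W, ¬ Commute e t) {k : G}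
    (hk : k ∈ K.H) (hks : Commute k s) (hkk : k * k = 1) (hke : Commute k e) : k = 1 ∨ k = s := by
  obtain ⟨c, hc⟩ := K.exists_inv
  rcases K.cent_cases hc hes ht h0 het with h | h
  · obtain ⟨t, htW, hn⟩ := heW
    exact absurd (K.Z0_W h htW).symm hn
  obtain ⟨z, hz, rfl⟩ : ∃ z ∈ K.Z0, e = c * z := ⟨_, h, by group⟩
  obtain ⟨w, v, hP, hw, hv⟩ := K.mem_Sg_iff.2 ⟨hk, hks⟩
  obtain ⟨wz, vz, hPz, -⟩ := hz
  have hz' := K.pair.P_mul (K.pair.P_mul hPz hP) (K.pair.P_inv hPz)
  have h' := hc.coord hz'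
  rw [show wz + w + wz = w by rw [add_comm wz w, add_assoc, w4_add_self, add_zero],
    show vz + v + vz = v by rw [add_comm vz v, add_assoc, w4_add_self, add_zero],
    show c * (z * k * z⁻¹) * c⁻¹ = c * z * k * (c * z)⁻¹ by group, conj_eq_iff_commute.2 hke.symm] at h'
  obtain ⟨e1, e2⟩ := K.pair.P_unique h' hP
  obtain ⟨f1, f2⟩ := (K.pair.P_sq_one hP).1 hkk
  have h00 : w = 0 ∧ v = 0 := by
    rcases InP_invol w v hw hv f1 f2 with hL | hL
    exacts [rr_lines w v hL.1 hL.2 e1 e2, rr_lines' w v hL.1 hL.2 e1 e2]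
  obtain ⟨rfl, rfl⟩ := h00
  obtain ⟨b, a, rfl⟩ := K.pair.P_zero hP
  rcases zcases b with rfl | rfl
  · rcases zcases a with rfl | rfl
    · exact Or.inl (by simp [dd, pw_zero])
    · exact Or.inr (by simp [dd, pw_zero, pw_one])
  exfalso
  have hzd : Commute z (dd s u 1 a) := Pair.commute_dd (K.Z0_su h |> fun q => by simpa using q.1)
    (K.Z0_su h |> fun q => by simpa using q.2) 1 a
  have hcd : c * dd s u 1 a * c⁻¹ = dd s u 1 a := by
    calc c * dd s u 1 a * c⁻¹ = c * (z * dd s u 1 a * z⁻¹) * c⁻¹ := by rw [conj_eq_iff_commute.2 hzd]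
      _ = c * z * dd s u 1 a * (c * z)⁻¹ := by group
      _ = _ := conj_eq_iff_commute.2 hke.symm
  rw [dd, pw_one, show c * (u * pw s a) * c⁻¹ = c * u * c⁻¹ * (c * pw s a * c⁻¹) by group, hc.move,
    conj_eq_iff_commute.2 (commute_pw hc.comm a), mul_assoc, mul_left_cancel_iff, mul_eq_right] at hcd
  exact K.pair.left.ne_one hcd

/-- No element outside `W × H` centralizes an element of order seven of `H`. -/
theorem no_outer [Finite G] (L : Loc K) {t0 : G} (ht : t0 ∈ K.W) (h0 : P S s u π t0 w0 vd) {b : G}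
    (hbH : b ∈ K.H) (hb : orderOf b = 7) {d : G} (hdt : Commute d t0) (hdb : Commute d b) :
    ∀ t ∈ K.W, Commute d t := by
  classical
  haveI : Fintype G := Fintype.ofFinite G
  rcases K.cent_W_D L ht h0 hdt with ⟨t, htW, h, hh, rfl⟩ | ⟨c, hc, hdc⟩
  · exact fun t' ht' => (K.W_comm htW ht').mul_left (K.H_comm_W hh ht').symm
  exfalso
  obtain ⟨t1, ht1, hct1, hnc⟩ := K.inv_t1 hc ht h0
  have hd2 : ∀ t ∈ K.W, d * d * t * (d * d)⁻¹ = t := fun t htW => by
    rw [show d * d * t * (d * d)⁻¹ = d * (d * t * d⁻¹) * d⁻¹ by group, hdc t htW, hdc _ (K.inv_W hc htW),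
      K.inv_inv_W hc htW]
  obtain ⟨t, htW, j, hdd⟩ : ∃ t ∈ K.W, ∃ j : ℤ, d * d = t * b ^ j := by
    rcases K.cent_W_D L ht h0 (hdt.mul_left hdt) with ⟨t, htW, h, hh, e⟩ | ⟨c', hc', hdc'⟩
    · have hhb : Commute h b := by
        have := (K.H_comm_W hbH htW).inv_left.mul_left (hdb.mul_left hdb)
        rwa [e, inv_mul_cancel_left] at this
      obtain ⟨j, hj⟩ := mem_zpowers_iff.1 (K.H_cent_b L hbH hb hh hhb)
      exact ⟨t, htW, j, by rw [e, hj]⟩
    · exfalso
      obtain ⟨t', ht', -, hn⟩ := K.inv_t1 hc' ht h0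
      exact hn (conj_eq_iff_commute.1 ((hdc' t' ht').symm.trans (hd2 t' ht')))
  set e := d * (d * d) ^ 3 with he
  have he2 : e * e = t := by
    have hb7 : b ^ (7 : ℕ) = 1 := by rw [← hb, pow_orderOf_eq_one]
    have hc7 : Commute t (b ^ j) := (K.H_comm_W hbH htW).zpow_right j
    calc e * e = (d * d) ^ 7 := by
          rw [he, ← pow_two d, ← pow_mul, ← pow_mul, ← pow_succ', ← pow_add]
      _ = t ^ 7 * (b ^ j) ^ 7 := by rw [hdd, hc7.mul_pow]
      _ = t := by
          rw [← zpow_natCast (b ^ j), ← zpow_mul, mul_comm, zpow_mul, zpow_natCast, hb7, one_zpow, mul_one,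
            show 7 = 2 * 3 + 1 by rfl, pow_add, pow_mul, pow_two, K.W_sq htW, one_pow, one_mul, pow_one]
  have heW : ∀ t' ∈ K.W, e * t' * e⁻¹ = c * t' * c⁻¹ := fun t' ht' => by
    have hcomm : Commute ((d * d) ^ 3) t' := (conj_eq_iff_commute.1 (hd2 t' ht')).pow_left 3
    rw [he, show d * (d * d) ^ 3 * t' * (d * (d * d) ^ 3)⁻¹ =
      d * ((d * d) ^ 3 * t' * ((d * d) ^ 3)⁻¹) * d⁻¹ by group, conj_eq_iff_commute.2 hcomm, hdc t' ht']
  have het : Commute e t0 := hdt.mul_left ((hdt.mul_left hdt).pow_left 3)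
  have heb : Commute e b := hdb.mul_left ((hdb.mul_left hdb).pow_left 3)
  have hfix : t = 1 ∨ t = t0 := by
    refine K.inv_fixed hc ht h0 htW ?_
    rw [← heW t htW, ← he2]; group
  obtain ⟨E, hE2, hEt, hEb, hEn⟩ : ∃ E, E * E = 1 ∧ Commute E t0 ∧ Commute E b ∧ ¬ Commute E t1 := by
    have hne : ¬ Commute e t1 := fun h => hnc (conj_eq_iff_commute.1 (by
      rw [← heW t1 ht1, conj_eq_iff_commute.2 h]))
    rcases hfix with rfl | rfl
    · exact ⟨e, he2, het, heb, hne⟩
    · refine ⟨e * t1, ?_, het.mul_left (K.W_comm ht1 ht), heb.mul_left (K.H_comm_W hbH ht1), fun h => hne ?_⟩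
      · calc e * t1 * (e * t1) = (e * t1 * e⁻¹) * (e * e) * t1 := by group
          _ = t1 * t * t * t1 := by rw [heW t1 ht1, hct1, he2]
          _ = 1 := by rw [mul_assoc t1, K.W_sq ht, mul_one, K.W_sq ht1]
      · have := h.mul_left (Commute.refl t1)
        rwa [mul_assoc, K.W_sq ht1, mul_one] at this
  clear_value e
  clear he2 heW het heb hfix hdd hd2 hdc
  have hEH : ∀ h, h ∈ K.H ↔ E * h * E⁻¹ ∈ K.H := by
    have : E ∈ K.N t0 := by rw [← K.cent_eq_N L ht h0]; exact mem_centralizer_singleton_iff.2 hEt.eq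
    exact (K.mem_N.1 this).2
  have hEi : E⁻¹ = E := inv_eq_of_mul_eq_one_right hE2
  haveI : Fact (Nat.Prime 2) := ⟨Nat.prime_two⟩
  have hfixed : ∀ (p : G → Prop), (∀ x, p x → p (E * x * E⁻¹)) → ¬ 2 ∣ Nat.card {x : G // p x} →
      ∃ x, p x ∧ Commute E x := by
    intro p hp hcard
    let σ : {x : G // p x} → {x : G // p x} := fun x => ⟨E * x.1 * E⁻¹, hp _ x.2⟩
    have hσ : Function.Involutive σ := fun x => Subtype.ext (by
      show E * (E * x.1 * E⁻¹) * E⁻¹ = x.1
      rw [show E * (E * x.1 * E⁻¹) * E⁻¹ = (E * E) * x.1 * (E * E)⁻¹ by group, hE2]; group)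
    obtain ⟨x, hx⟩ := Equiv.Perm.exists_fixed_point_of_prime (p := 2) (n := 1) (σ := hσ.toPerm)
      (by rw [← Nat.card_eq_fintype_card]; exact hcard)
      (by rw [pow_one, pow_two]; exact Equiv.ext fun a => hσ a)
    exact ⟨x.1, x.2, conj_eq_iff_commute.1 (congrArg Subtype.val hx)⟩
  -- an involution of `H` centralized by `E`
  obtain ⟨j0, ⟨gj, hgj, rfl⟩, hEj⟩ := hfixed (fun x => ∃ n ∈ K.H, n * s * n⁻¹ = x) (fun x hx => by
    obtain ⟨n, hn, rfl⟩ := hx
    exact K.H_conj L ((hEH _).1 (mul_mem (mul_mem hn K.s_mem_H) (inv_mem hn)))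
      (sq_conj (sq_conj K.pair.left.sq_one))
      (fun h => K.pair.left.ne_one (conj_eq_one_iff.1 (conj_eq_one_iff.1 h))))
    (by rw [K.card_orbit_H L]; norm_num)
  -- an element of order three of the normalizer centralized by `E`
  set NH := K.H ⊓ normalizer (zpowers b : Set G) with hNH
  have hNH21 : Nat.card NH = 21 := K.card_NH L hbH hb
  obtain ⟨x0, hx0, hx0b⟩ : ∃ x0 ∈ NH, x0 ∉ zpowers b := by
    by_contra hne
    push Not at hne
    have := Nat.le_of_dvd (by rw [Nat.card_zpowers, hb]; norm_num) (card_dvd_of_le (show NH ≤ zpowers b from hne))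
    rw [hNH21, Nat.card_zpowers, hb] at this
    norm_num at this
  obtain ⟨x1, ⟨hx1, hx1b⟩, hEx⟩ := hfixed (fun x => x ∈ NH ∧ x * b * x⁻¹ = x0 * b * x0⁻¹) (fun x hx => by
      obtain ⟨⟨hxH, hxN⟩, hxe⟩ := hx
      have hEN : E ∈ normalizer (zpowers b : Set G) := mem_normalizer_iff.2 fun a => by
        constructor
        · intro ha
          obtain ⟨i, rfl⟩ := mem_zpowers_iff.1 ha
          rw [conj_eq_iff_commute.2 (hEb.zpow_right i)]
          exact zpow_mem (mem_zpowers b) i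
        · intro ha
          obtain ⟨i, hi⟩ := mem_zpowers_iff.1 ha
          have e : a = b ^ i := by
            rw [show a = E⁻¹ * (E * a * E⁻¹) * E by group, ← hi, mul_assoc, ← (hEb.zpow_right i).eq]; group
          rw [e]
          exact zpow_mem (mem_zpowers b) i
      refine ⟨⟨(hEH _).1 hxH, (normalizer (zpowers b : Set G)).mul_mem
        ((normalizer (zpowers b : Set G)).mul_mem hEN hxN) ((normalizer (zpowers b : Set G)).inv_mem hEN)⟩, ?_⟩
      have e1 : E⁻¹ * b * E = b := by rw [hEb.inv_left.eq]; group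
      have e2 : Commute E (x0 * b * x0⁻¹) := by
        obtain ⟨i, hi⟩ := mem_zpowers_iff.1 ((mem_normalizer_iff.1 hx0.2 b).1 (mem_zpowers b))
        rw [← hi]
        exact hEb.zpow_right i
      rw [show E * x * E⁻¹ * b * (E * x * E⁻¹)⁻¹ = E * (x * (E⁻¹ * b * E) * x⁻¹) * E⁻¹ by group, e1, hxe,
        conj_eq_iff_commute.2 e2]) (by
    have e : Nat.card {x : G // x ∈ NH ∧ x * b * x⁻¹ = x0 * b * x0⁻¹} = Nat.card (zpowers b) := by
      refine Nat.card_congr
        { toFun := fun x => ⟨x0⁻¹ * x.1, K.H_cent_b L hbH hb (mul_mem (inv_mem hx0.1) x.2.1.1)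
            (conj_eq_iff_commute.1 (by
              rw [show x0⁻¹ * x.1 * b * (x0⁻¹ * x.1)⁻¹ = x0⁻¹ * (x.1 * b * x.1⁻¹) * x0 by group, x.2.2]; group))⟩
          invFun := fun a => ⟨x0 * a.1, mul_mem hx0 ⟨zpowers_le.2 hbH a.2, le_normalizer a.2⟩, by
            obtain ⟨i, hi⟩ := mem_zpowers_iff.1 a.2
            rw [show x0 * a.1 * b * (x0 * a.1)⁻¹ = x0 * (a.1 * b * a.1⁻¹) * x0⁻¹ by group, ← hi,
              conj_eq_iff_commute.2 ((Commute.refl b).zpow_left i)]⟩
          left_inv := fun x => Subtype.ext (by simp)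
          right_inv := fun a => Subtype.ext (by simp) }
    rw [e, Nat.card_zpowers, hb]; norm_num)
  set J := K.H ⊓ centralizer ({E} : Set G) with hJ
  have hmemJ : ∀ {x}, x ∈ J ↔ x ∈ K.H ∧ Commute x E := fun {x} => by
    rw [hJ, Subgroup.mem_inf, mem_centralizer_singleton_iff]; rfl
  have hbJ : b ∈ J := hmemJ.2 ⟨hbH, hEb.symm⟩
  have h21J : 21 ∣ Nat.card J := by
    have hd : Nat.card (NH ⊓ J : Subgroup G) ∣ 21 := hNH21 ▸ card_dvd_of_le inf_le_left
    have h7 : 7 ∣ Nat.card (NH ⊓ J : Subgroup G) := by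
      have := card_dvd_of_le (show zpowers b ≤ NH ⊓ J from zpowers_le.2 ⟨⟨hbH, le_normalizer (mem_zpowers b)⟩, hbJ⟩)
      rwa [Nat.card_zpowers, hb] at this
    have hx1J : x1 ∈ (NH ⊓ J : Subgroup G) := ⟨hx1, hmemJ.2 ⟨hx1.1, hEx.symm⟩⟩
    have hne : Nat.card (NH ⊓ J : Subgroup G) ≠ 7 := fun e => by
      have heq := eq_of_le_of_card_ge (show zpowers b ≤ NH ⊓ J from
        zpowers_le.2 ⟨⟨hbH, le_normalizer (mem_zpowers b)⟩, hbJ⟩) (by rw [e, Nat.card_zpowers, hb])
      rw [← heq] at hx1J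
      obtain ⟨i, hi⟩ := mem_zpowers_iff.1 hx1J
      rw [← hi, conj_eq_iff_commute.2 ((Commute.refl b).zpow_left i)] at hx1b
      exact hx0b (K.H_cent_b L hbH hb hx0.1 (conj_eq_iff_commute.1 hx1b.symm))
    have hle := Nat.le_of_dvd (by norm_num) hd
    have h21 : Nat.card (NH ⊓ J : Subgroup G) = 21 := by
      exact (by decide : ∀ m ∈ Nat.divisors 21, 7 ∣ m → m ≠ 7 → m = 21) _
        (Nat.mem_divisors.2 ⟨hd, by norm_num⟩) h7 hne
    exact h21 ▸ card_dvd_of_le inf_le_right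
  have hj0H : gj * s * gj⁻¹ ∈ K.H := mul_mem (mul_mem hgj K.s_mem_H) (inv_mem hgj)
  have hone : ∀ {j k : G}, j ∈ J → j * j = 1 → j ≠ 1 → k ∈ J → k * k = 1 → Commute k j → k = 1 ∨ k = j := by
    intro j k hj hjj hj1 hk hkk hkj
    obtain ⟨g, hg, hgj'⟩ := K.H_conj L (hmemJ.1 hj).1 hjj hj1
    have hgW : ∀ t ∈ K.W, Commute g t := fun t ht => (K.H_comm_W hg ht).symm
    let φ := (MulAut.conj g⁻¹).toMonoidHom
    have hφ : ∀ x, φ x = g⁻¹ * x * g := fun x => by simp [φ]
    have hφs : φ j = s := by rw [hφ, ← hgj']; group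
    rcases K.swap_unique ht h0 (e := φ E) (by rw [← hφs]; exact (hmemJ.1 hj).2.symm.map φ)
      (by
        rw [show t0 = φ t0 by rw [hφ, (hgW t0 ht).inv_left.eq]; group]
        exact hEt.map φ)
      ⟨t1, ht1, fun h => hEn (by
        have := h.map (MulAut.conj g).toMonoidHom
        simp only [hφ, MulEquiv.toMonoidHom_eq_coe, MonoidHom.coe_coe, MulAut.conj_apply] at this
        rwa [show g * (g⁻¹ * E * g) * g⁻¹ = E by group, conj_eq_iff_commute.2 (hgW t1 ht1)] at this)⟩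
      (k := φ k) (by rw [hφ]; exact mul_mem (mul_mem (inv_mem hg) (hmemJ.1 hk).1) hg)
      (by rw [← hφs]; exact hkj.map φ) (by rw [← map_mul, hkk, map_one]) ((hmemJ.1 hk).2.map φ) with e | e
    · exact Or.inl (MulEquiv.injective (MulAut.conj g⁻¹) (e.trans (map_one φ).symm))
    · exact Or.inr (MulEquiv.injective (MulAut.conj g⁻¹) (e.trans hφs.symm))
  set j := gj * s * gj⁻¹ with hjdef
  clear_value j
  have hjJ : j ∈ J := hmemJ.2 ⟨hj0H, hEj.symm⟩
  have hjj : j * j = 1 := hjdef ▸ sq_conj K.pair.left.sq_one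
  have hj1 : j ≠ 1 := fun h => K.pair.left.ne_one (conj_eq_one_iff.1 (hjdef ▸ h))
  -- all involutions of `J` are conjugate
  have hconj : ∀ k ∈ J, k * k = 1 → k ≠ 1 → ∃ n ∈ J, n * j * n⁻¹ = k := by
    intro k hk hkk hk1
    obtain ⟨g, hg, e⟩ : ∃ g ∈ zpowers (k * j), g * j * g⁻¹ = k := by
      by_cases hodd : Odd (orderOf (k * j))
      · obtain ⟨m, hm⟩ := hodd
        have hr : j * (k * j) * j = (k * j)⁻¹ := by
          rw [mul_inv_rev, inv_eq_of_mul_eq_one_right hjj, inv_eq_of_mul_eq_one_right hkk, mul_assoc,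
            mul_assoc k j j, hjj, mul_one]
        refine ⟨(k * j) ^ (m + 1), pow_mem (mem_zpowers _) _, ?_⟩
        have hr' : ∀ n : ℕ, j * (k * j) ^ n * j = ((k * j) ^ n)⁻¹ := fun n => by
          induction n with
          | zero => simp [hjj]
          | succ n ih =>
            rw [pow_succ, show j * ((k * j) ^ n * (k * j)) * j = (j * (k * j) ^ n * j) * (j⁻¹ * (k * j) * j) by group,
              inv_eq_of_mul_eq_one_right hjj, ih, hr, ← mul_inv_rev, ← pow_succ', ← pow_succ]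
        calc (k * j) ^ (m + 1) * j * ((k * j) ^ (m + 1))⁻¹
            = (k * j) ^ (m + 1) * (k * j) ^ (m + 1) * j := by
              rw [← hr', show (k * j) ^ (m + 1) * j * (j * (k * j) ^ (m + 1) * j) =
                (k * j) ^ (m + 1) * (j * j) * (k * j) ^ (m + 1) * j by group, hjj, mul_one]
          _ = k := by
              rw [← pow_add, show m + 1 + (m + 1) = (2 * m + 1) + 1 by omega, ← hm, pow_add, pow_orderOf_eq_one,
                one_mul, pow_one, mul_assoc, hjj, mul_one]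
      · exfalso
        obtain ⟨m, hm⟩ := Nat.not_odd_iff_even.1 hodd
        have hkj : k * j ∈ J := mul_mem hk hjJ
        have hpos := orderOf_pos (k * j)
        obtain ⟨z, hz⟩ : ∃ z, (k * j) ^ m = z := ⟨_, rfl⟩
        have hzz : z * z = 1 := by rw [← hz, ← pow_add, ← hm, pow_orderOf_eq_one]
        have hz1 : z ≠ 1 := fun e => by
          have := orderOf_dvd_of_pow_eq_one (hz.trans e)
          have := Nat.le_of_dvd (by omega) this
          omega
        have hr : j * (k * j) * j⁻¹ = (k * j)⁻¹ := by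
          rw [mul_inv_rev, inv_eq_of_mul_eq_one_right hjj, inv_eq_of_mul_eq_one_right hkk, mul_assoc,
            mul_assoc k j j, hjj, mul_one]
        have hzj : Commute z j := (conj_eq_iff_commute.1 (by
          rw [← hz, ← conj_pow, hr, inv_pow, hz, inv_eq_of_mul_eq_one_right hzz])).symm
        have hrk : k * (k * j) * k⁻¹ = (k * j)⁻¹ := by
          rw [mul_inv_rev, inv_eq_of_mul_eq_one_right hjj, inv_eq_of_mul_eq_one_right hkk, ← mul_assoc, hkk,
            one_mul]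
        have hzk : Commute z k := (conj_eq_iff_commute.1 (by
          rw [← hz, ← conj_pow, hrk, inv_pow, hz, inv_eq_of_mul_eq_one_right hzz])).symm
        have hzJ : z ∈ J := hz ▸ pow_mem hkj m
        have e1 := (hone hjJ hjj hj1 hzJ hzz hzj).resolve_left hz1
        rw [e1] at hzk
        have e2 := (hone hjJ hjj hj1 hk hkk hzk.symm).resolve_left hk1
        rw [e2, hjj, orderOf_one] at hm
        omega
    exact ⟨g, zpowers_le.2 (mul_mem hk hjJ) hg, e⟩
  set Pj := J ⊓ centralizer ({j} : Set G) with hPj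
  have hPdvd : Nat.card Pj ∣ 64 := by
    have hle : Pj ≤ K.H ⊓ centralizer ({j} : Set G) := inf_le_inf_right _ inf_le_left
    have hcard : Nat.card (K.H ⊓ centralizer ({j} : Set G) : Subgroup G) = 64 := by
      have h := card_orbit_conj K.H j
      have e : Nat.card {x : G // ∃ n ∈ K.H, n * j * n⁻¹ = x} = 315 := by
        rw [← K.card_orbit_H L]
        refine Nat.card_congr (Equiv.subtypeEquivRight fun x => ⟨?_, ?_⟩)
        · rintro ⟨n, hn, rfl⟩
          exact ⟨n * gj, mul_mem hn hgj, by rw [hjdef]; group⟩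
        · rintro ⟨n, hn, rfl⟩
          exact ⟨n * gj⁻¹, mul_mem hn (inv_mem hgj), by rw [hjdef]; group⟩
      rw [e, K.card_H L] at h
      omega
    exact hcard ▸ card_dvd_of_le hle
  obtain ⟨a, ha, haP⟩ := (Nat.dvd_prime_pow Nat.prime_two).1 (show Nat.card Pj ∣ 2 ^ 6 from hPdvd)
  have hO := card_orbit_conj J j
  rw [← hPj, haP] at hO
  set I := Finset.univ.filter (fun x : G => ∃ n ∈ J, n * j * n⁻¹ = x) with hI
  rw [Nat.card_eq_fintype_card, Fintype.card_subtype, ← hI] at hO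
  have hmemI : ∀ {x}, x ∈ I → x ∈ J ∧ x * x = 1 ∧ x ≠ 1 := fun {x} hx => by
    obtain ⟨n, hn, rfl⟩ := (Finset.mem_filter.1 hx).2
    exact ⟨mul_mem (mul_mem hn hjJ) (inv_mem hn), sq_conj hjj, fun h => hj1 (conj_eq_one_iff.1 h)⟩
  have hjI : j ∈ I := Finset.mem_filter.2 ⟨Finset.mem_univ _, 1, one_mem _, by group⟩
  have hsemi := dvd_card_mul Pj (I.erase j) (c := 1) ?_ ?_
  rotate_left
  · intro x hx n hn
    obtain ⟨hxj, hxI⟩ := Finset.mem_erase.1 hx
    obtain ⟨m, hm, rfl⟩ := (Finset.mem_filter.1 hxI).2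
    refine Finset.mem_erase.2 ⟨fun e => hxj ?_, Finset.mem_filter.2 ⟨Finset.mem_univ _, n * m, mul_mem hn.1 hm, by group⟩⟩
    have hnj : Commute n j := mem_centralizer_singleton_iff.1 hn.2
    calc m * j * m⁻¹ = n⁻¹ * (n * (m * j * m⁻¹) * n⁻¹) * n := by group
      _ = j := by rw [e, hnj.inv_left.eq]; group
  · intro x hx
    obtain ⟨hxj, hxI⟩ := Finset.mem_erase.1 hx
    obtain ⟨hxJ, hxx, hx1'⟩ := hmemI hxI
    rw [Subgroup.card_eq_one]
    by_contra hne
    haveI : Nontrivial ↥(Pj ⊓ centralizer ({x} : Set G) : Subgroup G) := (Subgroup.nontrivial_iff_ne_bot _).2 hne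
    obtain ⟨z, hz⟩ := exists_prime_orderOf_dvd_card' 2
      (((IsPGroup.of_card (p := 2) haP).to_le (inf_le_left (b := centralizer ({x} : Set G)))).card_eq_or_dvd.resolve_left
        (Finite.one_lt_card_iff_nontrivial.2 inferInstance).ne')
    have hzz : (z : G) * z = 1 := by
      have := pow_orderOf_eq_one z
      rw [hz, pow_two] at this
      exact congrArg Subtype.val this
    have hz1 : (z : G) ≠ 1 := fun e => by rw [show z = 1 from Subtype.ext e, orderOf_one] at hz; omega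
    have e1 := (hone hjJ hjj hj1 z.2.1.1 hzz (mem_centralizer_singleton_iff.1 z.2.1.2)).resolve_left hz1
    have hzx : Commute (z : G) x := mem_centralizer_singleton_iff.1 z.2.2
    rw [e1] at hzx
    exact hxj ((hone hjJ hjj hj1 hxJ hxx hzx.symm).resolve_left hx1')
  rw [haP, mul_one, Finset.card_erase_of_mem hjI] at hsemi
  have hJdvd : Nat.card J ∣ 20160 := K.card_H L ▸ card_dvd_of_le inf_le_left
  obtain ⟨n, hn⟩ := h21J
  rw [hn] at hJdvd hO
  have hn960 : n ∣ 960 := Nat.dvd_of_mul_dvd_mul_left (show 0 < 21 by norm_num) (by simpa using hJdvd)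
  have hn7 : n % 7 = 1 := by
    obtain ⟨-, hmod, -⟩ := norm_seven J hbJ hb (by
      intro h49
      have := h49.trans (K.card_H L ▸ card_dvd_of_le (inf_le_left : J ≤ K.H))
      norm_num at this)
    have hd : Nat.card (J ⊓ normalizer (zpowers b : Set G) : Subgroup G) = 21 := by
      refine Nat.dvd_antisymm (hNH21 ▸ card_dvd_of_le (le_inf (inf_le_left.trans inf_le_left) inf_le_right)) ?_
      have hle : NH ⊓ J ≤ J ⊓ normalizer (zpowers b : Set G) := le_inf inf_le_right (inf_le_left.trans inf_le_right)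
      refine dvd_trans ?_ (card_dvd_of_le hle)
      have hx1J : x1 ∈ (NH ⊓ J : Subgroup G) := ⟨hx1, hmemJ.2 ⟨hx1.1, hEx.symm⟩⟩
      have hle' : NH ≤ NH ⊓ J := by
        have hlo : zpowers b ≤ NH ⊓ J := zpowers_le.2 ⟨⟨hbH, le_normalizer (mem_zpowers b)⟩, hbJ⟩
        have h7 : 7 ∣ Nat.card (NH ⊓ J : Subgroup G) := by
          have := card_dvd_of_le hlo
          rwa [Nat.card_zpowers, hb] at this
        have hd : Nat.card (NH ⊓ J : Subgroup G) ∣ 21 := hNH21 ▸ card_dvd_of_le inf_le_left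
        have hne : Nat.card (NH ⊓ J : Subgroup G) ≠ 7 := fun e => by
          have heq := eq_of_le_of_card_ge hlo (by rw [e, Nat.card_zpowers, hb])
          rw [← heq] at hx1J
          obtain ⟨i, hi⟩ := mem_zpowers_iff.1 hx1J
          rw [← hi, conj_eq_iff_commute.2 ((Commute.refl b).zpow_left i)] at hx1b
          exact hx0b (K.H_cent_b L hbH hb hx0.1 (conj_eq_iff_commute.1 hx1b.symm))
        have hle := Nat.le_of_dvd (by norm_num) hd
        rw [eq_of_le_of_card_ge (inf_le_left : NH ⊓ J ≤ NH) (by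
          rw [hNH21, (by decide : ∀ m ∈ Nat.divisors 21, 7 ∣ m → m ≠ 7 → m = 21) _
            (Nat.mem_divisors.2 ⟨hd, by norm_num⟩) h7 hne])]
      rw [← hNH21]
      exact card_dvd_of_le hle'
    rw [hd, hn, Nat.mul_div_cancel_left _ (by norm_num)] at hmod
    exact hmod
  have hodd : I.card % 2 = 1 := by
    obtain ⟨q, hq⟩ := hsemi
    have hpos : 0 < I.card := Finset.card_pos.2 ⟨j, hjI⟩
    have h2 : 2 ∣ Nat.card Pj := by
      have := orderOf_dvd_natCard (⟨j, hjJ, mem_centralizer_singleton_iff.2 rfl⟩ : Pj)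
      rwa [← Subgroup.orderOf_coe, CfsgLib.Invol.orderOf_eq_two hj1 hjj] at this
    obtain ⟨r, hr⟩ := haP ▸ h2
    rw [hr, mul_assoc] at hq
    omega
  have ha1 : 1 ≤ a := by
    rcases Nat.eq_zero_or_pos a with rfl | h
    · have := orderOf_dvd_natCard (⟨j, hjJ, mem_centralizer_singleton_iff.2 rfl⟩ : Pj)
      rw [← Subgroup.orderOf_coe, CfsgLib.Invol.orderOf_eq_two hj1 hjj, haP] at this
      norm_num at this
    · exact h
  have ha5 : a ≤ 5 := by
    by_contra hc
    have ha6 : a = 6 := by omega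
    -- the whole Sylow subgroup at `s` would be centralized
    let ψ := (MulAut.conj gj).toMonoidHom
    have hPS : Pj = K.Sg.map ψ := by
      refine (eq_of_le_of_card_ge (fun x hx => ?_) ?_)
      · refine ⟨gj⁻¹ * x * gj, K.mem_Sg_iff.2 ⟨mul_mem (mul_mem (inv_mem hgj) (hmemJ.1 hx.1).1) hgj, ?_⟩, by simp [ψ]; group⟩
        have := (mem_centralizer_singleton_iff.1 hx.2 : x * j = j * x)
        show gj⁻¹ * x * gj * s = s * (gj⁻¹ * x * gj)
        calc gj⁻¹ * x * gj * s = gj⁻¹ * (x * j) * gj := by rw [hjdef]; group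
          _ = gj⁻¹ * (j * x) * gj := by rw [this]
          _ = _ := by rw [hjdef]; group
      · rw [haP, ha6, ← Nat.card_congr (K.Sg.equivMapOfInjective ψ (MulEquiv.injective _)).toEquiv, K.card_Sg]
        norm_num
    have hu : ψ u ∈ Pj := hPS ▸ ⟨u, K.Eg_le true (K.Eg_inf' (by simpa [dd, pw_zero, pw_one] using K.pair.dd_P 1 0) true), rfl⟩
    have huu : ψ u * ψ u = 1 := by rw [← map_mul, K.pair.right.sq_one, map_one]
    rcases hone hjJ hjj hj1 hu.1 huu (mem_centralizer_singleton_iff.1 hu.2) with e | e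
    · exact K.pair.right.ne_one (MulEquiv.injective (MulAut.conj gj) (e.trans (map_one ψ).symm))
    · refine K.pair.ne (MulEquiv.injective (MulAut.conj gj) ?_)
      exact e.trans hjdef
  refine order_cases n (Nat.mem_divisors.2 ⟨hn960, by norm_num⟩) hn7 a (by interval_cases a <;> simp) ?_ ?_ ?_
  · exact (Nat.Coprime.dvd_mul_left (k := 2 ^ a) (m := 21) (n := n) (Nat.Coprime.pow_left a (by decide))).1
      ⟨I.card, by rw [← hO]; ring⟩
  · rw [← hO, Nat.mul_div_cancel _ (pow_pos (by norm_num) a), hodd]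
  · rw [← hO, Nat.mul_div_cancel _ (pow_pos (by norm_num) a)]
    obtain ⟨q, hq⟩ := hsemi
    have hpos : 0 < I.card := Finset.card_pos.2 ⟨j, hjI⟩
    rw [show I.card = 1 + 2 ^ a * q by omega, Nat.add_mul_mod_self_left, Nat.mod_eq_of_lt
      (Nat.one_lt_two_pow (by omega))]

end Conf

end CfsgLib.SuzTwoB
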