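import Cfsg.Agent.Lib.SuzTwoB.Outer
import Cfsg.Agent.Lib.SuzTwoB.LocFacts
import Mathlib.GroupTheory.Transfer

/-!
# The centralizer and normalizer of an element of order seven
-/

set_option autoImplicit false
set_option linter.style.haveILetI false
set_option synthInstance.maxSize 20000
set_option maxRecDepth 10000

namespace CfsgLib.SuzTwoB

open CfsgLib.Classical.Quad CfsgLib.SuzType Subgroup

universe u

variable {G : Type u} [Group G]

theorem mem_normalizer_of [Finite G] {b x : G} (h : x * b * x⁻¹ ∈ zpowers b) :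
    x ∈ normalizer (zpowers b : Set G) := by
  have e : (zpowers b).map (MulAut.conj x).toMonoidHom = zpowers b := by
    refine eq_of_le_of_card_ge ?_ ?_
    · rintro _ ⟨a, ha, rfl⟩
      obtain ⟨i, rfl⟩ := mem_zpowers_iff.1 ha
      show x * b ^ i * x⁻¹ ∈ zpowers b
      rw [← conj_zpow]
      exact zpow_mem h i
    · rw [← Nat.card_congr ((zpowers b).equivMapOfInjective _ (MulEquiv.injective _)).toEquiv]
  refine mem_normalizer_iff.2 fun a => ⟨fun ha => e ▸ ⟨a, ha, by simp⟩, fun ha => ?_⟩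
  rw [← e] at ha
  obtain ⟨c, hc, hca⟩ := ha
  have : c = a := mul_left_cancel (mul_right_cancel (show x * c * x⁻¹ = x * a * x⁻¹ by simpa using hca))
  exact this ▸ hc

theorem pow_card_mem {O : Subgroup G} {a : G} (ha : a ∈ O) : a ^ Nat.card O = 1 :=
  (SubmonoidClass.coe_pow (⟨a, ha⟩ : O) _).symm.trans (congrArg Subtype.val (pow_card_eq_one' (x := (⟨a, ha⟩ : O))))

theorem coprime_trivial {a : G} {m n : ℕ} (hm : a ^ m = 1) (hn : a ^ n = 1) (h : Nat.Coprime m n) : a = 1 := by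
  rw [← orderOf_eq_one_iff]
  exact Nat.eq_one_of_dvd_coprimes h (orderOf_dvd_of_pow_eq_one hm) (orderOf_dvd_of_pow_eq_one hn)

/-- Normal complement of an abelian Sylow subgroup, inside a subgroup. -/
theorem exists_complement [Finite G] {p : ℕ} [Fact p.Prime] (M Z : Subgroup G) (hZM : Z ≤ M) (hZ : IsPGroup p Z)
    (hN : ∀ x ∈ M, (∀ a ∈ Z, x * a * x⁻¹ ∈ Z) → (∃ k, x ^ p ^ k = 1) → x ∈ Z)
    (hC : ∀ x ∈ M, (∀ a ∈ Z, x * a * x⁻¹ ∈ Z) → ∀ a ∈ Z, Commute x a) :
    ∃ O : Subgroup G, O ≤ M ∧ Nat.card M = Nat.card O * Nat.card Z ∧ ¬ p ∣ Nat.card O ∧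
      (∀ a ∈ M, ∀ k : ℕ, a ^ k = 1 → Nat.Coprime k p → a ∈ O) ∧ ∀ m ∈ M, ∀ a ∈ O, m * a * m⁻¹ ∈ O := by
  obtain ⟨P, hP⟩ := (hZ.of_equiv (subgroupOfEquivOfLe hZM).symm).exists_le_sylow
  have hPZ : (P : Subgroup M) = Z.subgroupOf M := by
    by_contra hne
    have hlt : (Z.subgroupOf M).subgroupOf (P : Subgroup M) < ⊤ := lt_top_iff_ne_top.2 fun h =>
      hne (le_antisymm (subgroupOf_eq_top.1 h) hP)
    haveI := P.isPGroup'.isNilpotent
    obtain ⟨n, hnN, hnZ⟩ := SetLike.exists_of_lt (normalizerCondition_of_isNilpotent (G := (P : Subgroup M)) _ hlt)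
    refine hnZ (mem_subgroupOf.2 (mem_subgroupOf.2 (hN _ (n : M).2 (fun a ha => ?_) ?_)))
    · have := (mem_normalizer_iff.1 hnN ⟨⟨a, hZM ha⟩, hP (mem_subgroupOf.2 ha)⟩).1
        (mem_subgroupOf.2 (mem_subgroupOf.2 ha))
      exact mem_subgroupOf.1 (mem_subgroupOf.1 this)
    · obtain ⟨k, hk⟩ := P.isPGroup' n
      exact ⟨k, congrArg (fun z : (P : Subgroup M) => ((z : M) : G)) hk⟩
  have hPc : Nat.card (P : Subgroup M) = Nat.card Z := by
    rw [hPZ, Nat.card_congr (subgroupOfEquivOfLe hZM).toEquiv]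
  have hNP : normalizer ((P : Subgroup M) : Set M) ≤ centralizer ((P : Subgroup M) : Set M) := by
    intro x hx
    rw [hPZ] at hx ⊢
    refine mem_centralizer_iff.2 fun a ha => Subtype.ext ?_
    refine (hC x x.2 (fun c hc => ?_) a (mem_subgroupOf.1 ha)).symm.eq
    exact mem_subgroupOf.1 ((mem_normalizer_iff.1 hx ⟨c, hZM hc⟩).1 (mem_subgroupOf.2 hc))
  haveI : (P : Subgroup M).FiniteIndex := ⟨index_ne_zero_of_finite⟩
  have hi : Function.Injective M.subtype := M.subtype_injective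
  refine ⟨(MonoidHom.transferSylow P hNP).ker.map M.subtype, map_subtype_le _, ?_, ?_, fun a ha k hk hkp => ?_,
    fun m hm a ha => ?_⟩
  · rw [card_map_of_injective hi, ← hPc]
    exact (MonoidHom.ker_transferSylow_isComplement' P hNP).card_mul.symm
  · rw [card_map_of_injective hi]
    exact MonoidHom.not_dvd_card_ker_transferSylow P hNP
  · refine ⟨⟨a, ha⟩, ?_, rfl⟩
    rw [SetLike.mem_coe, MonoidHom.mem_ker]
    obtain ⟨r, hr⟩ := P.isPGroup' (MonoidHom.transferSylow P hNP ⟨a, ha⟩)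
    refine coprime_trivial ?_ hr (Nat.Coprime.pow_right r hkp)
    rw [← map_pow, show (⟨a, ha⟩ : M) ^ k = 1 from Subtype.ext hk, map_one]
  · obtain ⟨z, hz, rfl⟩ := ha
    refine ⟨⟨m, hm⟩ * z * ⟨m, hm⟩⁻¹, ?_, rfl⟩
    rw [SetLike.mem_coe, MonoidHom.mem_ker] at hz ⊢
    rw [map_mul, map_mul, hz, mul_one, ← map_mul, mul_inv_cancel, map_one]

/-- An involution acting with fixed points in a central odd subgroup inverts modulo it. -/
theorem invert_mod [Finite G] {O B : Subgroup G} (hBO : B ≤ O) (hodd : ¬ 2 ∣ Nat.card O)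
    (hB : ∀ z ∈ B, ∀ a ∈ O, Commute z a) {t : G} (htt : t * t = 1) (hOt : ∀ a ∈ O, t * a * t ∈ O)
    (hBt : ∀ z ∈ B, Commute z t) (hfix : ∀ a ∈ O, Commute a t → a ∈ B) {a : G} (ha : a ∈ O) :
    a * (t * a * t) ∈ B := by
  have hti : t⁻¹ = t := inv_eq_of_mul_eq_one_right htt
  obtain ⟨k, hk⟩ := Nat.not_even_iff_odd.1 (fun h => hodd (even_iff_two_dvd.1 h))
  -- square roots
  have hroot : ∀ d ∈ O, d = (d ^ (k + 1)) * d ^ (k + 1) := fun d hd => by
    have h2 := pow_card_mem hd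
    rw [← pow_add, show k + 1 + (k + 1) = Nat.card O + 1 by omega, pow_succ, h2, one_mul]
  set d := a⁻¹ * (t * a * t) with hd
  have hdO : d ∈ O := mul_mem (inv_mem ha) (hOt a ha)
  set e := d ^ (k + 1) with he
  have hdi : t * d * t = d⁻¹ := by
    rw [hd, mul_inv_rev, inv_inv, mul_inv_rev, mul_inv_rev, hti]
    calc t * (a⁻¹ * (t * a * t)) * t = t * a⁻¹ * t * (a * (t * t)) := by group
      _ = t * (a⁻¹ * t) * a := by rw [htt, mul_one]; group
  have hei : t * e * t = e⁻¹ := by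
    have h := conj_pow (i := k + 1) (a := t) (b := d)
    rw [hti, hdi, inv_pow] at h
    exact h.symm
  have hde : d = e * e := hroot d hdO
  have hc : Commute (a * e) t := by
    refine (conj_eq_iff_commute.1 ?_).symm
    rw [hti]
    calc t * (a * e) * t = (t * a * t) * (t⁻¹ * e * t) := by group
      _ = (a * d) * e⁻¹ := by rw [hti, hei, hd]; group
      _ = a * e := by rw [hde]; group
  have hb := hfix _ (mul_mem ha (pow_mem hdO _)) hc
  have : a * (t * a * t) = a * e * (a * e) := by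
    calc a * (t * a * t) = a * (a * d) := by rw [hd]; group
      _ = a * (a * e) * e := by rw [hde]; group
      _ = a * e * (a * e) := by
        rw [show a * e * (a * e) = a * (e * (a * e)) by group]
        rw [show a * (a * e) * e = a * ((a * e) * e) by group]
        congr 1
        have hz := hB _ hb e (pow_mem hdO _)
        exact hz.eq
  rw [this]
  exact mul_mem hb hb

theorem eq_of_three [Finite G] {O B : Subgroup G} (hBO : B ≤ O) (hodd : ¬ 2 ∣ Nat.card O)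
    (hB : ∀ z ∈ B, ∀ a ∈ O, Commute z a) {t1 t2 : G} (h1 : t1 * t1 = 1) (h2 : t2 * t2 = 1) (h12 : Commute t1 t2)
    (hO1 : ∀ a ∈ O, t1 * a * t1 ∈ O) (hO2 : ∀ a ∈ O, t2 * a * t2 ∈ O)
    (hB1 : ∀ z ∈ B, Commute z t1) (hB2 : ∀ z ∈ B, Commute z t2)
    (hf1 : ∀ a ∈ O, Commute a t1 → a ∈ B) (hf2 : ∀ a ∈ O, Commute a t2 → a ∈ B)
    (hf3 : ∀ a ∈ O, Commute a (t1 * t2) → a ∈ B) : O = B := by
  refine le_antisymm (fun a ha => ?_) hBO
  have h33 : t1 * t2 * (t1 * t2) = 1 := by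
    rw [show t1 * t2 * (t1 * t2) = t1 * (t2 * t1) * t2 by group, ← h12.eq, ← mul_assoc, h1, one_mul, h2]
  have e1 := invert_mod hBO hodd hB h1 hO1 hB1 hf1 ha
  have e2 := invert_mod hBO hodd hB h2 hO2 hB2 hf2 (hO1 a ha)
  have e3 := invert_mod hBO hodd hB h33 (fun c hc => by
    have := hO1 _ (hO2 c hc)
    rwa [show t1 * (t2 * c * t2) * t1 = t1 * t2 * c * (t2 * t1) by group, ← h12.eq] at this)
    (fun z hz => (hB1 z hz).mul_right (hB2 z hz)) hf3 ha
  rw [show t2 * (t1 * a * t1) * t2 = t2 * t1 * a * (t1 * t2) by group, ← h12.eq] at e2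
  obtain ⟨p, hp, hp'⟩ : ∃ p ∈ B, t1 * a * t1 = a⁻¹ * p := ⟨_, e1, by group⟩
  obtain ⟨r, hr, hr'⟩ : ∃ r ∈ B, t1 * t2 * a * (t1 * t2) = a⁻¹ * r := ⟨_, e3, by group⟩
  rw [hr', hp', show a⁻¹ * p * (a⁻¹ * r) = a⁻¹ * (p * a⁻¹) * r by group, (hB p hp _ (inv_mem ha)).eq,
    show a⁻¹ * (a⁻¹ * p) * r = a⁻¹ * a⁻¹ * (p * r) by group] at e2
  have e5 : a * a ∈ B := by
    have := B.inv_mem (B.mul_mem e2 (B.inv_mem (B.mul_mem hp hr)))
    rwa [mul_inv_cancel_right, mul_inv_rev, inv_inv] at this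
  obtain ⟨k, hk⟩ := Nat.not_even_iff_odd.1 (fun h => hodd (even_iff_two_dvd.1 h))
  have h2' := pow_card_mem ha
  have : a = (a * a) ^ (k + 1) := by
    rw [← pow_two, ← pow_mul, show 2 * (k + 1) = Nat.card O + 1 by omega, pow_succ, h2', one_mul]
  rw [this]
  exact pow_mem e5 _

namespace Conf

variable {S : Sys G} {s u y : G} {π π' : G → V6} (K : Conf S s u y π π')
include K

theorem H_comm_y {h : G} (hh : h ∈ K.H) : Commute h y := (K.mem_H.1 hh).2

theorem card_cy_b [Finite G] (L : Loc K) {b : G} (hbH : b ∈ K.H) (hb : orderOf b = 7) :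
    Nat.card (centralizer ({y} : Set G) ⊓ centralizer ({b} : Set G) : Subgroup G) = 21 := by
  have hby : Commute b y := K.H_comm_y hbH
  have hmem : ∀ p : zpowers y × zpowers b,
      (p.1 : G) * p.2 ∈ (centralizer ({y} : Set G) ⊓ centralizer ({b} : Set G) : Subgroup G) := by
    rintro ⟨⟨a, ha⟩, ⟨c, hc⟩⟩
    obtain ⟨i, rfl⟩ := mem_zpowers_iff.1 ha
    obtain ⟨j, rfl⟩ := mem_zpowers_iff.1 hc
    exact ⟨mem_centralizer_singleton_iff.2 (((Commute.refl y).zpow_left i).mul_left (hby.zpow_left j)).eq,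
      mem_centralizer_singleton_iff.2 ((hby.symm.zpow_left i).mul_left ((Commute.refl b).zpow_left j)).eq⟩
  have hb' : Function.Bijective fun p => (⟨_, hmem p⟩ :
      (centralizer ({y} : Set G) ⊓ centralizer ({b} : Set G) : Subgroup G)) := by
    constructor
    · rintro ⟨⟨a, ha⟩, ⟨c, hc⟩⟩ ⟨⟨a', ha'⟩, ⟨c', hc'⟩⟩ h
      have h' : a * c = a' * c' := congrArg
        (fun z : (centralizer ({y} : Set G) ⊓ centralizer ({b} : Set G) : Subgroup G) => (z : G)) h
      have e : a'⁻¹ * a = c' * c⁻¹ := by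
        calc a'⁻¹ * a = a'⁻¹ * (a * c) * c⁻¹ := by group
          _ = c' * c⁻¹ := by rw [h']; group
      have e1 : a'⁻¹ * a = 1 := by
        refine coprime_trivial (m := 3) (n := 7) ?_ ?_ (by norm_num)
        · obtain ⟨i, hi⟩ := mem_zpowers_iff.1 ((zpowers y).mul_mem ((zpowers y).inv_mem ha') ha)
          rw [← hi, ← zpow_natCast, ← zpow_mul, mul_comm, zpow_mul, zpow_natCast, K.cube, one_zpow]
        · rw [e]
          obtain ⟨i, hi⟩ := mem_zpowers_iff.1 ((zpowers b).mul_mem hc' ((zpowers b).inv_mem hc))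
          rw [← hi, ← zpow_natCast, ← zpow_mul, mul_comm, zpow_mul, zpow_natCast, ← hb, pow_orderOf_eq_one, one_zpow]
      obtain rfl : a' = a := inv_mul_eq_one.1 e1
      obtain rfl : c = c' := mul_left_cancel h'
      rfl
    · rintro ⟨g, hg⟩
      obtain ⟨i, hi⟩ := L.seven b g hby hb (mem_centralizer_singleton_iff.1 hg.1)
        (mem_centralizer_singleton_iff.1 hg.2)
      refine ⟨⟨⟨(y ^ i)⁻¹, inv_mem (pow_mem (mem_zpowers y) i)⟩, ⟨g * y ^ i, hi⟩⟩, Subtype.ext ?_⟩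
      show (y ^ i)⁻¹ * (g * y ^ i) = g
      have hgy : Commute g y := mem_centralizer_singleton_iff.1 hg.1
      rw [(hgy.pow_right i).eq]; group
  rw [← Nat.card_eq_of_bijective _ hb', Nat.card_prod, Nat.card_zpowers, Nat.card_zpowers, hb,
    orderOf_eq_prime (p := 3) K.cube K.y_ne]

/-- No element centralizing `b` inverts `y`. -/
theorem no_invert [Finite G] (L : Loc K) (hcy : Nat.card (centralizer ({y} : Set G)) = 9797760) {b : G}
    (hbH : b ∈ K.H) (hb : orderOf b = 7) {n : G} (hnb : Commute n b) (hny : n * y * n⁻¹ = y⁻¹) : False := by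
  obtain ⟨t0, ht, h0⟩ := K.exists_t0
  obtain ⟨c, hc⟩ := K.exists_inv
  obtain ⟨t1, ht1, -, hnc⟩ := K.inv_t1 hc ht h0
  have hcy' : c⁻¹ * y⁻¹ * c = y := by rw [← hc.inv]; group
  have hgy : Commute (c⁻¹ * n) y := conj_eq_iff_commute.1 (by
    rw [show c⁻¹ * n * y * (c⁻¹ * n)⁻¹ = c⁻¹ * (n * y * n⁻¹) * c by group, hny, hcy'])
  have hbc : c⁻¹ * b * c ∈ K.H := (K.inv_H hc hbH).2
  have hbc7 : orderOf (c⁻¹ * b * c) = 7 := by
    rw [show c⁻¹ * b * c = (MulAut.conj c⁻¹) b by simp]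
    rw [MulEquiv.orderOf_eq, hb]
  obtain ⟨h, hh, hhb⟩ := (norm_seven K.H hbH hb (by rw [K.card_H L]; norm_num)).2.2 _ hbc hbc7
  set A := centralizer ({y} : Set G) with hA
  have hbA : b ∈ A := mem_centralizer_singleton_iff.2 (K.H_comm_y hbH).eq
  set M1 := A ⊓ normalizer (zpowers b : Set G) with hM1
  have hM63 : Nat.card M1 = 63 := by
    obtain ⟨⟨o, ho, hN⟩, hmod, -⟩ := norm_seven A hbA hb (by rw [hcy]; norm_num)
    rw [K.card_cy_b L hbH hb] at hN
    rw [← hM1] at hN hmod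
    rw [hN, hcy] at hmod
    rw [hN]
    interval_cases o <;> first | rfl | norm_num at hmod
  set NH := K.H ⊓ normalizer (zpowers b : Set G) with hNH
  have hmem : ∀ p : zpowers y × NH, (p.1 : G) * p.2 ∈ M1 := by
    rintro ⟨⟨a, ha⟩, ⟨k, hk⟩⟩
    obtain ⟨i, rfl⟩ := mem_zpowers_iff.1 ha
    refine ⟨mul_mem (zpow_mem (mem_centralizer_singleton_iff.2 rfl) i)
      (mem_centralizer_singleton_iff.2 (K.H_comm_y hk.1).eq),
      (normalizer (zpowers b : Set G)).mul_mem (mem_normalizer_of ?_) hk.2⟩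
    rw [conj_eq_iff_commute.2 ((K.H_comm_y hbH).symm.zpow_left i)]
    exact mem_zpowers b
  have hinj : Function.Injective fun p => (⟨_, hmem p⟩ : M1) := by
    rintro ⟨⟨a, ha⟩, ⟨k, hk⟩⟩ ⟨⟨a', ha'⟩, ⟨k', hk'⟩⟩ h
    have h' : a * k = a' * k' := congrArg (fun z : M1 => (z : G)) h
    have e : a'⁻¹ * a = k' * k⁻¹ := by
      calc a'⁻¹ * a = a'⁻¹ * (a * k) * k⁻¹ := by group
        _ = k' * k⁻¹ := by rw [h']; group
    have hz := (zpowers y).mul_mem ((zpowers y).inv_mem ha') ha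
    rw [← mem_powers_iff_mem_zpowers] at hz
    obtain ⟨i, hi : y ^ i = a'⁻¹ * a⟩ := hz
    have e1 : a'⁻¹ * a = 1 := by
      rw [← hi]
      exact K.y_pow_H (by rw [hi, e]; exact mul_mem hk'.1 (inv_mem hk.1))
    obtain rfl : a' = a := inv_mul_eq_one.1 e1
    obtain rfl : k = k' := mul_left_cancel h'
    rfl
  have hbij : Function.Bijective fun p => (⟨_, hmem p⟩ : M1) :=
    (Nat.bijective_iff_injective_and_card _).2 ⟨hinj, by
      rw [Nat.card_prod, Nat.card_zpowers, orderOf_eq_prime (p := 3) K.cube K.y_ne, K.card_NH L hbH hb, hM63]⟩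
  have hm : h * (c⁻¹ * n) ∈ M1 := by
    refine ⟨mem_centralizer_singleton_iff.2 ((K.H_comm_y hh).mul_left hgy).eq, mem_normalizer_of ?_⟩
    rw [show h * (c⁻¹ * n) * b * (h * (c⁻¹ * n))⁻¹ = h * (c⁻¹ * (n * b * n⁻¹) * c) * h⁻¹ by group,
      conj_eq_iff_commute.2 hnb]
    exact hhb
  obtain ⟨⟨⟨a, ha⟩, ⟨k, hk⟩⟩, hak⟩ := hbij.2 ⟨_, hm⟩
  have hak' : a * k = h * (c⁻¹ * n) := congrArg (fun z : M1 => (z : G)) hak
  obtain ⟨i, rfl⟩ := mem_zpowers_iff.1 ha
  have hca : c * y ^ i = y ^ (-i) * c := by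
    rw [← mul_inv_eq_iff_eq_mul, ← conj_zpow, hc.inv, inv_zpow']
  have hn' : c * (h⁻¹ * k) = y ^ i * n := by
    have e : n = c * (h⁻¹ * y ^ i * k) := by rw [show h⁻¹ * y ^ i * k = h⁻¹ * (y ^ i * k) by group, hak']; group
    rw [e, ((K.H_comm_y hh).inv_left.zpow_right i).eq, show y ^ i * (c * (y ^ i * h⁻¹ * k)) =
      y ^ i * (c * y ^ i) * (h⁻¹ * k) by group, hca]
    group
  have hhk : h⁻¹ * k ∈ K.H := mul_mem (inv_mem hh) hk.1
  have hc0 : Commute c t0 := conj_eq_iff_commute.1 (K.inv_t0 hc ht h0)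
  have hcomm := K.no_outer L ht h0 hbH hb (d := c * (h⁻¹ * k)) (hc0.mul_left (K.H_comm_W hhk ht).symm)
    (by rw [hn']; exact ((K.H_comm_y hbH).symm.zpow_left i).mul_left hnb) t1 ht1
  refine hnc ?_
  have := hcomm.mul_left (K.H_comm_W hhk ht1).symm.inv_left
  rwa [mul_inv_cancel_right] at this

theorem t0_ne {t0 : G} (h0 : P S s u π t0 w0 vd) : t0 ≠ 1 := fun e => by
  rw [e] at h0
  exact absurd (K.pair.P_unique h0 (Pair.dd_zero (s := s) (u := u) ▸ K.pair.dd_P 0 0)).1 (by decide)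

/-- An element of the centralizer of `b` normalizing `y` centralizes it. -/
theorem comm_of_norm [Finite G] (L : Loc K) (hcy : Nat.card (centralizer ({y} : Set G)) = 9797760) {b : G}
    (hbH : b ∈ K.H) (hb : orderOf b = 7) {x : G} (hxb : Commute x b) (hx : x * y * x⁻¹ ∈ zpowers y) :
    Commute x y := by
  rw [← mem_powers_iff_mem_zpowers] at hx
  obtain ⟨i, hi : y ^ i = x * y * x⁻¹⟩ := hx
  rcases K.y_pow_cases i with e | e | e <;> rw [e] at hi
  · exact absurd (conj_eq_one_iff.1 hi.symm) K.y_ne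
  · exact conj_eq_iff_commute.1 hi.symm
  · exfalso
    refine K.no_invert L hcy hbH hb hxb ?_
    rw [← hi]
    exact eq_inv_of_mul_eq_one_left (by rw [← pow_succ, K.cube])

theorem W_fixed [Finite G] {t0 : G} (ht : t0 ∈ K.W) (h0 : P S s u π t0 w0 vd) {w : G} (hw : w ∈ K.W)
    (hw1 : w ≠ 1) : ∃ e, Commute e y ∧ (∀ t, t ∈ K.W → e * t * e⁻¹ ∈ K.W) ∧ e * t0 * e⁻¹ = w ∧
      e ∈ zpowers y := by
  rcases K.W_cases ht h0 hw with rfl | rfl | rfl | rfl
  · exact absurd rfl hw1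
  · exact ⟨1, Commute.one_left y, fun t ht => by simpa using ht, by group, one_mem _⟩
  · exact ⟨y, Commute.refl y, fun t ht => K.W_y ht, rfl, mem_zpowers y⟩
  · refine ⟨y * y, (Commute.refl y).mul_left (Commute.refl y), fun t ht => ?_, by group,
      mul_mem (mem_zpowers y) (mem_zpowers y)⟩
    rw [show y * y * t * (y * y)⁻¹ = y * (y * t * y⁻¹) * y⁻¹ by group]
    exact K.W_y (K.W_y ht)

/-- An element of the centralizer of `b` fixing a nontrivial member of `W` centralizes `W`. -/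
theorem comm_W_of_fixed [Finite G] (L : Loc K) {b : G} (hbH : b ∈ K.H) (hb : orderOf b = 7) {n w : G}
    (hnb : Commute n b) (hw : w ∈ K.W) (hw1 : w ≠ 1) (hnw : Commute n w) : ∀ t ∈ K.W, Commute n t := by
  obtain ⟨t0, ht, h0⟩ := K.exists_t0
  obtain ⟨e, hey, heW, he0, hez⟩ := K.W_fixed ht h0 hw hw1
  have hyb : Commute e b := by
    obtain ⟨i, rfl⟩ := mem_zpowers_iff.1 hez
    exact (K.H_comm_y hbH).symm.zpow_left i
  intro t htW
  have hno := K.no_outer L ht h0 hbH hb (d := e⁻¹ * n * e) (conj_eq_iff_commute.1 (by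
      calc e⁻¹ * n * e * t0 * (e⁻¹ * n * e)⁻¹ = e⁻¹ * (n * (e * t0 * e⁻¹) * n⁻¹) * e := by group
        _ = t0 := by rw [he0, conj_eq_iff_commute.2 hnw, ← he0]; group))
    ((hyb.inv_left.mul_left hnb).mul_left hyb)
  have hsurj : ∃ t' ∈ K.W, e * t' * e⁻¹ = t := by
    obtain ⟨⟨t', ht'⟩, e'⟩ := (Finite.injective_iff_surjective
      (f := fun w : K.W => (⟨_, heW w.1 w.2⟩ : K.W))).1 (fun a b e => Subtype.ext
        (mul_left_cancel (mul_right_cancel (congrArg (fun z : K.W => (z : G)) e)))) ⟨t, htW⟩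
    exact ⟨t', ht', congrArg (fun z : K.W => (z : G)) e'⟩
  obtain ⟨t', ht', rfl⟩ := hsurj
  refine conj_eq_iff_commute.1 ?_
  calc n * (e * t' * e⁻¹) * n⁻¹ = e * ((e⁻¹ * n * e) * t' * (e⁻¹ * n * e)⁻¹) * e⁻¹ := by group
    _ = e * t' * e⁻¹ := by rw [conj_eq_iff_commute.2 (hno t' ht')]

theorem cent_WB [Finite G] (L : Loc K) {b : G} (hbH : b ∈ K.H) (hb : orderOf b = 7) {x : G}
    (hxb : Commute x b) (hx : ∀ t ∈ K.W, Commute x t) : ∃ t ∈ K.W, t * x ∈ zpowers b := by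
  obtain ⟨t0, ht, h0⟩ := K.exists_t0
  rcases K.cent_W_D L ht h0 (hx t0 ht) with ⟨t, htW, h, hh, rfl⟩ | ⟨c, hc, hxc⟩
  · refine ⟨t, htW, ?_⟩
    rw [← mul_assoc, K.W_sq htW, one_mul]
    refine K.H_cent_b L hbH hb hh ?_
    have := (K.H_comm_W hbH htW).inv_left.mul_left hxb
    rwa [inv_mul_cancel_left] at this
  · exfalso
    obtain ⟨t1, ht1, -, hn⟩ := K.inv_t1 hc ht h0
    exact hn (conj_eq_iff_commute.1 ((hxc t1 ht1).symm.trans (conj_eq_iff_commute.2 (hx t1 ht1))))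

/-- An element of the centralizer of `b` normalizing `W`, of order prime to three, centralizes `W`. -/
theorem norm_W_comm [Finite G] (L : Loc K) {b : G} (hbH : b ∈ K.H) (hb : orderOf b = 7) {n : G}
    (hnb : Commute n b) (hnW : ∀ t ∈ K.W, n * t * n⁻¹ ∈ K.W) {m : ℕ} (hm : n ^ m = 1) (h3 : ¬ 3 ∣ m) :
    ∀ t ∈ K.W, Commute n t := by
  classical
  haveI : Fintype G := Fintype.ofFinite G
  haveI : Fact (Nat.Prime 2) := ⟨Nat.prime_two⟩
  have hcard : Nat.card {t : G // t ∈ K.W ∧ t ≠ 1} = 3 := by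
    have h1 : (K.W : Set G).ncard = 4 := by rw [← Nat.card_coe_set_eq]; exact K.card_W
    have h2 : Nat.card {t : G // t ∈ K.W ∧ t ≠ 1} = ((K.W : Set G) \ {1}).ncard := Nat.card_coe_set_eq _
    rw [h2, Set.ncard_sdiff_singleton_of_mem K.W.one_mem, h1]
  let f : {t : G // t ∈ K.W ∧ t ≠ 1} → {t : G // t ∈ K.W ∧ t ≠ 1} := fun t =>
    ⟨n * t.1 * n⁻¹, hnW _ t.2.1, fun h => t.2.2 (conj_eq_one_iff.1 h)⟩
  have hf : Function.Bijective f := (Finite.injective_iff_bijective).1 fun a b e =>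
    Subtype.ext (mul_left_cancel (mul_right_cancel (congrArg Subtype.val e)))
  set σ := Equiv.ofBijective f hf with hσ
  have hpow : ∀ (k : ℕ) (t : {t : G // t ∈ K.W ∧ t ≠ 1}), ((σ ^ k) t).1 = n ^ k * t.1 * (n ^ k)⁻¹ := by
    intro k
    induction k with
    | zero => intro t; simp
    | succ k ih =>
      intro t
      rw [pow_succ', Equiv.Perm.mul_apply, pow_succ']
      show n * ((σ ^ k) t).1 * n⁻¹ = _
      rw [ih]; group
  have hσm : σ ^ m = 1 := Equiv.ext fun t => Subtype.ext (by rw [hpow, hm]; simp)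
  have hσ6 : σ ^ 6 = 1 := by
    have h := pow_card_eq_one' (x := σ)
    rwa [Nat.card_perm, hcard] at h
  have hσ2 : σ ^ 2 = 1 := by
    have hg := pow_gcd_eq_one.2 ⟨hσ6, hσm⟩
    have hd : Nat.gcd 6 m ∣ 2 := by
      have h6 : Nat.gcd 6 m ∣ 2 * 3 := Nat.gcd_dvd_left 6 m
      refine (Nat.Coprime.dvd_mul_right ?_).1 h6
      exact ((Nat.prime_three.coprime_iff_not_dvd).2 fun h => h3 (h.trans (Nat.gcd_dvd_right 6 m))).symm
    obtain ⟨q, hq⟩ := hd
    rw [hq, pow_mul, hg, one_pow]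
  obtain ⟨t, ht⟩ := Equiv.Perm.exists_fixed_point_of_prime (p := 2) (n := 1) (σ := σ)
    (by rw [← Nat.card_eq_fintype_card, hcard]; norm_num) (by rwa [pow_one])
  exact K.comm_W_of_fixed L hbH hb hnb t.2.1 t.2.2 (conj_eq_iff_commute.1 (congrArg Subtype.val ht))

theorem card_cent_seven [Finite G] (L : Loc K) (hcy : Nat.card (centralizer ({y} : Set G)) = 9797760) {b : G}
    (hbH : b ∈ K.H) (hb : orderOf b = 7) : Nat.card (centralizer ({b} : Set G)) = 84 := by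
  haveI : Fact (Nat.Prime 2) := ⟨Nat.prime_two⟩
  haveI : Fact (Nat.Prime 3) := ⟨Nat.prime_three⟩
  have hby : Commute b y := K.H_comm_y hbH
  have hb7 : b ^ 7 = 1 := by rw [← hb, pow_orderOf_eq_one]
  have hzb : ∀ z ∈ zpowers b, z ^ 7 = 1 := fun z hz => by
    obtain ⟨j, rfl⟩ := mem_zpowers_iff.1 hz
    rw [← zpow_natCast, ← zpow_mul, mul_comm, zpow_mul, zpow_natCast, hb7, one_zpow]
  -- the complement at three
  have hy3 : Nat.card (zpowers y) = 3 := by rw [Nat.card_zpowers, orderOf_eq_prime K.cube K.y_ne]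
  obtain ⟨P0, hP0M, hP0c, h30, hP0k, -⟩ := exists_complement (p := 3) (centralizer ({b} : Set G)) (zpowers y)
    (zpowers_le.2 (mem_centralizer_singleton_iff.2 hby.symm.eq))
    (IsPGroup.of_card (n := 1) (by rw [hy3, pow_one]))
    (fun x hxb hx ⟨k, hk⟩ => by
      have hxy := K.comm_of_norm L hcy hbH hb (mem_centralizer_singleton_iff.1 hxb) (hx y (mem_zpowers y))
      obtain ⟨i, hi⟩ := L.seven b x hby hb hxy (mem_centralizer_singleton_iff.1 hxb)
      have h1 : x * y ^ i = 1 := by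
        refine coprime_trivial (m := 3 ^ (k + 1)) (n := 7) ?_ (hzb _ hi) (Nat.Coprime.pow_left _ (by norm_num))
        rw [(show Commute x y from hxy).pow_right i |>.mul_pow, pow_succ, pow_mul, hk, one_pow, one_mul,
          ← pow_mul, show i * (3 ^ k * 3) = 3 * (i * 3 ^ k) by ring, pow_mul, K.cube, one_pow]
      rw [eq_inv_of_mul_eq_one_left h1]
      exact inv_mem (pow_mem (mem_zpowers y) i))
    (fun x hxb hx a ha => by
      have hxy := K.comm_of_norm L hcy hbH hb (mem_centralizer_singleton_iff.1 hxb) (hx y (mem_zpowers y))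
      obtain ⟨j, rfl⟩ := mem_zpowers_iff.1 ha
      exact (show Commute x y from hxy).zpow_right j)
  have hWP0 : K.W ≤ P0 := fun t ht => hP0k t (mem_centralizer_singleton_iff.2 (K.H_comm_W hbH ht).eq) 2
    (by rw [pow_two]; exact K.W_sq ht) (by norm_num)
  have hbP0 : b ∈ P0 := hP0k b (mem_centralizer_singleton_iff.2 rfl) 7 hb7 (by norm_num)
  have hP0b : ∀ a ∈ P0, Commute a b := fun a ha => mem_centralizer_singleton_iff.1 (hP0M ha)
  -- the complement at two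
  obtain ⟨O, hOP, hOc, h20, hOk, hOn⟩ := exists_complement (p := 2) P0 K.W hWP0
    (IsPGroup.of_card (n := 2) (by rw [K.card_W]; norm_num))
    (fun n hn hnW ⟨k, hk⟩ => by
      have hcomm := K.norm_W_comm L hbH hb (hP0b n hn) hnW hk (fun h => by
        have := Nat.prime_three.dvd_of_dvd_pow h
        norm_num at this)
      obtain ⟨t, htW, htn⟩ := K.cent_WB L hbH hb (hP0b n hn) hcomm
      have h1 : t * n = 1 := by
        refine coprime_trivial (m := 2 ^ (k + 1)) (n := 7) ?_ (hzb _ htn) (Nat.Coprime.pow_left _ (by norm_num))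
        rw [(hcomm t htW).symm.mul_pow, pow_succ', pow_mul, pow_two, K.W_sq htW, one_pow, one_mul, mul_comm,
          pow_mul, hk, one_pow]
      rw [eq_inv_of_mul_eq_one_right h1]
      exact K.W.inv_mem htW)
    (fun n hn hnW => by
      refine K.norm_W_comm L hbH hb (hP0b n hn) hnW (pow_orderOf_eq_one n) (fun h => h30 ?_)
      rw [← Subgroup.orderOf_mk n hn] at h
      exact h.trans (orderOf_dvd_natCard _))
  have hbO : b ∈ O := hOk b hbP0 7 hb7 (by norm_num)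
  have hodd : ∀ a ∈ O, a * a = 1 → a = 1 := fun a ha h => by
    exact coprime_trivial (m := Nat.card O) (n := 2) (pow_card_mem ha)
      (by rw [pow_two, h]) ((Nat.prime_two.coprime_iff_not_dvd).2 h20).symm
  have hfix : ∀ t ∈ K.W, t ≠ 1 → ∀ a ∈ O, Commute a t → a ∈ zpowers b := by
    intro t ht ht1 a ha hat
    have hab := hP0b a (hOP ha)
    obtain ⟨t', ht', hta⟩ := K.cent_WB L hbH hb hab (K.comm_W_of_fixed L hbH hb hab ht ht1 hat)
    have h1 : t' ∈ O := by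
      have := mul_mem (zpowers_le.2 hbO hta) (inv_mem ha)
      rwa [mul_inv_cancel_right] at this
    rwa [hodd t' h1 (K.W_sq ht'), one_mul] at hta
  obtain ⟨t0, ht, h0⟩ := K.exists_t0
  have ht1 : t0 ≠ 1 := K.t0_ne h0
  have hy0 := K.W_y ht
  have hne : t0 * (y * t0 * y⁻¹) ≠ 1 := fun e => by
    have h2 : y * t0 * y⁻¹ = t0 := by
      rw [eq_inv_of_mul_eq_one_right e, inv_eq_of_mul_eq_one_right (K.W_sq ht)]
    exact ht1 (K.W_fpf ht (conj_eq_iff_commute.1 h2))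
  have hOW : ∀ t ∈ K.W, ∀ a ∈ O, t * a * t ∈ O := fun t ht a ha => by
    have := hOn t (hWP0 ht) a ha
    rwa [inv_eq_of_mul_eq_one_right (K.W_sq ht)] at this
  have hBc : ∀ t ∈ K.W, ∀ z ∈ zpowers b, Commute z t := fun t ht z hz => by
    obtain ⟨j, rfl⟩ := mem_zpowers_iff.1 hz
    exact (K.H_comm_W hbH ht).symm.zpow_left j
  have hOb : O = zpowers b := eq_of_three (zpowers_le.2 hbO) h20 (fun z hz a ha => by
      obtain ⟨j, rfl⟩ := mem_zpowers_iff.1 hz
      exact (hP0b a (hOP ha)).symm.zpow_left j)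
    (K.W_sq ht) (K.W_sq hy0) (K.W_comm ht hy0)
    (hOW _ ht) (hOW _ hy0) (hBc _ ht) (hBc _ hy0)
    (hfix _ ht ht1) (hfix _ hy0 fun e => ht1 (conj_eq_one_iff.1 e)) (hfix _ (K.W.mul_mem ht hy0) hne)
  rw [hP0c, hOc, hy3, K.card_W, hOb, Nat.card_zpowers, hb]

theorem card_norm_seven [Finite G] (L : Loc K) (hcy : Nat.card (centralizer ({y} : Set G)) = 9797760) {b : G}
    (hbH : b ∈ K.H) (hb : orderOf b = 7) : Nat.card (normalizer (zpowers b : Set G)) = 504 := by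
  classical
  haveI : Fintype G := Fintype.ofFinite G
  have hM := K.card_cent_seven L hcy hbH hb
  obtain ⟨t0, ht, h0⟩ := K.exists_t0
  obtain ⟨c, hc⟩ := K.exists_inv
  obtain ⟨t1, ht1, -, hnc⟩ := K.inv_t1 hc ht h0
  set N := normalizer (zpowers b : Set G) with hN
  have h := card_orbit_conj N b
  have e : N ⊓ centralizer ({b} : Set G) = centralizer ({b} : Set G) := inf_eq_right.2 fun x hx =>
    mem_normalizer_of (by rw [conj_eq_iff_commute.2 (mem_centralizer_singleton_iff.1 hx)]; exact mem_zpowers b)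
  rw [e, hM] at h
  rw [← h]
  -- the exponents realized
  have hexp : ∀ n ∈ N, ∃ k, k < 7 ∧ n * b * n⁻¹ = b ^ k := fun n hn => by
    have := (mem_normalizer_iff.1 hn b).1 (mem_zpowers b)
    rw [mem_zpowers_iff_mem_range_orderOf, Finset.mem_image] at this
    obtain ⟨k, hk, e⟩ := this
    rw [hb, Finset.mem_range] at hk
    exact ⟨k, hk, e.symm⟩
  have hmul : ∀ {n n' : G} {k k' : ℕ}, n * b * n⁻¹ = b ^ k → n' * b * n'⁻¹ = b ^ k' →
      n * n' * b * (n * n')⁻¹ = b ^ (k * k') := fun {n n' k k'} h h' => by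
    rw [show n * n' * b * (n * n')⁻¹ = n * (n' * b * n'⁻¹) * n⁻¹ by group, h', ← conj_pow, h, ← pow_mul]
  obtain ⟨x, ⟨hxH, hxN⟩, hxb⟩ : ∃ x ∈ (K.H ⊓ N : Subgroup G), x ∉ zpowers b := by
    by_contra hne
    push Not at hne
    have := card_le_of_le (show K.H ⊓ N ≤ zpowers b from hne)
    rw [K.card_NH L hbH hb, Nat.card_zpowers, hb] at this
    norm_num at this
  obtain ⟨kx, hkx, hxk⟩ := hexp x hxN
  have hbc : c * b * c⁻¹ ∈ K.H := (K.inv_H hc hbH).1
  obtain ⟨g, hg, hgb⟩ := (norm_seven K.H hbH hb (by rw [K.card_H L]; norm_num)).2.2 _ hbc (by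
    rw [show c * b * c⁻¹ = MulAut.conj c b by simp, MulEquiv.orderOf_eq, hb])
  have hnN : g * c ∈ N := mem_normalizer_of (by
    rwa [show g * c * b * (g * c)⁻¹ = g * (c * b * c⁻¹) * g⁻¹ by group])
  obtain ⟨kn, hkn, hnk⟩ := hexp _ hnN
  have hbk : ∀ k, b ^ k = b ^ (k % 7) := fun k => by rw [← hb, pow_mod_orderOf]
  have hpow_x : ∀ i : ℕ, x ^ i * b * (x ^ i)⁻¹ = b ^ kx ^ i := by
    intro i
    induction i with
    | zero => simp
    | succ i ih => rw [pow_succ' x, pow_succ' kx]; exact hmul hxk ih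
  have hx1 : kx ≠ 1 := fun e => hxb (K.H_cent_b L hbH hb hxH (conj_eq_iff_commute.1 (by rw [hxk, e, pow_one])))
  have hx0 : kx ≠ 0 := fun e => by
    rw [e, pow_zero, conj_eq_one_iff] at hxk
    rw [hxk, orderOf_one] at hb; omega
  have hx3 : kx ^ 3 % 7 = 1 := by
    have hm : x ^ 21 = 1 := by
      have h := pow_card_eq_one' (x := (⟨x, hxH, hxN⟩ : (K.H ⊓ N : Subgroup G)))
      rw [K.card_NH L hbH hb] at h
      exact congrArg Subtype.val h
    have h := hpow_x 21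
    rw [hm, one_mul, inv_one, mul_one] at h
    have h2 := (pow_eq_pow_iff_modEq (x := b) (n := kx ^ 21) (m := 1)).1 (by rw [pow_one]; exact h.symm)
    rw [hb] at h2
    exact (by decide +kernel : ∀ k < 7, k ^ 21 % 7 = 1 → k ^ 3 % 7 = 1) kx hkx h2
  have hnouter : ∀ i, kx ^ i * kn % 7 ≠ 1 := by
    intro i hi
    have h := hmul (hpow_x i) hnk
    rw [hbk, hi, pow_one] at h
    have hc0 : Commute c t0 := conj_eq_iff_commute.1 (K.inv_t0 hc ht h0)
    have hxi := pow_mem hxH i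
    have := K.no_outer L ht h0 hbH hb (d := x ^ i * (g * c))
      ((K.H_comm_W hxi ht).symm.mul_left ((K.H_comm_W hg ht).symm.mul_left hc0)) (conj_eq_iff_commute.1 h) t1 ht1
    refine hnc ?_
    have h2 := (K.H_comm_W (mul_mem hxi hg) ht1).symm.inv_left.mul_left this
    rwa [show (x ^ i * g)⁻¹ * (x ^ i * (g * c)) = c by group] at h2
  have hkn0 : kn ≠ 0 := fun e => by
    rw [e, pow_zero, conj_eq_one_iff] at hnk
    rw [hnk, orderOf_one] at hb; omega
  have hall : ∀ kx < 7, kx ≠ 0 → kx ≠ 1 → kx ^ 3 % 7 = 1 → ∀ kn < 7, kn ≠ 0 →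
      (∀ i ∈ Finset.range 3, kx ^ i * kn % 7 ≠ 1) → ∀ k < 7, k ≠ 0 →
      ∃ i ∈ Finset.range 3, kx ^ i % 7 = k ∨ kx ^ i * kn % 7 = k := by decide +kernel
  have horb : ∀ k, k < 7 → k ≠ 0 → ∃ n ∈ N, n * b * n⁻¹ = b ^ k := by
    intro k hk hk0
    obtain ⟨i, -, e | e⟩ := hall kx hkx hx0 hx1 hx3 kn hkn hkn0 (fun i _ => hnouter i) k hk hk0
    · exact ⟨x ^ i, pow_mem hxN i, by rw [hpow_x, hbk, e]⟩
    · exact ⟨x ^ i * (g * c), mul_mem (pow_mem hxN i) hnN, by rw [hmul (hpow_x i) hnk, hbk, e]⟩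
  have hset : (Finset.univ.filter fun z : G => ∃ n ∈ N, n * b * n⁻¹ = z) =
      ((Finset.range 7).erase 0).image (b ^ ·) := by
    ext z
    simp only [Finset.mem_filter, Finset.mem_univ, true_and, Finset.mem_image, Finset.mem_erase, Finset.mem_range]
    constructor
    · rintro ⟨n, hn, rfl⟩
      obtain ⟨k, hk, e⟩ := hexp n hn
      refine ⟨k, ⟨fun e0 => ?_, hk⟩, e.symm⟩
      rw [e0, pow_zero, conj_eq_one_iff] at e
      rw [e, orderOf_one] at hb; omega
    · rintro ⟨k, ⟨hk0, hk⟩, rfl⟩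
      exact horb k hk hk0
  rw [Nat.card_eq_fintype_card, Fintype.card_subtype, hset, Finset.card_image_of_injOn]
  · rfl
  · intro i hi j hj e
    simp only [Finset.coe_erase, Set.mem_sdiff, Finset.coe_range, Set.mem_Iio] at hi hj
    exact pow_injOn_Iio_orderOf (by rw [Set.mem_Iio, hb]; exact hi.1) (by rw [Set.mem_Iio, hb]; exact hj.1) e

end Conf

end CfsgLib.SuzTwoB
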