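import Cfsg.Agent.Lib.SuzTwoB.Cent

/-!
# The centralizer of a commuting pair of the two classes
-/

set_option autoImplicit false
set_option linter.style.haveILetI false
set_option synthInstance.maxSize 20000
set_option maxRecDepth 10000

namespace CfsgLib.SuzTwoB

open CfsgLib.Classical.Quad CfsgLib.SuzType Subgroup

universe u

variable {G : Type u} [Group G]

/-- The coordinates commuting with the representative. -/
def L0 (w v : W4) : Prop := cu w0 vd w v = 0 ∧ cs w0 vd w v = 0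

/-- The coordinates fixed by the rotation. -/
def LP (w v : W4) : Prop := InP w ∧ InP v

/-- The coordinates on one of the two lines. -/
def LL (i : Bool) (w v : W4) : Prop := InL i w ∧ InL i v

instance : DecidablePred fun k : W4 × W4 => L0 k.1 k.2 := fun k => inferInstanceAs (Decidable (_ ∧ _))
instance : DecidablePred fun k : W4 × W4 => LP k.1 k.2 := fun k => inferInstanceAs (Decidable (_ ∧ _))
instance (i : Bool) : DecidablePred fun k : W4 × W4 => LL i k.1 k.2 :=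
  fun k => inferInstanceAs (Decidable (_ ∧ _))

theorem L0_add (w v w' v' : W4) (h : L0 w v) (h' : L0 w' v') : L0 (w + w') (v + v') := by
  obtain ⟨a, b⟩ := h
  obtain ⟨a', b'⟩ := h'
  simp only [L0, cu, cs, B4_add_left, B4_add_right] at a b a' b' ⊢
  constructor
  · linear_combination a + a'
  · linear_combination b + b'

theorem L0_zero : L0 0 0 := by simp [L0, cu, cs]

theorem LP_sub : ∀ w v : W4, InP w → InP v → cu w0 vd w v = 0 ∧ cs w0 vd w v = 0 := fun w v hw hv =>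
  InA_InP_comm w0 w v (by decide) hw hv |> fun h => by
    rwa [show rho w0 = vd by decide] at h

theorem InL_q : ∀ i, ∀ w : W4, InL i w → q4 w = 0 := by decide +kernel

/-- An element inverting the element of order three and normalizing the four-group. -/
structure Inv {S : Sys G} {s u y : G} {π π' : G → V6} (K : Conf S s u y π π') (c : G) : Prop where
  comm : Commute c s
  move : c * u * c⁻¹ = u * s
  inv : c * y * c⁻¹ = y⁻¹
  coord : ∀ {x : G} {w v : W4}, P S s u π x w v →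
    P S s u π (c * x * c⁻¹) (r4 w0 (r4 w11 w)) (r4 w0 (r4 w11 v) + r4 w0 (r4 w11 w))

namespace Conf

variable {S : Sys G} {s u y : G} {π π' : G → V6} (K : Conf S s u y π π')

/-- The elements commuting with the four-group. -/
def Z0 (K : Conf S s u y π π') : Subgroup G := K.pair.grp L0 L0_zero L0_add

/-- The Sylow subgroup. -/
def Sg (K : Conf S s u y π π') : Subgroup G :=
  K.pair.grp LP ⟨InU_zero.2.1, InU_zero.2.1⟩ fun _ _ _ _ h h' => ⟨InP_add _ _ h.1 h'.1, InP_add _ _ h.2 h'.2⟩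

/-- The two elementary subgroups. -/
def Eg (K : Conf S s u y π π') (i : Bool) : Subgroup G :=
  K.pair.grp (LL i) ⟨InU_zero.2.2.2 i, InU_zero.2.2.2 i⟩ fun _ _ _ _ h h' =>
    ⟨InL_add i _ _ h.1 h'.1, InL_add i _ _ h.2 h'.2⟩

/-- The centralizer of the four-group and the element of order three. -/
def H (K : Conf S s u y π π') : Subgroup G :=
  centralizer (K.W : Set G) ⊓ centralizer ({y} : Set G)

include K

theorem mem_H {x : G} : x ∈ K.H ↔ (∀ t ∈ K.W, Commute t x) ∧ Commute x y := by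
  rw [H, Subgroup.mem_inf, mem_centralizer_singleton_iff, mem_centralizer_iff]
  rfl

theorem exists_t0 : ∃ t0 ∈ K.W, P S s u π t0 w0 vd := by
  obtain ⟨x, hx, hP⟩ := K.W_exists (w := w0) (by decide)
  rw [show rho w0 = vd by decide] at hP
  exact ⟨x, hx, hP⟩

theorem exists_inv : ∃ c, Inv K c := by
  obtain ⟨c0, hc0, hc0u⟩ := K.pair.left.lift_stab K.pair.memE K.pair.hu I0_mem I0_u0
  have h1 : Acts s (S.E s) π (c0 * y * c0⁻¹) R⁻¹ :=
    I0_R ▸ K.pair.left.acts_mul (K.pair.left.acts_mul hc0 K.hy) (K.pair.left.acts_inv hc0)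
  have h1c : (c0 * y * c0⁻¹) ^ 3 = 1 := by rw [conj_pow, K.cube, mul_one, mul_inv_cancel]
  obtain ⟨f, hf, hfy, hfπ⟩ := K.pair.left.exists_conj3 h1 (K.pair.left.acts_inv K.hy) h1c
    (by rw [inv_pow, K.cube, inv_one])
  have hfu : Commute f u := by
    have he : y⁻¹ * (c0 * y * c0⁻¹)⁻¹ ∈ S.E s := K.pair.left.faith _ (by
      have := K.pair.left.acts_mul (K.pair.left.acts_inv K.hy) (K.pair.left.acts_inv h1)
      rwa [inv_inv, inv_mul_cancel] at this)
    have hb := K.pair.qu_coord he (K.yu.inv_left.mul_left ((hc0u.mul_left K.yu).mul_left hc0u.inv_left).inv_left)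
    have hperp : B6 (π (y⁻¹ * (c0 * y * c0⁻¹)⁻¹)) u0 = 0 := by
      revert hb
      generalize π (y⁻¹ * (c0 * y * c0⁻¹)⁻¹) = v
      intro hb
      simp [B6, u0, hb]
    refine K.pair.comm_of_perp hf ?_
    rw [hfπ]
    conv_lhs => arg 2; rw [← K.pair.acts_fix (K.pair.left.acts_inv K.hy) K.yu.inv_left]
    rw [B6_g, hperp]
  obtain ⟨Y, hY, hYπ⟩ := K.pair.left.surj v0
  have hc1 : Acts s (S.E s) π (f * c0) I0 := by
    simpa using K.pair.left.acts_mul (K.pair.left.acts_mem hf) hc0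
  have hc1u : Commute (f * c0) u := hfu.mul_left hc0u
  have hYy : Commute y Y := K.pair.left.commute_of_fix K.hy K.cube hY (by rw [hYπ, R_v0])
  have hYu : Y * u * Y⁻¹ = u * s := by
    rw [K.pair.left.conj_eq hY K.pair.memE, hYπ, K.pair.hu, show B6 v0 u0 = 1 from rfl, pw_one]
  refine ⟨Y * (f * c0), (K.pair.left.le_cent Y hY).mul_left hc1.1, ?_, ?_, ?_⟩
  · rw [show Y * (f * c0) * u * (Y * (f * c0))⁻¹ = Y * (f * c0 * u * (f * c0)⁻¹) * Y⁻¹ by group,
      conj_eq_iff_commute.2 hc1u, hYu]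
  · rw [show Y * (f * c0) * y * (Y * (f * c0))⁻¹ = Y * (f * (c0 * y * c0⁻¹) * f⁻¹) * Y⁻¹ by group, hfy,
      conj_eq_iff_commute.2 hYy.symm.inv_right]
  · intro x w v h
    have h2 := K.pair.P_conj hc1 hc1u h
    rw [hW_I0, hW_I0] at h2
    have h3 := K.pair.P_shift hY (by rw [hYπ]; rfl) h2
    rwa [show Y * (f * c0 * x * (f * c0)⁻¹) * Y⁻¹ = Y * (f * c0) * x * (Y * (f * c0))⁻¹ by group] at h3

theorem inv_W {c : G} (hc : Inv K c) {x : G} (hx : x ∈ K.W) : c * x * c⁻¹ ∈ K.W := by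
  obtain ⟨w, hw, hP⟩ := K.W_coord hx
  have hA : K.memA (c * x * c⁻¹) := ⟨_, _, hc.coord hP, I0_facts w hw⟩
  refine ⟨hA, ?_⟩
  obtain ⟨a, ha⟩ : ∃ a, c * x * c⁻¹ = a := ⟨_, rfl⟩
  rw [ha] at hA ⊢
  have hy3 : y * y * y = 1 := by rw [← pow_two, ← pow_succ, K.cube]
  have hyi : y⁻¹ = y * y := inv_eq_of_mul_eq_one_right (by rw [← mul_assoc, hy3])
  have e1 : c * (y * x * y⁻¹) * c⁻¹ = y * (y * a * y⁻¹) * y⁻¹ := by
    rw [← ha, show c * (y * x * y⁻¹) * c⁻¹ = (c * y * c⁻¹) * (c * x * c⁻¹) * (c * y * c⁻¹)⁻¹ by group, hc.inv]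
    rw [show ∀ b, y⁻¹ * b * y⁻¹⁻¹ = y * y * b * (y * y)⁻¹ from fun b => by rw [hyi]]
    group
  have e2 : c * (y * (y * x * y⁻¹) * y⁻¹) * c⁻¹ = y * a * y⁻¹ := by
    rw [show c * (y * (y * x * y⁻¹) * y⁻¹) * c⁻¹ = (c * y * c⁻¹) * (c * (y * x * y⁻¹) * c⁻¹) * (c * y * c⁻¹)⁻¹
      by group, hc.inv, e1]
    group
  calc a * (y * a * y⁻¹) * (y * (y * a * y⁻¹) * y⁻¹)
      = a * ((y * a * y⁻¹) * (y * (y * a * y⁻¹) * y⁻¹)) := by group
    _ = a * ((y * (y * a * y⁻¹) * y⁻¹) * (y * a * y⁻¹)) := by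
        rw [(K.A_comm (K.A_y hA) (K.A_y (K.A_y hA))).eq]
    _ = c * (x * (y * x * y⁻¹) * (y * (y * x * y⁻¹) * y⁻¹)) * c⁻¹ := by
        rw [← e1, ← e2, ← ha]; group
    _ = 1 := by rw [hx.2]; group

theorem inv_t0 {c : G} (hc : Inv K c) {t0 : G} (ht : t0 ∈ K.W) (h0 : P S s u π t0 w0 vd) :
    c * t0 * c⁻¹ = t0 := by
  have h := hc.coord h0
  rw [I0_values.1] at h
  exact K.W_unique (K.inv_W hc ht) ht h h0

theorem fix_u {x : G} (hxs : Commute x s) {t0 : G} (h0 : P S s u π t0 w0 vd) (hx : Commute x t0) :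
    x * u * x⁻¹ = u ∨ x * u * x⁻¹ = u * s := by
  obtain ⟨g, -, hg⟩ := K.pair.left.act x hxs
  have hcomm : ∀ z, g.1 ((sg w0).1 z) = (sg w0).1 (g.1 z) := fun z => by
    have h1 := K.pair.left.acts_mul hg (K.pair.P_acts h0)
    have h2 := K.pair.left.acts_mul (K.pair.P_acts h0) hg
    rw [hx.eq] at h1
    have := congrArg (fun k : Orth Q6 => k.1 z) (K.pair.left.acts_unique h1 h2)
    simpa only [mul_apply] using this
  have hgu : g.1 u0 = u0 := by
    have h := hcomm (emb vd)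
    rw [v6_add_eq (sg_move w0 (emb vd)), v6_add_eq (sg_move w0 (g.1 (emb vd))),
      show ((B4 (emb vd).2.2 w0 + q4 w0 * (emb vd).2.1, 0, (emb vd).2.1 • w0) : V6) = u0 by decide,
      g_add, add_left_inj] at h
    have hq : q6 (g.1 u0) = 0 := by rw [q6_g]; rfl
    have hne : g.1 u0 ≠ 0 := by rw [Ne, LinearEquiv.map_eq_zero_iff]; decide
    rw [h] at hq hne ⊢
    revert hq hne
    generalize B4 (g.1 (emb vd)).2.2 w0 + q4 w0 * (g.1 (emb vd)).2.1 = a
    generalize (g.1 (emb vd)).2.1 = b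
    revert a b; decide
  refine (K.pair.left.eq_of_map (K.pair.left.normal x hxs u K.pair.memE) K.pair.memE ?_)
  rw [hg.2 u K.pair.memE, K.pair.hu, hgu]

theorem mem_Z0_of {x : G} (hxs : Commute x s) (hxu : Commute x u) {t0 : G} (h0 : P S s u π t0 w0 vd)
    (hx : Commute x t0) : x ∈ K.Z0 := by
  obtain ⟨g, hE, hg⟩ := K.pair.left.act x hxs
  have hgu := K.pair.acts_fix hg hxu
  have h1 := K.pair.P_conj hg hxu h0
  rw [conj_eq_iff_commute.2 hx] at h1
  obtain ⟨e1, e2⟩ := K.pair.P_unique h1 h0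
  rw [K.pair.sg_core hE hgu e1 e2] at hg
  obtain ⟨v, hv⟩ := K.pair.P_of_acts hg hxu
  exact ⟨_, v, hv, (K.pair.P_commute_iff h0 hv).1 hx.symm⟩

theorem Z0_W {x t : G} (hx : x ∈ K.Z0) (ht : t ∈ K.W) : Commute t x := by
  obtain ⟨w, v, hP, hL⟩ := hx
  obtain ⟨w', hw', hP'⟩ := K.W_coord ht
  exact (K.pair.P_commute_iff hP' hP).2 (cent_t0 w v hL.1 hL.2 w' hw')

theorem Z0_su {x : G} (hx : x ∈ K.Z0) : Commute x s ∧ Commute x u := by
  obtain ⟨w, v, hP, -⟩ := hx
  exact K.pair.P_comm_su hP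

theorem cent_cases {c : G} (hc : Inv K c) {x : G} (hxs : Commute x s) {t0 : G} (ht : t0 ∈ K.W)
    (h0 : P S s u π t0 w0 vd) (hx : Commute x t0) : x ∈ K.Z0 ∨ c⁻¹ * x ∈ K.Z0 := by
  rcases K.fix_u hxs h0 hx with e | e
  · exact Or.inl (K.mem_Z0_of hxs (conj_eq_iff_commute.1 e) h0 hx)
  · refine Or.inr (K.mem_Z0_of (hc.comm.inv_left.mul_left hxs) (conj_eq_iff_commute.1 ?_) h0
      ((conj_eq_iff_commute.1 (K.inv_t0 hc ht h0)).inv_left.mul_left hx))
    rw [show c⁻¹ * x * u * (c⁻¹ * x)⁻¹ = c⁻¹ * (x * u * x⁻¹) * c by group, e, ← hc.move]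
    group

/-- An element inverting `y` moves the four-group. -/
theorem inv_not_cent {c : G} (hc : Inv K c) : ∃ t ∈ K.W, ¬ Commute c t := by
  obtain ⟨t, ht, hP⟩ := K.W_exists (w := vd) (by decide)
  refine ⟨t, ht, fun h => ?_⟩
  have h' := hc.coord hP
  rw [conj_eq_iff_commute.2 h, I0_values.2] at h'
  exact absurd (K.pair.P_unique h' hP).1 (by decide)

theorem cent_W {x : G} (hxs : Commute x s) (hx : ∀ t ∈ K.W, Commute t x) : x ∈ K.Z0 := by
  obtain ⟨c, hc⟩ := K.exists_inv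
  obtain ⟨t0, ht, h0⟩ := K.exists_t0
  refine (K.cent_cases hc hxs ht h0 (hx t0 ht).symm).resolve_right fun h => ?_
  obtain ⟨t, htW, hn⟩ := K.inv_not_cent hc
  refine hn ?_
  have h1 := ((hx t htW).mul_right (K.Z0_W h htW).inv_right).symm
  rwa [mul_inv_rev, inv_inv, mul_inv_cancel_left] at h1

theorem mem_Sg_iff {x : G} : x ∈ K.Sg ↔ x ∈ K.H ∧ Commute x s := by
  constructor
  · rintro ⟨w, v, hP, hw, hv⟩
    have hZ : x ∈ K.Z0 := ⟨w, v, hP, LP_sub w v hw hv⟩
    exact ⟨K.mem_H.2 ⟨fun t ht => K.Z0_W hZ ht, ((K.y_commute_iff hP).2 ⟨hw, hv⟩).symm⟩, (K.Z0_su hZ).1⟩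
  · rintro ⟨hH, hxs⟩
    obtain ⟨h1, h2⟩ := K.mem_H.1 hH
    obtain ⟨w, v, hP, -⟩ := K.cent_W hxs h1
    exact ⟨w, v, hP, (K.y_commute_iff hP).1 h2.symm⟩

theorem K_cent [Finite G] {x : G} (hK : S.K x) (hxs : Commute x s) {t0 : G} (ht : t0 ∈ K.W)
    (h0 : P S s u π t0 w0 vd) (hx : Commute x t0) : x ∈ K.Sg := by
  obtain ⟨c, hc⟩ := K.exists_inv
  rcases K.cent_cases hc hxs ht h0 hx with h | h
  · obtain ⟨w, v, hP, hL⟩ := h
    have hw : q4 w = 0 := (zcases _).resolve_right fun e => K.pair.not_K hP e hK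
    obtain ⟨e1, e2⟩ := (K.pair.P_sq_one hP).1 (S.K_sq hK).1
    have hv : q4 v = 0 := by rw [hw, zero_add] at e1; rwa [e1, add_zero] at e2
    exact ⟨w, v, hP, cent_K w v hL.1 hL.2 e1 e2 hw hv⟩
  · exfalso
    obtain ⟨g, -, hg⟩ := K.pair.left.act x hxs
    obtain ⟨Y, hY, hYπ⟩ := K.pair.left.surj v0
    have hgu : g.1 u0 = u0 := by
      rw [← K.pair.hu, ← hg.2 u K.pair.memE]
      rcases K.fix_u hxs h0 hx with e | e <;> rw [e]
      rw [K.pair.left.map_mul _ K.pair.memE _ K.pair.left.mem, K.pair.left.map_s, add_zero]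
    have hYu : Y * u * Y⁻¹ = u * s := by
      rw [K.pair.left.conj_eq hY K.pair.memE, hYπ, K.pair.hu, show B6 v0 u0 = 1 from rfl, pw_one]
    have hus : Commute u (u * s) := (Commute.refl u).mul_right K.pair.comm.symm
    have hxu : Commute (Y⁻¹ * x) u := by
      refine conj_eq_iff_commute.1 ?_
      have e : x * u * x⁻¹ = u * s := by
        refine (K.fix_u hxs h0 hx).resolve_left fun e => ?_
        have h1 : Commute c u := by
          have := (conj_eq_iff_commute.1 e).mul_left (K.Z0_su h).2.inv_left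
          rwa [mul_inv_rev, inv_inv, mul_inv_cancel_left] at this
        have h2 := hc.move
        rw [conj_eq_iff_commute.2 h1, left_eq_mul] at h2
        exact K.pair.left.ne_one h2
      rw [show Y⁻¹ * x * u * (Y⁻¹ * x)⁻¹ = Y⁻¹ * (x * u * x⁻¹) * Y by group, e, ← hYu]
      group
    have hga : Acts s (S.E s) π (Y⁻¹ * x) g := by
      simpa using K.pair.left.acts_mul (K.pair.left.acts_mem ((S.E s).inv_mem hY)) hg
    have hP := K.pair.P_shift hY (by rw [hYπ]; rfl) (K.pair.P_conj hga hxu h0)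
    rw [show Y * (Y⁻¹ * x * t0 * (Y⁻¹ * x)⁻¹) * Y⁻¹ = x * t0 * x⁻¹ by group, conj_eq_iff_commute.2 hx] at hP
    obtain ⟨e1, e2⟩ := K.pair.P_unique hP h0
    rw [e1] at e2
    have hv : hW g vd = vd + w0 := by
      calc hW g vd = hW g vd + w0 + w0 := by rw [add_assoc, w4_add_self, add_zero]
        _ = vd + w0 := by rw [e2]
    have := K.pair.root_of_K hK hxs hg (emb vd)
    rw [hW_spec hgu vd, hv] at this
    revert this
    generalize (g.1 (emb vd)).1 = a
    revert a; decide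

/-- A product with a nontrivial member of the four-group is not in the class. -/
theorem mul_not_K [Finite G] {t k : G} (ht : t ∈ K.W) (ht1 : t ≠ 1) (hk : k ∈ K.Sg) (hkk : k * k = 1) :
    ¬ S.K (t * k) := by
  obtain ⟨w, hw, hP⟩ := K.W_coord ht
  obtain ⟨-, hw1⟩ := K.W_ne ht ht1 hP
  obtain ⟨w', v', hP', hw', hv'⟩ := hk
  obtain ⟨e1, e2⟩ := (K.pair.P_sq_one hP').1 hkk
  refine K.pair.not_K (K.pair.P_mul hP hP') (InP_q_one w hw hw1 w' hw' ?_)
  rcases InP_invol w' v' hw' hv' e1 e2 with h | h <;> exact InL_q _ _ h.1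

theorem W_not_K [Finite G] {t : G} (ht : t ∈ K.W) (ht1 : t ≠ 1) : ¬ S.K t := by
  have := K.mul_not_K ht ht1 K.Sg.one_mem (one_mul 1)
  rwa [mul_one] at this

theorem card_cent_t0 {t0 : G} (ht : t0 ∈ K.W) (h0 : P S s u π t0 w0 vd) :
    Nat.card (centralizer ({t0} : Set G) ⊓ centralizer ({s} : Set G) : Subgroup G) = 512 := by
  classical
  obtain ⟨c, hc⟩ := K.exists_inv
  have hct : Commute c t0 := conj_eq_iff_commute.1 (K.inv_t0 hc ht h0)
  have hmem : ∀ (i : Bool) (z : K.Z0), (if i then c * (z : G) else (z : G)) ∈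
      (centralizer ({t0} : Set G) ⊓ centralizer ({s} : Set G) : Subgroup G) := by
    rintro i ⟨z, hz⟩
    refine Subgroup.mem_inf.2 ⟨mem_centralizer_singleton_iff.2 ?_, mem_centralizer_singleton_iff.2 ?_⟩
    · cases i
      exacts [(K.Z0_W hz ht).symm.eq, (hct.mul_left (K.Z0_W hz ht).symm).eq]
    · cases i
      exacts [(K.Z0_su hz).1.eq, (hc.comm.mul_left (K.Z0_su hz).1).eq]
  have hcZ : c ∉ K.Z0 := fun h => by
    have h2 := hc.move
    rw [conj_eq_iff_commute.2 (K.Z0_su h).2, left_eq_mul] at h2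
    exact K.pair.left.ne_one h2
  have hb : Function.Bijective fun k : Bool × K.Z0 =>
      (⟨_, hmem k.1 k.2⟩ : (centralizer ({t0} : Set G) ⊓ centralizer ({s} : Set G) : Subgroup G)) := by
    constructor
    · rintro ⟨i, a, ha⟩ ⟨j, b, hb⟩ h
      have h' := congrArg (fun z : (centralizer ({t0} : Set G) ⊓ centralizer ({s} : Set G) : Subgroup G) => (z : G)) h
      cases i <;> cases j <;> simp at h'
      · simp [h']
      · exact absurd (eq_mul_inv_of_mul_eq h'.symm ▸ K.Z0.mul_mem ha (K.Z0.inv_mem hb)) hcZ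
      · exact absurd (eq_mul_inv_of_mul_eq h' ▸ K.Z0.mul_mem hb (K.Z0.inv_mem ha)) hcZ
      · simp [h']
    · rintro ⟨x, hx⟩
      obtain ⟨hx1, hx2⟩ := Subgroup.mem_inf.1 hx
      rcases K.cent_cases hc (mem_centralizer_singleton_iff.1 hx2) ht h0 (mem_centralizer_singleton_iff.1 hx1)
        with h | h
      · exact ⟨(false, ⟨x, h⟩), Subtype.ext (by simp)⟩
      · exact ⟨(true, ⟨_, h⟩), Subtype.ext (by simp)⟩
  rw [← Nat.card_eq_of_bijective _ hb, Nat.card_prod, Z0, K.pair.card_grp]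
  rw [show (Finset.univ.filter fun k : W4 × W4 => L0 k.1 k.2).card = 64 by decide +kernel]
  simp

end Conf

end CfsgLib.SuzTwoB
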